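import Mathlib.GroupTheory.SpecificGroups.Alternating
import Mathlib.GroupTheory.SpecificGroups.Alternating.Centralizer
import Mathlib.GroupTheory.Perm.Centralizer
import Mathlib.Tactic

/-! Automorphisms of alternating groups. -/

set_option autoImplicit false

namespace Cfsg.Agent.AutAlt

open Equiv

variable {α : Type} [Fintype α] [DecidableEq α]

/-- The cycle `x ↦ y ↦ z ↦ x`. -/
def c3 (x y z : α) : Perm α := swap x y * swap y z

variable {x y z : α}

omit [Fintype α] in
theorem c3_apply_left (hxy : x ≠ y) (hxz : x ≠ z) : c3 x y z x = y := by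
  rw [c3, Perm.mul_apply, swap_apply_of_ne_of_ne hxy hxz, swap_apply_left]

omit [Fintype α] in
theorem c3_apply_mid (hxz : x ≠ z) (hyz : y ≠ z) : c3 x y z y = z := by
  rw [c3, Perm.mul_apply, swap_apply_left, swap_apply_of_ne_of_ne hxz.symm hyz.symm]

omit [Fintype α] in
theorem c3_apply_right : c3 x y z z = x := by rw [c3, Perm.mul_apply, swap_apply_right, swap_apply_right]

omit [Fintype α] in
theorem c3_apply_other {q : α} (hx : q ≠ x) (hy : q ≠ y) (hz : q ≠ z) : c3 x y z q = q := by
  rw [c3, Perm.mul_apply, swap_apply_of_ne_of_ne hy hz, swap_apply_of_ne_of_ne hx hy]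

theorem c3_isThreeCycle (hxy : x ≠ y) (hxz : x ≠ z) (hyz : y ≠ z) : (c3 x y z).IsThreeCycle := by
  rw [c3, swap_comm x y]
  exact Perm.isThreeCycle_swap_mul_swap_same hxy.symm hyz hxz

theorem eq_c3 {g : Perm α} (hg : g.IsThreeCycle) {a : α} (ha : g a ≠ a) :
    g = c3 a (g a) (g (g a)) ∧ a ≠ g a ∧ a ≠ g (g a) ∧ g a ≠ g (g a) := by
  have hs := Perm.mem_support.mpr ha
  refine ⟨hg.eq_swap_mul_swap_iff_mem_support.mpr hs, ?_⟩
  have := hg.nodup_iff_mem_support.mpr hs
  simpa [List.nodup_cons, and_assoc] using this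

omit [Fintype α] in
theorem c3_rotate (hxy : x ≠ y) (hxz : x ≠ z) (hyz : y ≠ z) : c3 x y z = c3 y z x := by
  ext q
  by_cases h1 : q = x
  · subst h1; rw [c3_apply_left hxy hxz, c3_apply_right]
  by_cases h2 : q = y
  · subst h2; rw [c3_apply_mid hxz hyz, c3_apply_left hyz hxy.symm]
  by_cases h3 : q = z
  · subst h3; rw [c3_apply_right, c3_apply_mid hxy.symm hxz.symm]
  rw [c3_apply_other h1 h2 h3, c3_apply_other h2 h3 h1]

omit [Fintype α] in
theorem conj_c3 (σ : Perm α) (x y z : α) : σ * c3 x y z * σ⁻¹ = c3 (σ x) (σ y) (σ z) := by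
  simp only [c3, swap_apply_apply]
  group

/-- Two 3-cycles with product of order two share an edge with the same orientation. -/
theorem exists_edge {s t : Perm α} (hs : s.IsThreeCycle) (ht : t.IsThreeCycle)
    (h2 : s * t * (s * t) = 1) (h1 : s * t ≠ 1) :
    ∃ p q z w, p ≠ q ∧ p ≠ z ∧ q ≠ z ∧ p ≠ w ∧ q ≠ w ∧ z ≠ w ∧ s = c3 p q z ∧ t = c3 p q w := by
  have hne : s ≠ t := by
    rintro rfl
    have h3 : s ^ 3 = 1 := by rw [← hs.orderOf, pow_orderOf_eq_one]
    apply hs.ne_one
    calc s = (s * s * (s * s)) * (s ^ 3)⁻¹ := by group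
      _ = 1 := by rw [h2, h3, one_mul, inv_one]
  obtain ⟨p, hps, hpt⟩ : ∃ p, s p ≠ p ∧ t p ≠ p := by
    by_contra hcon
    push Not at hcon
    have hd : Perm.Disjoint s t := fun p => by
      by_cases h : s p = p
      · exact Or.inl h
      · exact Or.inr (hcon p h)
    have hc := hd.commute
    have e : s * s * (t * t) = 1 := by
      calc s * s * (t * t) = s * (s * t) * t := by simp only [mul_assoc]
        _ = s * (t * s) * t := by rw [hc.eq]
        _ = s * t * (s * t) := by simp only [mul_assoc]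
        _ = 1 := h2
    have hdd : Perm.Disjoint (s * s) (t * t) := (hd.mul_left hd).mul_right (hd.mul_left hd)
    exact hs.isThreeCycle_sq.ne_one (Perm.Disjoint.mul_eq_one_iff hdd |>.mp e).1
  obtain ⟨es, ds1, ds2, ds3⟩ := eq_c3 hs hps
  obtain ⟨et, dt1, dt2, dt3⟩ := eq_c3 ht hpt
  set y := s p
  set z := s (s p)
  set u := t p
  set v := t (t p)
  have sz : s z = p := by rw [es, c3_apply_right]
  have tv : t v = p := by rw [et, c3_apply_right]
  have sfix : ∀ q, q ≠ p → q ≠ y → q ≠ z → s q = q := fun q a b c => by rw [es, c3_apply_other a b c]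
  have tfix : ∀ q, q ≠ p → q ≠ u → q ≠ v → t q = q := fun q a b c => by rw [et, c3_apply_other a b c]
  have inv2 : ∀ q, s (t (s (t q))) = q := fun q => by
    have := Equiv.ext_iff.mp h2 q
    simpa [Perm.mul_apply] using this
  by_cases huy : u = y
  · have hvz : v ≠ z := fun e => hne (by rw [es, et, huy, e])
    exact ⟨p, y, z, v, ds1, ds2, ds3, dt2, huy ▸ dt3, hvz.symm, es, huy ▸ et⟩
  by_cases hvz : v = z
  · refine ⟨z, p, y, u, ds2.symm, ds3.symm, ds1, ?_, dt1, Ne.symm huy, ?_, ?_⟩
    · rw [← hvz]; exact dt3.symm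
    · rw [es, ← c3_rotate ds2.symm ds3.symm ds1]
    · rw [et, hvz, ← c3_rotate ds2.symm (by rw [← hvz]; exact dt3.symm) dt1]
  by_cases huz : u = z
  · by_cases hvy : v = y
    · refine absurd ?_ h1
      rw [es, et, huz, hvy]
      ext q
      rw [Perm.mul_apply, Perm.one_apply]
      by_cases a : q = p
      · subst a; rw [c3_apply_left ds2 ds1, c3_apply_right]
      by_cases b : q = z
      · subst b; rw [c3_apply_mid ds1 ds3.symm, c3_apply_mid ds2 ds3]
      by_cases c : q = y
      · subst c; rw [c3_apply_right, c3_apply_left ds1 ds2]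
      rw [c3_apply_other a b c, c3_apply_other a c b]
    · exfalso
      have h := inv2 v
      rw [tv, tfix y (Ne.symm ds1) (fun e => huy e.symm) (Ne.symm hvy)] at h
      exact hvz h.symm
  · exfalso
    have hsu : s u = u := sfix u dt1.symm huy huz
    by_cases hvy : v = y
    · have h := inv2 u
      rw [show t u = v from rfl, hvy, show s y = z from rfl, tfix z (Ne.symm ds2) (Ne.symm huz) (Ne.symm hvz), sz] at h
      exact dt1 h
    · have h := inv2 v
      rw [tv, show s p = y from rfl, tfix y (Ne.symm ds1) (fun e => huy e.symm) (Ne.symm hvy),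
        show s y = z from rfl] at h
      exact hvz h.symm

/-- The 3-cycles through a fixed edge generate the alternating group. -/
theorem closure_edge {a b : α} (hab : a ≠ b) (K : Subgroup (Perm α)) (hK : ∀ i, i ≠ a → i ≠ b → c3 a b i ∈ K) :
    alternatingGroup α ≤ K := by
  rw [← Perm.closure_three_cycles_eq_alternating, Subgroup.closure_le]
  have hbj : ∀ i j, i ≠ a → i ≠ b → j ≠ a → j ≠ b → i ≠ j → c3 b j i ∈ K := by
    intro i j hia hib hja hjb hij
    have := K.mul_mem (K.mul_mem (hK j hja hjb) (hK i hia hib)) (K.inv_mem (hK j hja hjb))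
    rwa [conj_c3, c3_apply_left hab (Ne.symm hja), c3_apply_mid (Ne.symm hja) (Ne.symm hjb),
      c3_apply_other hia hib hij] at this
  have haj : ∀ i j, i ≠ a → i ≠ b → j ≠ a → j ≠ b → i ≠ j → c3 j a i ∈ K := by
    intro i j hia hib hja hjb hij
    have := K.mul_mem (K.mul_mem (K.inv_mem (hK j hja hjb)) (hK i hia hib)) (K.inv_mem (K.inv_mem (hK j hja hjb)))
    rw [conj_c3] at this
    have e1 : (c3 a b j)⁻¹ a = j := Perm.inv_eq_iff_eq.mpr c3_apply_right.symm
    have e2 : (c3 a b j)⁻¹ b = a := Perm.inv_eq_iff_eq.mpr (c3_apply_left hab (Ne.symm hja)).symm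
    have e3 : (c3 a b j)⁻¹ i = i := Perm.inv_eq_iff_eq.mpr (c3_apply_other hia hib hij).symm
    rwa [e1, e2, e3] at this
  have hkij : ∀ k i j, k ≠ a → k ≠ b → i ≠ a → i ≠ b → j ≠ a → j ≠ b → k ≠ i → k ≠ j → i ≠ j → c3 k i j ∈ K := by
    intro k i j hka hkb hia hib hja hjb hki hkj hij
    have := K.mul_mem (K.mul_mem (hK k hka hkb) (hbj j i hja hjb hia hib hij.symm)) (K.inv_mem (hK k hka hkb))
    rwa [conj_c3, c3_apply_mid (Ne.symm hka) (Ne.symm hkb), c3_apply_other hia hib (Ne.symm hki),
      c3_apply_other hja hjb (Ne.symm hkj)] at this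
  intro g hg
  show g ∈ K
  by_cases ga : g a = a
  · by_cases gb : g b = b
    · obtain ⟨p, hp⟩ : ∃ p, g p ≠ p := by
        by_contra hcon; push Not at hcon; exact hg.ne_one (Equiv.ext hcon)
      obtain ⟨e, d1, d2, d3⟩ := eq_c3 hg hp
      have f : ∀ c, g c = c → c ≠ p ∧ c ≠ g p ∧ c ≠ g (g p) := fun c hc => by
        exact ⟨fun e' => hp (e' ▸ hc), fun e' => hp (g.injective (e' ▸ hc)),
          fun e' => d3 (g.injective (e' ▸ hc)).symm⟩
      obtain ⟨a1, a2, a3⟩ := f a ga
      obtain ⟨b1, b2, b3⟩ := f b gb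
      rw [e]
      exact hkij _ _ _ a1.symm b1.symm a2.symm b2.symm a3.symm b3.symm d1 d2 d3
    · obtain ⟨e, d1, d2, d3⟩ := eq_c3 hg gb
      have h1 : g b ≠ a := fun h => hab (g.injective (ga.trans h.symm))
      have h2 : g (g b) ≠ a := fun h => h1 (g.injective (h.trans ga.symm))
      rw [e]
      exact hbj (g (g b)) (g b) h2 d2.symm h1 d1.symm d3.symm
  · obtain ⟨e, d1, d2, d3⟩ := eq_c3 hg ga
    rw [e]
    by_cases h1 : g a = b
    · rw [h1]; exact hK _ (by rw [← h1]; exact d2.symm) (by rw [← h1]; exact d3.symm)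
    by_cases h2 : g (g a) = b
    · rw [h2, show c3 a (g a) b = (c3 a b (g a))⁻¹ from ?_]
      · exact K.inv_mem (hK _ (Ne.symm d1) h1)
      · rw [eq_inv_iff_mul_eq_one]
        ext q
        rw [Perm.mul_apply, Perm.one_apply]
        by_cases qa : q = a
        · subst qa; rw [c3_apply_left hab d1, c3_apply_right]
        by_cases qb : q = b
        · subst qb; rw [c3_apply_mid d1 (Ne.symm h1), c3_apply_mid hab h1]
        by_cases qg : q = g a
        · rw [qg, c3_apply_right, c3_apply_left d1 hab]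
        rw [c3_apply_other qa qb qg, c3_apply_other qa qg qb]
    · rw [c3_rotate d1 d2 d3, c3_rotate d3 d1.symm d2.symm]
      exact haj (g a) (g (g a)) (Ne.symm d1) h1 (Ne.symm d2) h2 d3

/-- Twice or once the centraliser order. -/
theorem card_centralizer_alt {n : ℕ} {g : alternatingGroup (Fin n)}
    (hg : ¬ Subgroup.centralizer {(g : Perm (Fin n))} ≤ alternatingGroup (Fin n)) (h2 : 2 ≤ n) :
    2 * Nat.card (Subgroup.centralizer {g}) = Nat.card (Subgroup.centralizer {(g : Perm (Fin n))}) := by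
  have : Nontrivial (Fin n) := Fin.nontrivial_iff_two_le.mpr h2
  set C := Subgroup.centralizer ({(g : Perm (Fin n))} : Set (Perm (Fin n)))
  have hmap : (Subgroup.centralizer {g}).map (alternatingGroup (Fin n)).subtype = C ⊓ alternatingGroup (Fin n) := by
    ext k
    constructor
    · rintro ⟨k', hk', rfl⟩
      refine ⟨?_, k'.2⟩
      exact Subgroup.mem_centralizer_singleton_iff.mpr (congrArg Subtype.val (Subgroup.mem_centralizer_singleton_iff.mp hk'))
    · rintro ⟨hk, hkA⟩
      exact ⟨⟨k, hkA⟩, Subgroup.mem_centralizer_singleton_iff.mpr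
        (Subtype.ext (Subgroup.mem_centralizer_singleton_iff.mp hk)), rfl⟩
  have hidx : (C ⊓ alternatingGroup (Fin n)).relIndex C = 2 := by
    have h2' := Subgroup.relIndex_dvd_index_of_normal (alternatingGroup (Fin n)) C
    rw [alternatingGroup.index_eq_two] at h2'
    rw [inf_comm, Subgroup.inf_relIndex_right]
    exact ((Nat.dvd_prime Nat.prime_two).mp h2').resolve_left fun e => hg (Subgroup.relIndex_eq_one.mp e)
  have h3 := (C ⊓ alternatingGroup (Fin n)).subgroupOf C |>.card_mul_index
  rw [Nat.card_congr (Subgroup.subgroupOfEquivOfLe inf_le_left).toEquiv, ← Subgroup.relIndex, hidx, ← hmap,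
    ← Nat.card_congr ((Subgroup.centralizer {g}).equivMapOfInjective _ (Subgroup.subtype_injective _)).toEquiv] at h3
  rw [← h3, mul_comm]

theorem isThreeCycle_map {n : ℕ} (h4 : 4 ≤ n) (h6 : n ≠ 6) (φ : MulAut (alternatingGroup (Fin n)))
    {g : alternatingGroup (Fin n)} (hg : (g : Perm (Fin n)).IsThreeCycle) : ((φ g : _) : Perm (Fin n)).IsThreeCycle := by
  set h := φ g
  have ho : orderOf (h : Perm (Fin n)) = 3 := by
    rw [Subgroup.orderOf_coe, show h = φ g from rfl, MulEquiv.orderOf_eq, ← Subgroup.orderOf_coe, hg.orderOf]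
  obtain ⟨k, hk⟩ := Perm.cycleType_prime_order (σ := (h : Perm (Fin n))) (ho ▸ Nat.prime_three)
  rw [ho] at hk
  rcases Nat.eq_zero_or_pos k with rfl | hk1
  · exact hk
  exfalso
  have hsum : 3 * (k + 1) ≤ n := by
    have := Perm.sum_cycleType_le (h : Perm (Fin n))
    rw [hk, Multiset.sum_replicate, smul_eq_mul, Fintype.card_fin] at this
    omega
  have hg' : ¬ Subgroup.centralizer {(g : Perm (Fin n))} ≤ alternatingGroup (Fin n) := by
    rw [Perm.centralizer_le_alternating_iff, hg.cycleType]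
    rintro ⟨-, hs, -⟩
    simp at hs; omega
  have hh' : ¬ Subgroup.centralizer {(h : Perm (Fin n))} ≤ alternatingGroup (Fin n) := by
    rw [Perm.centralizer_le_alternating_iff]
    rintro ⟨-, -, hc⟩
    have := hc 3
    rw [hk, Multiset.count_replicate_self] at this
    omega
  have hcC : Nat.card (Subgroup.centralizer {g}) = Nat.card (Subgroup.centralizer {h}) := by
    refine Nat.card_congr ((φ.subgroupMap _).toEquiv.trans (Equiv.setCongr ?_))
    rw [SetLike.coe_set_eq]
    ext x
    show x ∈ Subgroup.map φ.toMonoidHom _ ↔ _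
    rw [Subgroup.mem_map_equiv, Subgroup.mem_centralizer_singleton_iff, Subgroup.mem_centralizer_singleton_iff,
      ← φ.injective.eq_iff, map_mul, map_mul, MulEquiv.apply_symm_apply]
  have e1 := card_centralizer_alt hg' (by omega)
  have e2 := card_centralizer_alt hh' (by omega)
  rw [hcC, e2] at e1
  rw [Perm.nat_card_centralizer, Perm.nat_card_centralizer, hk, hg.cycleType, Multiset.sum_replicate,
    Multiset.prod_replicate, smul_eq_mul, Fintype.card_fin, Multiset.toFinset_replicate, if_neg (Nat.succ_ne_zero k),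
    Finset.prod_singleton, Multiset.count_replicate_self] at e1
  simp only [Multiset.sum_singleton, Multiset.prod_singleton, Multiset.toFinset_singleton, Finset.prod_singleton,
    Multiset.count_singleton_self, Nat.factorial_one, mul_one] at e1
  have hd := Nat.le_of_dvd (Nat.factorial_pos _) (Nat.factorial_mul_factorial_dvd_factorial_add (n - (k + 1) * 3) (3 * k))
  rw [show n - (k + 1) * 3 + 3 * k = n - 3 by omega] at hd
  set A := (n - (k + 1) * 3).factorial
  have hA : 0 < A := Nat.factorial_pos _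
  by_cases hk2 : 2 ≤ k
  · have hbig : ∀ j, 2 ≤ j → 3 ^ j * (j + 1).factorial < (3 * j).factorial := by
      intro j hj
      induction j, hj using Nat.le_induction with
      | base => decide
      | succ i hi ih =>
        rw [pow_succ, Nat.factorial_succ (i + 1), show 3 * (i + 1) = 3 * i + 1 + 1 + 1 by ring, Nat.factorial_succ,
          Nat.factorial_succ, Nat.factorial_succ]
        have h1 : 3 * (i + 1 + 1) ≤ (3 * i + 1 + 1 + 1) * (3 * i + 1 + 1) := by nlinarith
        have hpos : 1 ≤ 3 * i + 1 := by omega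
        calc 3 ^ i * 3 * ((i + 1 + 1) * (i + 1).factorial)
            = 3 * (i + 1 + 1) * (3 ^ i * (i + 1).factorial) := by ring
          _ < 3 * (i + 1 + 1) * (3 * i).factorial := Nat.mul_lt_mul_of_pos_left ih (by omega)
          _ ≤ (3 * i + 1 + 1 + 1) * (3 * i + 1 + 1) * ((3 * i + 1) * (3 * i).factorial) :=
              Nat.mul_le_mul h1 (Nat.le_mul_of_pos_left _ hpos)
          _ = _ := by rw [Nat.factorial_succ (3 * i)]; ring
    have := hbig k hk2
    rw [pow_succ] at e1
    nlinarith
  · have : k = 1 := by omega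
    subst this
    obtain ⟨j, rfl⟩ : ∃ j, n = j + 7 := ⟨n - 7, by omega⟩
    have hA' : A = (j + 1).factorial := by
      show (j + 7 - (1 + 1) * 3).factorial = _
      rw [show j + 7 - (1 + 1) * 3 = j + 1 by omega]
    rw [hA', show j + 7 - 3 = j + 1 + 1 + 1 + 1 by omega, Nat.factorial_succ (j + 1 + 1 + 1),
      Nat.factorial_succ (j + 1 + 1), Nat.factorial_succ (j + 1)] at e1
    norm_num [Nat.factorial] at e1
    have hpos := Nat.factorial_pos j
    have h24 : 24 ≤ (j + 4) * ((j + 3) * (j + 2)) :=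
      Nat.mul_le_mul (show 4 ≤ j + 4 by omega) (Nat.mul_le_mul (show 3 ≤ j + 3 by omega) (show 2 ≤ j + 2 by omega))
    have h18 : 18 = 3 * ((j + 4) * ((j + 3) * (j + 2))) :=
      Nat.eq_of_mul_eq_mul_right (show 0 < (j + 1) * j.factorial by positivity)
        (by linarith [e1, show (j + 1 + 1 + 1 + 1) * ((j + 1 + 1 + 1) * ((j + 1 + 1) * ((j + 1) * j.factorial))) * 3
          = 3 * ((j + 4) * ((j + 3) * (j + 2))) * ((j + 1) * j.factorial) by ring])
    omega

theorem bijective_conjNormal {n : ℕ} (h4 : 4 ≤ n) (h6 : n ≠ 6) :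
    Function.Bijective (MulAut.conjNormal : Perm (Fin n) →* MulAut ↥(alternatingGroup (Fin n))) := by
  have avoid : ∀ s : Finset (Fin n), s.card ≤ 3 → ∃ c, c ∉ s := by
    intro s hs
    by_contra hcon; push Not at hcon
    have := Finset.card_le_card (show Finset.univ ⊆ s from fun x _ => hcon x)
    rw [Finset.card_univ, Fintype.card_fin] at this
    omega
  refine ⟨?_, fun φ => ?_⟩
  · rw [injective_iff_map_eq_one]
    intro σ hσ
    ext a
    congr 1
    by_contra ha
    rw [Perm.one_apply] at ha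
    set b := σ a
    obtain ⟨c, hc⟩ := avoid {a, b} (Finset.card_le_two.trans (by norm_num))
    obtain ⟨d, hd⟩ := avoid {a, b, c} Finset.card_le_three
    simp only [Finset.mem_insert, Finset.mem_singleton, not_or] at hc hd
    have ht := c3_isThreeCycle (Ne.symm hc.1) (Ne.symm hd.1) (Ne.symm hd.2.2)
    have h1 := congrArg Subtype.val (DFunLike.congr_fun hσ ⟨c3 a c d, ht.mem_alternatingGroup⟩)
    rw [MulAut.conjNormal_apply] at h1
    change σ * c3 a c d * σ⁻¹ = c3 a c d at h1
    rw [conj_c3] at h1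
    have h2 := Equiv.ext_iff.mp h1 b
    have n1 : σ a ≠ σ c := fun e => hc.1 (σ.injective e).symm
    have n2 : σ a ≠ σ d := fun e => hd.1 (σ.injective e).symm
    rw [c3_apply_left n1 n2, c3_apply_other (Ne.symm (fun e => ha e.symm)) (Ne.symm hc.2) (Ne.symm hd.2.1)] at h2
    exact hc.1 (σ.injective h2)
  -- surjectivity
  obtain ⟨a, b, hab⟩ : ∃ a b : Fin n, a ≠ b := ⟨⟨0, by omega⟩, ⟨1, by omega⟩, by simp [Fin.ext_iff]⟩
  let I := {i : Fin n // i ≠ a ∧ i ≠ b}
  let T : I → alternatingGroup (Fin n) := fun i =>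
    ⟨c3 a b i.1, (c3_isThreeCycle hab (Ne.symm i.2.1) (Ne.symm i.2.2)).mem_alternatingGroup⟩
  let S : I → Perm (Fin n) := fun i => (φ (T i) : Perm (Fin n))
  have hS3 : ∀ i, (S i).IsThreeCycle := fun i =>
    isThreeCycle_map h4 h6 φ (c3_isThreeCycle hab (Ne.symm i.2.1) (Ne.symm i.2.2))
  have hprod : ∀ i j : I, i ≠ j → S i * S j * (S i * S j) = 1 ∧ S i * S j ≠ 1 := by
    intro i j hij
    have hij' : i.1 ≠ j.1 := fun e => hij (Subtype.ext e)
    have e1 : (T i : Perm (Fin n)) * T j = swap a i.1 * swap b j.1 := by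
      show c3 a b i.1 * c3 a b j.1 = _
      ext q
      congr 1
      simp only [Perm.mul_apply]
      by_cases qa : q = a
      · subst qa
        rw [c3_apply_left hab (Ne.symm j.2.1), c3_apply_mid (Ne.symm i.2.1) (Ne.symm i.2.2),
          swap_apply_of_ne_of_ne hab (Ne.symm j.2.1), swap_apply_left]
      by_cases qb : q = b
      · subst qb
        rw [c3_apply_mid (Ne.symm j.2.1) (Ne.symm j.2.2), c3_apply_other j.2.1 j.2.2 (Ne.symm hij'),
          swap_apply_left, swap_apply_of_ne_of_ne j.2.1 (Ne.symm hij')]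
      by_cases qj : q = j.1
      · rw [qj, c3_apply_right, c3_apply_left hab (Ne.symm i.2.1), swap_apply_right,
          swap_apply_of_ne_of_ne (Ne.symm hab) (Ne.symm i.2.2)]
      rw [c3_apply_other qa qb qj]
      by_cases qi : q = i.1
      · rw [qi, c3_apply_right, swap_apply_of_ne_of_ne i.2.2 hij', swap_apply_right]
      rw [c3_apply_other qa qb qi, swap_apply_of_ne_of_ne qb qj, swap_apply_of_ne_of_ne qa qi]
    have hsq : (T i * T j) * (T i * T j) = 1 := by
      apply Subtype.ext
      simp only [Subgroup.coe_mul, Subgroup.coe_one, e1]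
      have hcomm : swap a i.1 * swap b j.1 = swap b j.1 * swap a i.1 := by
        refine (Perm.Disjoint.commute fun q => ?_).eq
        by_cases qa : q = a
        · exact Or.inr (by subst qa; exact swap_apply_of_ne_of_ne hab (Ne.symm j.2.1))
        by_cases qi : q = i.1
        · exact Or.inr (by subst qi; exact swap_apply_of_ne_of_ne i.2.2 hij')
        exact Or.inl (swap_apply_of_ne_of_ne qa qi)
      rw [mul_assoc, ← mul_assoc (swap b j.1), ← hcomm, mul_assoc (swap a i.1) (swap b j.1), swap_mul_self, mul_one,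
        swap_mul_self]
    constructor
    · have := congrArg (fun x => ((φ x : alternatingGroup (Fin n)) : Perm (Fin n))) hsq
      simpa [S, map_mul] using this
    · intro h
      have h' : φ (T i * T j) = 1 := Subtype.ext (by simpa [S, map_mul] using h)
      have h'' := congrArg Subtype.val (φ.map_eq_one_iff.mp h')
      rw [Subgroup.coe_mul, e1, Subgroup.coe_one] at h''
      have := Equiv.ext_iff.mp h'' a
      rw [Perm.mul_apply, swap_apply_of_ne_of_ne hab (Ne.symm j.2.1), swap_apply_left, Perm.one_apply] at this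
      exact i.2.1 this
  obtain ⟨i0, hi0⟩ := avoid {a, b} (Finset.card_le_two.trans (by norm_num))
  obtain ⟨i1, hi1⟩ := avoid {a, b, i0} Finset.card_le_three
  simp only [Finset.mem_insert, Finset.mem_singleton, not_or] at hi0 hi1
  let I0 : I := ⟨i0, hi0⟩
  let I1 : I := ⟨i1, hi1.1, hi1.2.1⟩
  have h01 : I0 ≠ I1 := fun e => hi1.2.2 (congrArg Subtype.val e).symm
  obtain ⟨x, y, z, w, hxy, hxz, hyz, hxw, hyw, hzw, es, et⟩ :=
    exists_edge (hS3 I0) (hS3 I1) (hprod I0 I1 h01).1 (hprod I0 I1 h01).2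
  -- every image maps `x` to `y`
  have hall : ∀ j, S j x = y := by
    intro j
    by_cases j0 : j = I0
    · subst j0; rw [es, c3_apply_left hxy hxz]
    by_cases j1 : j = I1
    · subst j1; rw [et, c3_apply_left hxy hxw]
    have key : ∀ i, j ≠ i → ∃ p, S j p = S i p ∧ S i p ≠ p := fun i hji => by
      obtain ⟨p, q, z', w', hpq, hpz, hqz, hpw, hqw, -, ej, ei⟩ :=
        exists_edge (hS3 j) (hS3 i) (hprod j i hji).1 (hprod j i hji).2
      exact ⟨p, by rw [ej, ei, c3_apply_left hpq hpz, c3_apply_left hpq hpw],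
        by rw [ei, c3_apply_left hpq hpw]; exact hpq.symm⟩
    obtain ⟨p, hp, hpm⟩ := key I0 j0
    obtain ⟨q, hq, hqm⟩ := key I1 j1
    rw [es] at hp hpm
    rw [et] at hq hqm
    have hpc : p = x ∨ p = y ∨ p = z := by
      by_contra hcon; push Not at hcon; exact hpm (c3_apply_other hcon.1 hcon.2.1 hcon.2.2)
    have hqc : q = x ∨ q = y ∨ q = w := by
      by_contra hcon; push Not at hcon; exact hqm (c3_apply_other hcon.1 hcon.2.1 hcon.2.2)
    have hj3 : ∀ q, S j (S j (S j q)) = q := fun q => by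
      have h3 : (S j) ^ 3 = 1 := by rw [← (hS3 j).orderOf, pow_orderOf_eq_one]
      have := Equiv.ext_iff.mp h3 q
      simpa [pow_succ, Perm.mul_apply] using this
    rcases hpc with rfl | rfl | rfl
    · rw [hp, c3_apply_left hxy hxz]
    all_goals rcases hqc with rfl | rfl | rfl
    · rw [hq, c3_apply_left hxy hxw]
    · rw [c3_apply_mid hxz hyz] at hp
      rw [c3_apply_mid hxw hyw] at hq
      exact absurd (hp.symm.trans hq) hzw
    · rw [c3_apply_mid hxz hyz] at hp
      rw [c3_apply_right] at hq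
      -- `y ↦ z`, `w ↦ x`: four moved points
      obtain ⟨e, d1, d2, d3⟩ := eq_c3 (hS3 j) (show S j p ≠ p by rw [hp]; exact hyz.symm)
      have hwm : S j q ≠ q := by rw [hq]; exact hxw
      rw [e, hp] at hwm
      have : q = S j z ∧ True := ⟨by
        by_contra h'
        exact hwm (c3_apply_other hyw.symm hzw.symm (fun e' => h' e')), trivial⟩
      have e' := hj3 p
      rw [hp, ← this.1, hq] at e'
      exact absurd e' hxy
    · rw [hq, c3_apply_left hxy hxw]
    · rw [c3_apply_right] at hp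
      rw [c3_apply_mid hxw hyw] at hq
      obtain ⟨e, d1, d2, d3⟩ := eq_c3 (hS3 j) (show S j p ≠ p by rw [hp]; exact hxz)
      have hym : S j q ≠ q := by rw [hq]; exact hyw.symm
      rw [e, hp] at hym
      have : q = S j x := by
        by_contra h'
        exact hym (c3_apply_other hyz hxy.symm (fun e' => h' e'))
      exact this.symm
    · rw [c3_apply_right] at hp hq
      exact absurd ((S j).injective (hp.trans hq.symm)) hzw
  -- the permutation
  have hxm : ∀ j, S j x ≠ x := fun j => by rw [hall j]; exact hxy.symm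
  let f : Fin n → Fin n := fun i =>
    if hi : i ≠ a ∧ i ≠ b then S ⟨i, hi⟩ y else if i = a then x else y
  have hfa : f a = x := by simp [f]
  have hfb : f b = y := by simp [f, Ne.symm hab]
  have hSj : ∀ j : I, S j = c3 x y (f j.1) ∧ x ≠ f j.1 ∧ y ≠ f j.1 := fun j => by
    obtain ⟨e, d1, d2, d3⟩ := eq_c3 (hS3 j) (hxm j)
    have hfj : f j.1 = S j y := by simp [f, j.2.1, j.2.2]
    rw [hall j] at e d2 d3
    rw [hfj]; exact ⟨e, d2, d3⟩
  have hf : Function.Injective f := by
    intro i j hij
    by_cases hi : i ≠ a ∧ i ≠ b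
    · obtain ⟨ei, ix, iy⟩ := hSj ⟨i, hi⟩
      by_cases hj : j ≠ a ∧ j ≠ b
      · obtain ⟨ej, jx, jy⟩ := hSj ⟨j, hj⟩
        have : S ⟨i, hi⟩ = S ⟨j, hj⟩ := by rw [ei, ej]; simp only at *; rw [hij]
        have h' := congrArg Subtype.val (φ.injective (Subtype.ext this : φ (T ⟨i, hi⟩) = φ (T ⟨j, hj⟩)))
        have h'' := Equiv.ext_iff.mp h' b
        simp only [T] at h''
        rwa [c3_apply_mid (Ne.symm hi.1) (Ne.symm hi.2), c3_apply_mid (Ne.symm hj.1) (Ne.symm hj.2)] at h''
      · rcases not_and_or.mp hj with e | e <;> push Not at e <;> subst e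
        · rw [hfa] at hij; exact absurd hij.symm ix
        · rw [hfb] at hij; exact absurd hij.symm iy
    · by_cases hj : j ≠ a ∧ j ≠ b
      · obtain ⟨ej, jx, jy⟩ := hSj ⟨j, hj⟩
        rcases not_and_or.mp hi with e | e <;> push Not at e <;> subst e
        · rw [hfa] at hij; exact absurd hij jx
        · rw [hfb] at hij; exact absurd hij jy
      · rcases not_and_or.mp hi with e | e <;> push Not at e <;> subst e <;>
          rcases not_and_or.mp hj with e | e <;> push Not at e <;> subst e <;> simp_all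
  let σ : Perm (Fin n) := Equiv.ofBijective f (Finite.injective_iff_bijective.mp hf)
  refine ⟨σ, ?_⟩
  let K : Subgroup (alternatingGroup (Fin n)) := MonoidHom.eqLocus (MulAut.conjNormal σ).toMonoidHom φ.toMonoidHom
  have hgen : alternatingGroup (Fin n) ≤ K.map (alternatingGroup (Fin n)).subtype := by
    refine closure_edge hab _ fun i hia hib => ⟨T ⟨i, hia, hib⟩, ?_, rfl⟩
    show MulAut.conjNormal σ (T ⟨i, hia, hib⟩) = φ (T ⟨i, hia, hib⟩)
    apply Subtype.ext
    rw [MulAut.conjNormal_apply, conj_c3]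
    show c3 (f a) (f b) (f i) = _
    rw [hfa, hfb, ← (hSj ⟨i, hia, hib⟩).1]
  refine MulEquiv.ext fun g => ?_
  obtain ⟨g', hg', e⟩ := hgen g.2
  rw [← Subtype.ext (e : ((g' : _) : Perm (Fin n)) = g)]
  exact hg'

end Cfsg.Agent.AutAlt
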