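import Cfsg.Prelude.Def_Perm
import Mathlib.GroupTheory.Sylow
import Mathlib.GroupTheory.PGroup
import Mathlib.GroupTheory.GroupAction.MultipleTransitivity
import Mathlib.Algebra.CharP.Lemmas
import Mathlib.LinearAlgebra.Dimension.Finite

/-!
Permutation modules in characteristic `p`.
-/

set_option autoImplicit false
set_option linter.style.haveILetI false

namespace Cfsg.Agent.PermModules

open MulAction

variable {G : Type*} [Group G] {K : Type*} [Field K] {Ω : Type*} [MulAction G Ω]

@[simp] theorem permRep_apply (g : G) (f : Ω → K) (x : Ω) :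
    Cfsg.permRep K G Ω g f x = f (g⁻¹ • x) := rfl

theorem permRep_single [DecidableEq Ω] (g : G) (a : Ω) (c : K) :
    Cfsg.permRep K G Ω g (Pi.single a c) = Pi.single (g • a) c := by
  funext x
  rw [permRep_apply]
  by_cases h : x = g • a
  · subst h
    rw [inv_smul_smul, Pi.single_eq_same, Pi.single_eq_same]
  · rw [Pi.single_eq_of_ne h, Pi.single_eq_of_ne]
    intro e
    exact h (by rw [← e, smul_inv_smul])

theorem mem_permConstants {f : Ω → K} :
    f ∈ (Cfsg.permConstants K G Ω).toSubmodule ↔ ∃ c : K, ∀ x, f x = c := by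
  show f ∈ Submodule.span K {fun _ => (1 : K)} ↔ _
  rw [Submodule.mem_span_singleton]
  constructor
  · rintro ⟨c, rfl⟩
    exact ⟨c, fun x => by simp⟩
  · rintro ⟨c, hc⟩
    exact ⟨c, funext fun x => by simp [hc x]⟩

theorem mem_permSumZero [Fintype Ω] {f : Ω → K} :
    f ∈ (Cfsg.permSumZero K G Ω).toSubmodule ↔ ∑ x, f x = 0 := Iff.rfl

theorem constants_le_sumZero {p : ℕ} [CharP K p] [Fintype Ω] (h : p ∣ Fintype.card Ω) :
    (Cfsg.permConstants K G Ω).toSubmodule ≤ (Cfsg.permSumZero K G Ω).toSubmodule := by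
  intro f hf
  obtain ⟨c, hc⟩ := mem_permConstants.1 hf
  rw [mem_permSumZero, Finset.sum_congr rfl (fun x _ => hc x), Finset.sum_const, Finset.card_univ,
    nsmul_eq_mul, (CharP.cast_eq_zero_iff K p _).2 h, zero_mul]

theorem constant_of_fixed [IsPretransitive G Ω] {f : Ω → K}
    (h : ∀ g : G, Cfsg.permRep K G Ω g f = f) (a x : Ω) : f x = f a := by
  obtain ⟨g, rfl⟩ := exists_smul_eq G a x
  have := congrFun (h g) (g • a)
  rw [permRep_apply, inv_smul_smul] at this
  exact this.symm

/-- A Sylow `p`-subgroup of a transitive group of degree `p ^ f` is transitive. -/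
theorem sylow_transitive [Finite G] {p f : ℕ} [Fact p.Prime] [Fintype Ω] [IsPretransitive G Ω]
    (hcard : Fintype.card Ω = p ^ f) (P : Sylow p G) (a x : Ω) :
    ∃ g ∈ (P : Subgroup G), g • a = x := by
  have hH : (stabilizer G a).index = p ^ f := by
    rw [index_stabilizer_of_transitive, Nat.card_eq_fintype_card, hcard]
  have horb : Nat.card (orbit (P : Subgroup G) a) = Nat.card Ω := by
    have h1 : Nat.card (orbit (P : Subgroup G) a) =
        (stabilizer G a).relIndex (P : Subgroup G) := by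
      rw [Nat.card_coe_set_eq, ← index_stabilizer]
      rfl
    rw [h1, Nat.card_eq_fintype_card, hcard, ← hH]
    have hle : ((stabilizer G a ⊓ P : Subgroup G)).index =
        (stabilizer G a).relIndex P * (P : Subgroup G).index := by
      rw [← Subgroup.relIndex_mul_index (inf_le_right : stabilizer G a ⊓ (P : Subgroup G) ≤ P),
        Subgroup.inf_relIndex_right]
    have hd : (stabilizer G a).index ∣ (stabilizer G a).relIndex P * (P : Subgroup G).index :=
      hle ▸ Subgroup.index_dvd_of_le inf_le_left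
    have hcop : Nat.Coprime (stabilizer G a).index (P : Subgroup G).index := by
      rw [hH]
      exact Nat.Coprime.pow_left f ((Fact.out : p.Prime).coprime_iff_not_dvd.2 P.not_dvd_index)
    apply le_antisymm
    · rw [← h1, hH, ← hcard, ← Nat.card_eq_fintype_card]
      exact Nat.card_le_card_of_injective _ Subtype.val_injective
    · exact Nat.le_of_dvd (Nat.pos_of_ne_zero Subgroup.index_ne_zero_of_finite) (hcop.dvd_of_dvd_mul_right hd)
  have : orbit (P : Subgroup G) a = Set.univ := by
    rw [Nat.card_coe_set_eq] at horb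
    apply Set.eq_of_subset_of_ncard_le (Set.subset_univ _) _ Set.finite_univ
    rw [Set.ncard_univ, horb]
  obtain ⟨g, hg⟩ := (this ▸ Set.mem_univ x : x ∈ orbit (P : Subgroup G) a)
  exact ⟨g, g.2, hg⟩

/-- A finite `p`-group acting linearly in characteristic `p` fixes a non-zero vector of each
non-zero invariant subspace. -/
theorem exists_fixed_vector {P : Type*} [Group P] [Finite P] {p : ℕ} [Fact p.Prime] [CharP K p]
    (hP : IsPGroup p P) {V : Type*} [AddCommGroup V] [Module K V] (ρ : Representation K P V)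
    (W : Submodule K V) (hW : ∀ g v, v ∈ W → ρ g v ∈ W) {w : V} (hw : w ∈ W) (hw0 : w ≠ 0) :
    ∃ v ∈ W, v ≠ 0 ∧ ∀ g, ρ g v = v := by
  haveI := Fintype.ofFinite P
  let φ : (P → ZMod p) →+ V :=
    { toFun := fun c => ∑ g, (ZMod.castHom (dvd_refl p) K (c g)) • ρ g w
      map_zero' := by simp
      map_add' := fun c d => by simp [add_smul, Finset.sum_add_distrib] }
  let V₀ : AddSubgroup V := φ.range
  have hV₀W : ∀ v ∈ V₀, v ∈ W := by
    rintro _ ⟨c, rfl⟩
    exact W.sum_mem fun g _ => W.smul_mem _ (hW g w hw)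
  have hinv : ∀ g : P, ∀ v ∈ V₀, ρ g v ∈ V₀ := by
    rintro g _ ⟨c, rfl⟩
    refine ⟨fun x => c (g⁻¹ * x), ?_⟩
    show ∑ x, _ = ρ g (∑ x, _)
    rw [map_sum]
    refine Fintype.sum_equiv (Equiv.mulLeft g⁻¹) _ _ fun x => ?_
    rw [map_smul, Equiv.coe_mulLeft, ← Module.End.mul_apply, ← map_mul, mul_inv_cancel_left]
  haveI : Finite V₀ := Finite.of_surjective φ.rangeRestrict φ.rangeRestrict_surjective
  letI : MulAction P V₀ :=
    { smul := fun g v => ⟨ρ g v, hinv g v v.2⟩
      one_smul := fun v => Subtype.ext (by show ρ 1 (v : V) = v; simp)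
      mul_smul := fun g h v => Subtype.ext (by show ρ (g * h) (v : V) = ρ g (ρ h v); simp [map_mul]) }
  have hw1 : w ∈ V₀ := by
    classical
    refine ⟨Pi.single 1 1, ?_⟩
    show ∑ g, _ = w
    rw [Finset.sum_eq_single 1]
    · simp
    · intro b _ hb
      simp [Pi.single_eq_of_ne hb]
    · simp
  have hdvd : p ∣ Nat.card V₀ := by
    have h1 : Nat.card V₀ ∣ p ^ Fintype.card P := by
      have := AddSubgroup.card_range_dvd φ
      rwa [Nat.card_fun, Nat.card_zmod, Nat.card_eq_fintype_card (α := P)] at this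
    obtain ⟨k, -, hk⟩ := (Nat.dvd_prime_pow (Fact.out : p.Prime)).1 h1
    rcases k with _ | k
    · exfalso
      rw [pow_zero] at hk
      haveI := (Nat.card_eq_one_iff_unique.1 hk).1
      exact hw0 (congrArg Subtype.val (Subsingleton.elim (⟨w, hw1⟩ : V₀) 0))
    · exact hk ▸ dvd_pow_self p (by omega)
  have h0 : (0 : V₀) ∈ fixedPoints P V₀ := fun g => Subtype.ext (by show ρ g (0 : V) = 0; simp)
  obtain ⟨v, hv, hne⟩ := hP.exists_fixed_point_of_prime_dvd_card_of_fixed_point V₀ hdvd h0
  exact ⟨v, hV₀W v v.2, fun e => hne (Subtype.ext e).symm, fun g => congrArg Subtype.val (hv g)⟩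

theorem constants_le_of_ne_bot [Finite G] {p f : ℕ} [Fact p.Prime] [CharP K p] [Fintype Ω]
    [IsPretransitive G Ω] (hcard : Fintype.card Ω = p ^ f)
    (W : Subrepresentation (Cfsg.permRep K G Ω)) (hW : W.toSubmodule ≠ ⊥) :
    (Cfsg.permConstants K G Ω).toSubmodule ≤ W.toSubmodule := by
  obtain ⟨w, hw, hw0⟩ := (Submodule.ne_bot_iff _).1 hW
  obtain ⟨P⟩ := (inferInstance : Nonempty (Sylow p G))
  obtain ⟨v, hv, hv0, hfix⟩ := exists_fixed_vector P.isPGroup'
    ((Cfsg.permRep K G Ω).comp (P : Subgroup G).subtype) W.toSubmodule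
    (fun g v hv => W.apply_mem_toSubmodule (g : G) hv) hw hw0
  obtain ⟨a, ha⟩ := Function.ne_iff.1 hv0
  intro c hc
  obtain ⟨c', hc'⟩ := mem_permConstants.1 hc
  have hconst : ∀ x, v x = v a := by
    intro x
    obtain ⟨g, hg, rfl⟩ := sylow_transitive hcard P a x
    have := congrFun (hfix ⟨g, hg⟩) (g • a)
    simpa using this.symm
  have : c = (c' / v a) • v := funext fun x => by
    simp only [Pi.zero_apply] at ha
    rw [Pi.smul_apply, hconst x, hc' x, smul_eq_mul, div_mul_cancel₀ _ ha]
  rw [this]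
  exact W.toSubmodule.smul_mem _ hv

/-- If the heart has no trivial composition factor, the action is doubly transitive. -/
theorem two_transitive_of_heart [Finite G] {p f : ℕ} [Fact p.Prime] [CharP K p] [Fintype Ω]
    [IsPretransitive G Ω] (hf : 1 ≤ f) (hcard : Fintype.card Ω = p ^ f)
    (h : ∀ W W' : Subrepresentation (Cfsg.permRep K G Ω),
      (Cfsg.permConstants K G Ω).toSubmodule ≤ W.toSubmodule →
      W.toSubmodule < W'.toSubmodule →
      W'.toSubmodule ≤ (Cfsg.permSumZero K G Ω).toSubmodule →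
      ∃ g : G, ∃ v ∈ W'.toSubmodule, Cfsg.permRep K G Ω g v - v ∉ W.toSubmodule) :
    IsMultiplyPretransitive G Ω 2 := by
  classical
  rw [is_two_pretransitive_iff]
  intro a b c d hab hcd
  let M : Ω → Ω → K := fun x y => if ∃ g : G, g • a = x ∧ g • b = y then 1 else 0
  have hM : ∀ (g : G) x y, M (g • x) (g • y) = M x y := by
    intro g x y
    have : (∃ k : G, k • a = g • x ∧ k • b = g • y) ↔ ∃ k : G, k • a = x ∧ k • b = y := by
      constructor
      · rintro ⟨k, h1, h2⟩
        exact ⟨g⁻¹ * k, by rw [mul_smul, h1, inv_smul_smul], by rw [mul_smul, h2, inv_smul_smul]⟩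
      · rintro ⟨k, h1, h2⟩
        exact ⟨g * k, by rw [mul_smul, h1], by rw [mul_smul, h2]⟩
    show (if _ then _ else _) = (if _ then _ else _)
    rw [this]
  let T : (Ω → K) →ₗ[K] (Ω → K) :=
    { toFun := fun v x => ∑ y, M x y * v y
      map_add' := fun u v => funext fun x => by simp [mul_add, Finset.sum_add_distrib]
      map_smul' := fun k v => funext fun x => by simp [Finset.mul_sum, mul_left_comm] }
  have hT : ∀ g v, T (Cfsg.permRep K G Ω g v) = Cfsg.permRep K G Ω g (T v) := by
    intro g v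
    funext x
    show ∑ y, M x y * v (g⁻¹ • y) = ∑ y, M (g⁻¹ • x) y * v y
    exact Fintype.sum_equiv (toPerm g⁻¹) _ _ fun y => by
      show M x y * v (g⁻¹ • y) = M (g⁻¹ • x) (g⁻¹ • y) * v (g⁻¹ • y)
      rw [hM]
  set C := (Cfsg.permConstants K G Ω).toSubmodule with hC
  set S := (Cfsg.permSumZero K G Ω).toSubmodule with hS
  let one : Ω → K := fun _ => 1
  have hone : ∀ g : G, Cfsg.permRep K G Ω g one = one := fun g => rfl
  let lam : K := T one a
  have hT1 : T one = lam • one := funext fun x => by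
    have := constant_of_fixed (fun g => by rw [← hT, hone]) a x (f := T one)
    rw [this]
    simp [one, lam]
  let N : (Ω → K) →ₗ[K] (Ω → K) := T - lam • LinearMap.id
  have hN : ∀ g v, N (Cfsg.permRep K G Ω g v) = Cfsg.permRep K G Ω g (N v) := by
    intro g v
    simp [N, hT, map_sub, map_smul]
  have hN1 : N one = 0 := by simp [N, hT1]
  have hCS : C ≤ S := constants_le_sumZero (hcard ▸ dvd_pow_self p (by omega))
  have hCN : C ≤ LinearMap.ker N := by
    intro v hv
    obtain ⟨k, hk⟩ := mem_permConstants.1 hv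
    have : v = k • one := funext fun x => by simp [hk x, one]
    rw [LinearMap.mem_ker, this, map_smul, hN1, smul_zero]
  have hNS : S ≤ LinearMap.ker N := by
    by_contra hcon
    let NS : Subrepresentation (Cfsg.permRep K G Ω) :=
      ⟨S.map N, fun g v hv => by
        obtain ⟨u, hu, rfl⟩ := hv
        exact ⟨_, (Cfsg.permSumZero K G Ω).apply_mem_toSubmodule g hu, hN g u⟩⟩
    have hNS0 : NS.toSubmodule ≠ ⊥ := by
      intro e
      exact hcon fun v hv => (Submodule.mem_bot K).1
        (e ▸ (⟨v, hv, rfl⟩ : N v ∈ S.map N))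
    have hC' : C ≤ NS.toSubmodule := constants_le_of_ne_bot hcard NS hNS0
    let W : Subrepresentation (Cfsg.permRep K G Ω) :=
      ⟨S ⊓ LinearMap.ker N, fun g v hv => ⟨(Cfsg.permSumZero K G Ω).apply_mem_toSubmodule g hv.1, by
        rw [SetLike.mem_coe, LinearMap.mem_ker, hN, LinearMap.mem_ker.1 hv.2, map_zero]⟩⟩
    let W' : Subrepresentation (Cfsg.permRep K G Ω) :=
      ⟨S ⊓ C.comap N, fun g v hv => ⟨(Cfsg.permSumZero K G Ω).apply_mem_toSubmodule g hv.1, by
        show N (Cfsg.permRep K G Ω g v) ∈ C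
        rw [hN]
        exact (Cfsg.permConstants K G Ω).apply_mem_toSubmodule g hv.2⟩⟩
    have hone' : one ∈ C := mem_permConstants.2 ⟨1, fun _ => rfl⟩
    obtain ⟨u, hu, hu1⟩ := hC' hone'
    obtain ⟨g, v, hv, hgv⟩ := h W W' (le_inf hCS hCN) (by
        refine SetLike.lt_iff_le_and_exists.2 ⟨inf_le_inf_left _ ?_, u, (⟨hu, ?_⟩ : u ∈ S ⊓ C.comap N), ?_⟩
        · intro v hv
          show N v ∈ C
          rw [LinearMap.mem_ker.1 hv]
          exact C.zero_mem
        · show N u ∈ C
          rw [hu1]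
          exact hone'
        · intro hu'
          have h0 : N u = 0 := hu'.2
          have := congrFun (hu1.symm.trans h0) a
          exact one_ne_zero this) inf_le_left
    refine hgv ⟨S.sub_mem ((Cfsg.permSumZero K G Ω).apply_mem_toSubmodule g hv.1) hv.1, ?_⟩
    show N _ = 0
    rw [map_sub, hN]
    obtain ⟨k, hk⟩ := (mem_permConstants (G := G)).1 hv.2
    rw [sub_eq_zero]
    funext x
    rw [permRep_apply, hk, hk]
  let μ : Ω → K := N (Pi.single a 1)
  have hdel : ∀ y, N (Pi.single y 1) = μ := by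
    intro y
    have : N (Pi.single y (1 : K) - Pi.single a 1) = 0 := by
      refine hNS ?_
      show ∑ x, (Pi.single y (1 : K) - Pi.single a (1 : K) : Ω → K) x = 0
      simp [Finset.sum_sub_distrib, Finset.sum_pi_single']
    rwa [map_sub, sub_eq_zero] at this
  have hμ : ∀ g, Cfsg.permRep K G Ω g μ = μ := by
    intro g
    show Cfsg.permRep K G Ω g (N (Pi.single a 1)) = μ
    rw [← hN, permRep_single, hdel]
  have key : ∀ x y, x ≠ y → M x y = μ a := by
    intro x y hxy
    have h1 : N (Pi.single y (1 : K)) x = μ x := congrFun (hdel y) x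
    rw [constant_of_fixed hμ a x] at h1
    simp [N, T, Pi.single_eq_of_ne hxy] at h1
    simpa [Pi.single_apply, Finset.sum_ite_eq'] using h1
  have h1 : M a b = 1 := if_pos ⟨1, one_smul _ a, one_smul _ b⟩
  have h2 : M c d = 1 := by rw [key c d hcd, ← key a b hab, h1]
  by_contra hne
  rw [show M c d = (0 : K) from if_neg hne] at h2
  exact zero_ne_one h2

end Cfsg.Agent.PermModules
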