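import Cfsg.Agent.Lib.Perm.PrimeDegree
import Mathlib.Data.Nat.Choose.Dvd

/-!
Burnside's theorem on groups of prime degree, coordinates adapted to an involution normalising a
Sylow subgroup.
-/

set_option autoImplicit false
set_option linter.style.haveILetI false
set_option linter.unusedSectionVars false

namespace Cfsg.Agent.PermPrime

open Polynomial MulAction
open Cfsg.Agent.PermModules

variable {p : ℕ} [Fact p.Prime] {G : Type*} [Group G] {Ω : Type*} [MulAction G Ω]

theorem not_solvable_not_affine [FaithfulSMul G Ω] (hG : ¬ Group.IsSolvable G) (e : ZMod p ≃ Ω) :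
    (¬ ∀ g : G, IsAffineAt e g) ∧ 5 ≤ p := by
  refine ⟨fun h => hG (solvable_of_affine e h), ?_⟩
  by_contra hp
  have h2 := (Fact.out : p.Prime).two_le
  have hp4 : p ≠ 4 := fun h => by
    subst h
    exact absurd (Fact.out : Nat.Prime 4) (by decide)
  refine hG (solvable_of_affine e fun g => ?_)
  obtain ⟨k, m, h⟩ := affine_small (p := p) (σ := (e.trans (toPerm g)).trans e.symm) (by omega)
  exact ⟨k, m, fun j => by rw [perm_apply_coord e g j, h]⟩

theorem heart_irreducible [Finite G] [FaithfulSMul G Ω] [IsPretransitive G Ω] [Fintype Ω]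
    (hΩ : Nat.card Ω = p) (hG : ¬ Group.IsSolvable G) {K : Type*} [Field K] [CharP K p]
    (W : Subrepresentation (Cfsg.permRep K G Ω))
    (h₁ : (Cfsg.permConstants K G Ω).toSubmodule ≤ W.toSubmodule)
    (h₂ : W.toSubmodule ≤ (Cfsg.permSumZero K G Ω).toSubmodule) :
    W.toSubmodule = (Cfsg.permConstants K G Ω).toSubmodule ∨
      W.toSubmodule = (Cfsg.permSumZero K G Ω).toSubmodule := by
  obtain ⟨τ, e, he⟩ := exists_coord (G := G) hΩ
  rcases heart_dichotomy hΩ he W h₁ h₂ with h | h | h
  · exact Or.inl h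
  · exact Or.inr h
  · exact absurd h (not_solvable_not_affine hG e).1

theorem burnside [Finite G] [FaithfulSMul G Ω] [IsPretransitive G Ω] (hΩ : Nat.card Ω = p) :
    Group.IsSolvable G ∨ IsMultiplyPretransitive G Ω 2 := by
  by_cases hG : Group.IsSolvable G
  · exact Or.inl hG
  right
  haveI : Finite Ω := Nat.finite_of_card_ne_zero (hΩ ▸ (Fact.out : p.Prime).ne_zero)
  haveI := Fintype.ofFinite Ω
  obtain ⟨τ, e, he⟩ := exists_coord (G := G) hΩ
  have hp5 := (not_solvable_not_affine hG e).2
  have hcard : Fintype.card Ω = p ^ 1 := by rw [pow_one, ← Nat.card_eq_fintype_card, hΩ]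
  refine two_transitive_of_heart (K := ZMod p) (p := p) le_rfl hcard fun W W' hW hlt hW' => ?_
  have hWC : W.toSubmodule = (Cfsg.permConstants (ZMod p) G Ω).toSubmodule :=
    (heart_irreducible hΩ hG W hW (hlt.le.trans hW')).resolve_right
      fun h => (lt_of_lt_of_le hlt hW').ne h
  have hW'S : W'.toSubmodule = (Cfsg.permSumZero (ZMod p) G Ω).toSubmodule :=
    (heart_irreducible hΩ hG W' (hW.trans hlt.le) hW').resolve_left
      fun h => hlt.ne (hWC.trans h.symm)
  refine ⟨τ, fun x => e.symm x ^ 2, ?_, ?_⟩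
  · rw [hW'S, mem_permSumZero, ← e.sum_comp]
    simp only [Equiv.symm_apply_apply]
    exact FiniteField.sum_pow_lt_card_sub_one (ZMod p) 2 (by rw [ZMod.card]; omega)
  · rw [hWC, mem_permConstants]
    rintro ⟨c, hc⟩
    have hinv : ∀ j, τ⁻¹ • e j = e (j - 1) := fun j => by rw [inv_smul_eq_iff, he, sub_add_cancel]
    have h0 := hc (e 0)
    have h1 := hc (e 1)
    simp only [Pi.sub_apply, permRep_apply, hinv, Equiv.symm_apply_apply] at h0 h1
    rw [← h0] at h1
    have h2 : (2 : ZMod p) = 0 := by linear_combination -h1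
    have h3 : ((2 : ℕ) : ZMod p) = 0 := by exact_mod_cast h2
    rw [ZMod.natCast_eq_zero_iff] at h3
    have := Nat.le_of_dvd (by norm_num) h3
    omega

theorem not_sq_dvd_card [Finite G] [FaithfulSMul G Ω] (hΩ : Nat.card Ω = p) :
    ¬ p ^ 2 ∣ Nat.card G := by
  haveI : Finite Ω := Nat.finite_of_card_ne_zero (hΩ ▸ (Fact.out : p.Prime).ne_zero)
  intro h
  have hd : Nat.card G ∣ p.factorial := by
    have h1 := Subgroup.card_dvd_of_injective (MulAction.toPermHom G Ω) MulAction.toPerm_injective
    rwa [Nat.card_perm, hΩ] at h1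
  have hp := (Fact.out : p.Prime)
  have h2 := h.trans hd
  rw [← Nat.mul_factorial_pred hp.ne_zero, pow_two] at h2
  have h3 := Nat.dvd_of_mul_dvd_mul_left hp.pos h2
  have := hp.dvd_factorial.1 h3
  have := hp.pos
  omega

theorem dvd_card_of_transitive [Finite G] [IsPretransitive G Ω] (hΩ : Nat.card Ω = p) :
    p ∣ Nat.card G := by
  obtain ⟨a⟩ : Nonempty Ω := (Nat.card_pos_iff.1 (hΩ ▸ (Fact.out : p.Prime).pos)).1
  rw [← hΩ, ← index_stabilizer_of_transitive G a]
  exact Subgroup.index_dvd_card _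

theorem sylow_card [Finite G] [FaithfulSMul G Ω] [IsPretransitive G Ω] (hΩ : Nat.card Ω = p)
    (P : Sylow p G) : Nat.card (P : Subgroup G) = p := by
  rw [P.card_eq_multiplicity]
  have hp := (Fact.out : p.Prime)
  have h1 : 1 ≤ (Nat.card G).factorization p :=
    (hp.dvd_iff_one_le_factorization Nat.card_pos.ne').1 (dvd_card_of_transitive hΩ)
  have h2 : ¬ 2 ≤ (Nat.card G).factorization p := fun h =>
    not_sq_dvd_card (G := G) hΩ ((hp.pow_dvd_iff_le_factorization Nat.card_pos.ne').2 h)
  rw [show (Nat.card G).factorization p = 1 by omega, pow_one]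

/-- Coordinates in which a given Sylow subgroup is the translations and a given involution of its
normaliser is `x ↦ -x`. -/
theorem coord_involution [Finite G] [FaithfulSMul G Ω] [IsPretransitive G Ω] (hΩ : Nat.card Ω = p)
    (hp2 : p ≠ 2) (P : Sylow p G) {s : G} (hs : orderOf s = 2)
    (hsN : s ∈ Subgroup.normalizer ((P : Subgroup G) : Set G)) :
    ∃ (τ : G) (e : ZMod p ≃ Ω), (P : Subgroup G) = Subgroup.zpowers τ ∧
      (∀ j, τ • e j = e (j + 1)) ∧ ∀ j, s • e j = e (-j) := by
  have hP := sylow_card hΩ P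
  obtain ⟨⟨τ, hτP⟩, ho⟩ := exists_prime_orderOf_dvd_card' p (dvd_of_eq hP.symm)
  rw [Subgroup.orderOf_mk] at ho
  have hPz : (P : Subgroup G) = Subgroup.zpowers τ := by
    refine (Subgroup.eq_of_le_of_card_ge (Subgroup.zpowers_le.2 hτP) ?_).symm
    rw [Nat.card_zpowers, ho, hP]
  obtain ⟨a, ha⟩ : ∃ a : Ω, τ • a ≠ a := by
    by_contra h
    simp only [not_exists, not_not] at h
    have : τ = 1 := FaithfulSMul.eq_of_smul_eq_smul fun x : Ω => by rw [h x, one_smul]
    rw [this, orderOf_one] at ho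
    exact (Fact.out : p.Prime).one_lt.ne ho
  obtain ⟨e, -, he⟩ := coord_of_element hΩ
    (fun x => by rw [← ho, pow_orderOf_eq_one, one_smul]) ha
  have hpow : ∀ (n : ℕ) j, τ ^ n • e j = e (j + n) := by
    intro n
    induction n with
    | zero => simp
    | succ n ih => intro j; rw [pow_succ', mul_smul, ih, he, Nat.cast_succ, add_assoc]
  have hconj : s * τ * s⁻¹ ∈ Subgroup.zpowers τ := by
    rw [← hPz]
    exact (Subgroup.mem_normalizer_iff.1 hsN τ).1 hτP
  obtain ⟨n, hn⟩ := ((isOfFinOrder_of_finite τ).mem_powers_iff_mem_zpowers).2 hconj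
  simp only at hn
  obtain ⟨m, hm⟩ : ∃ m, e m = s • e 0 := ⟨e.symm (s • e 0), e.apply_symm_apply _⟩
  have hform : ∀ k : ℕ, s • e (k : ZMod p) = e ((n : ZMod p) * k + m) := by
    intro k
    induction k with
    | zero => simp [hm]
    | succ k ih =>
      rw [Nat.cast_succ, ← he, smul_smul, show s * τ = τ ^ n * s by rw [hn]; group, mul_smul, ih,
        hpow]
      congr 1; ring
  have hform' : ∀ j : ZMod p, s • e j = e ((n : ZMod p) * j + m) := fun j => by
    simpa using hform j.val
  have hsq : ∀ j : ZMod p, (n : ZMod p) * ((n : ZMod p) * j + m) + m = j := by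
    intro j
    apply e.injective
    rw [← hform', ← hform', smul_smul, ← pow_two, ← hs, pow_orderOf_eq_one, one_smul]
  have h2 : (2 : ZMod p) ≠ 0 := by
    intro h
    have h3 : ((2 : ℕ) : ZMod p) = 0 := by exact_mod_cast h
    rw [ZMod.natCast_eq_zero_iff] at h3
    exact hp2 ((Nat.prime_dvd_prime_iff_eq Fact.out Nat.prime_two).1 h3)
  have hn1 : (n : ZMod p) = -1 := by
    have h0 := hsq 0
    have h1 := hsq 1
    have hnn : ((n : ZMod p) - 1) * ((n : ZMod p) + 1) = 0 := by linear_combination h1 - h0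
    rcases mul_eq_zero.1 hnn with h | h
    · exfalso
      have hn' : (n : ZMod p) = 1 := sub_eq_zero.1 h
      rw [hn'] at h0
      have hm0 : m = 0 := by
        have : (2 : ZMod p) * m = 0 := by linear_combination h0
        exact (mul_eq_zero.1 this).resolve_left h2
      have hs1 : s = 1 := FaithfulSMul.eq_of_smul_eq_smul fun x : Ω => by
        obtain ⟨j, rfl⟩ := e.surjective x
        rw [hform', hn', hm0, one_smul, one_mul, add_zero]
      simp [hs1] at hs
    · exact eq_neg_of_add_eq_zero_left h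
  refine ⟨τ, (Equiv.addRight (m / 2)).trans e, hPz, fun j => ?_, fun j => ?_⟩
  · simp only [Equiv.trans_apply, Equiv.coe_addRight, he]
    congr 1; ring
  · simp only [Equiv.trans_apply, Equiv.coe_addRight, hform', hn1]
    congr 1
    field_simp
    ring

end Cfsg.Agent.PermPrime
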