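import Cfsg.Agent.Lib.Perm.DegreePrimePlusOne

/-!
# Degree `p + 1` with a regular normal subgroup: semi-affine maps of `GF(2^q)`
-/

set_option autoImplicit false

namespace Cfsg.Agent.DegPlusOne

open MulAction

variable {G α : Type*} [Group G] [MulAction G α] [FaithfulSMul G α] [Finite α] [Finite G]

theorem regular_case {p d : ℕ} (S : Base G α p d) (hp2 : p ≠ 2) (hα : Nat.card α = p + 1)
    (hd : 0 < d) (N : Subgroup G) (hN : N.Normal)
    (hreg : ∀ x y : α, ∃! n, n ∈ N ∧ n • x = y) :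
    ∃ q : ℕ, q.Prime ∧ p + 1 = 2 ^ q ∧ (d = 1 ∨ d = q) ∧
      ∃ e : α ≃ GaloisField 2 q, ∀ h : G,
        (e.symm.trans ((MulAction.toPerm h).trans e)) ∈ Cfsg.semiaffineGroup (GaloisField 2 q) := by
  classical
  have hp := S.prime
  have hodd : p % 2 = 1 := Nat.odd_iff.1 (hp.odd_of_ne_two hp2)
  -- the points as elements of `N`
  let ε : N → α := fun n => (n : G) • S.a
  have hε : Function.Bijective ε := by
    refine ⟨fun n n' e => Subtype.ext ((hreg S.a (ε n')).unique ⟨n.2, e⟩ ⟨n'.2, rfl⟩), fun b => ?_⟩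
    obtain ⟨n, ⟨hn, hb⟩, -⟩ := hreg S.a b
    exact ⟨⟨n, hn⟩, hb⟩
  have hNc : Nat.card N = p + 1 := by rw [← hα]; exact Nat.card_eq_of_bijective ε hε
  have hne : ∀ n : N, n ≠ 1 → ε n ≠ S.a := fun n hn e => hn (hε.1 (by
    show ε n = ((1 : N) : G) • S.a
    rw [e, Subgroup.coe_one, one_smul]))
  -- the stabiliser acts on `N`
  have hconj : ∀ (x : G), x • S.a = S.a → ∀ m : N,
      ε ⟨x * m * x⁻¹, hN.conj_mem m m.2 x⟩ = x • ε m := fun x hx m => by
    show (x * (m : G) * x⁻¹) • S.a = x • (m : G) • S.a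
    rw [mul_smul, mul_smul, inv_smul_eq_iff.2 hx.symm]
  have htrans : ∀ m m' : N, m ≠ 1 → m' ≠ 1 → ∃ u ∈ Subgroup.zpowers S.g,
      (⟨u * m * u⁻¹, hN.conj_mem m m.2 u⟩ : N) = m' := by
    intro m m' hm hm'
    obtain ⟨u, ⟨hu, he⟩, -⟩ := S.trans _ _ (hne m hm) (hne m' hm')
    exact ⟨u, hu, hε.1 ((hconj u (S.u_fix hu) m).trans he)⟩
  -- elementary abelian of exponent two
  have hsq : ∀ m : N, m * m = 1 := by
    intro m
    by_cases hm : m = 1
    · rw [hm, mul_one]
    have : Fact (Nat.Prime 2) := ⟨Nat.prime_two⟩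
    obtain ⟨t, ht⟩ := exists_prime_orderOf_dvd_card' (G := N) 2 (by rw [hNc]; omega)
    have ht1 : t ≠ 1 := fun e => by rw [e, orderOf_one] at ht; omega
    obtain ⟨u, -, hu⟩ := htrans t m ht1 hm
    have htt : (t : G) * t = 1 := by
      have := orderOf_dvd_iff_pow_eq_one.1 ht.dvd
      rw [sq] at this
      exact congrArg Subtype.val this
    rw [← hu]
    apply Subtype.ext
    show u * (t : G) * u⁻¹ * (u * (t : G) * u⁻¹) = 1
    calc u * (t : G) * u⁻¹ * (u * (t : G) * u⁻¹) = u * ((t : G) * t) * u⁻¹ := by group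
      _ = 1 := by rw [htt, mul_one, mul_inv_cancel]
  let _ : CommGroup N :=
    { (inferInstance : Group N) with
      mul_comm := fun x y => by
        have hinv : ∀ z : N, z⁻¹ = z := fun z => inv_eq_of_mul_eq_one_right (hsq z)
        calc x * y = (x * y)⁻¹ := (hinv _).symm
          _ = y * x := by rw [mul_inv_rev, hinv, hinv] }
  obtain ⟨q, hq⟩ : ∃ q, Nat.card N = 2 ^ q := by
    have : Fact (Nat.Prime 2) := ⟨Nat.prime_two⟩
    exact IsPGroup.iff_card.1 fun z => ⟨1, by rw [pow_one, sq, hsq]⟩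
  have hpq : p + 1 = 2 ^ q := hNc ▸ hq
  have hqp : q.Prime := Nat.Prime.of_mersenne (by rw [mersenne, ← hpq, Nat.add_sub_cancel]; exact hp)
  -- the endomorphisms
  let V := Additive N
  let T : stabilizer G S.a →* AddMonoid.End V :=
    { toFun := fun x => MonoidHom.toAdditive
        { toFun := fun m : N => (⟨(x : G) * m * (x : G)⁻¹, hN.conj_mem m m.2 x⟩ : N)
          map_one' := Subtype.ext (by simp)
          map_mul' := fun m m' => Subtype.ext (by simp [mul_assoc]) }
      map_one' := by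
        refine AddMonoidHom.ext fun v => Subtype.ext ?_
        show (1 : G) * (Additive.toMul v : N) * (1 : G)⁻¹ = (Additive.toMul v : N)
        simp
      map_mul' := fun x y => by
        refine AddMonoidHom.ext fun v => Subtype.ext ?_
        show (x : G) * y * (Additive.toMul v : N) * ((x : G) * y)⁻¹ =
          (x : G) * ((y : G) * (Additive.toMul v : N) * (y : G)⁻¹) * (x : G)⁻¹
        group }
  let g' : stabilizer G S.a := ⟨S.g, S.g_fix⟩
  let t : AddMonoid.End V := T g'
  let K : Subring (AddMonoid.End V) := Subring.closure {t}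
  have htK : ∀ u (hu : u ∈ Subgroup.zpowers S.g), T ⟨u, S.u_fix hu⟩ ∈ K := by
    intro u hu
    obtain ⟨i, rfl⟩ := mem_powers_iff_mem_zpowers.2 hu
    have : (⟨S.g ^ i, S.u_fix hu⟩ : stabilizer G S.a) = g' ^ i := Subtype.ext rfl
    rw [this, map_pow]
    exact K.pow_mem (Subring.subset_closure rfl) i
  have hcomm : ∀ k ∈ K, ∀ l ∈ K, k * l = l * k := by
    intro k hk l hl
    have h1 : K ≤ Subring.centralizer {t} := by
      rw [Subring.closure_le]
      rintro _ rfl
      exact Subring.mem_centralizer_iff.2 fun z hz => by rw [Set.mem_singleton_iff.1 hz]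
    have h2 : K ≤ Subring.centralizer {k} := by
      rw [Subring.closure_le]
      rintro _ rfl
      exact Subring.mem_centralizer_iff.2 fun z hz => by
        rw [Set.mem_singleton_iff.1 hz]; exact ((Subring.mem_centralizer_iff.1 (h1 hk)) _ rfl).symm
    exact Subring.mem_centralizer_iff.1 (h2 hl) _ rfl
  have : Nontrivial N := Finite.one_lt_card_iff_nontrivial.1 (by rw [hNc]; have := hp.two_le; omega)
  obtain ⟨m₀, hm₀⟩ := exists_ne (1 : N)
  let v₀ : V := Additive.ofMul m₀
  let ev : K → V := fun k => (k : AddMonoid.End V) v₀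
  have hev : Function.Bijective ev := by
    refine ⟨fun k l e => Subtype.ext (AddMonoidHom.ext fun w => ?_), fun w => ?_⟩
    · obtain ⟨m, rfl⟩ := Additive.ofMul.surjective w
      by_cases hm : m = 1
      · subst hm
        show (k : AddMonoid.End V) 0 = (l : AddMonoid.End V) 0
        rw [map_zero, map_zero]
      obtain ⟨u, hu, he⟩ := htrans m₀ m hm₀ hm
      have hw : Additive.ofMul m = T ⟨u, S.u_fix hu⟩ v₀ := congrArg Additive.ofMul he.symm
      rw [hw]
      show ((k : AddMonoid.End V) * T ⟨u, S.u_fix hu⟩) v₀ = ((l : AddMonoid.End V) * T ⟨u, S.u_fix hu⟩) v₀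
      rw [hcomm _ k.2 _ (htK u hu), hcomm _ l.2 _ (htK u hu)]
      exact congrArg (T ⟨u, S.u_fix hu⟩) e
    · obtain ⟨m, rfl⟩ := Additive.ofMul.surjective w
      by_cases hm : m = 1
      · exact ⟨0, by subst hm; rfl⟩
      obtain ⟨u, hu, he⟩ := htrans m₀ m hm₀ hm
      exact ⟨⟨_, htK u hu⟩, congrArg Additive.ofMul he⟩
  have hKcard : Nat.card K = 2 ^ q := by
    rw [Nat.card_eq_of_bijective ev hev, ← hq]; exact Nat.card_congr Additive.toMul
  have : Finite K := Finite.of_injective ev hev.1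
  have : Nontrivial K := Finite.one_lt_card_iff_nontrivial.1 (by
    rw [hKcard]; exact Nat.one_lt_two_pow hqp.ne_zero)
  let _ : CommRing K :=
    { (inferInstance : Ring K) with mul_comm := fun k l => Subtype.ext (hcomm _ k.2 _ l.2) }
  have hev0 : ev 0 = 0 := rfl
  have : NoZeroDivisors K := ⟨fun {k l} h => by
    by_contra hc
    simp only [not_or] at hc
    obtain ⟨hk, hl⟩ := hc
    apply hk
    apply hev.1
    rw [hev0]
    -- `l v₀` is nonzero, hence a translate of `v₀`
    have hlv : ev l ≠ 0 := fun e => hl (hev.1 (e.trans hev0.symm))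
    obtain ⟨m, hm⟩ := Additive.ofMul.surjective (ev l)
    have hm1 : m ≠ 1 := fun e => hlv (by rw [← hm, e]; rfl)
    obtain ⟨u, hu, he⟩ := htrans m₀ m hm₀ hm1
    have h1 : T ⟨u, S.u_fix hu⟩ (ev k) = 0 := by
      have h0 : ((k : AddMonoid.End V) * (l : AddMonoid.End V)) v₀ = 0 :=
        congrArg (fun z : K => (z : AddMonoid.End V) v₀) h
      have hlm : ev l = T ⟨u, S.u_fix hu⟩ v₀ := hm.symm.trans (congrArg Additive.ofMul he.symm)
      calc T ⟨u, S.u_fix hu⟩ (ev k) = (T ⟨u, S.u_fix hu⟩ * (k : AddMonoid.End V)) v₀ := rfl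
        _ = ((k : AddMonoid.End V) * T ⟨u, S.u_fix hu⟩) v₀ := by rw [hcomm _ k.2 _ (htK u hu)]
        _ = (k : AddMonoid.End V) (ev l) := by rw [hlm]; rfl
        _ = 0 := h0
    have h2 := congrArg (T ⟨u, S.u_fix hu⟩⁻¹) h1
    rw [map_zero] at h2
    rw [← h2]
    show ev k = (T ⟨u, S.u_fix hu⟩⁻¹ * T ⟨u, S.u_fix hu⟩) (ev k)
    rw [← map_mul, inv_mul_cancel, map_one]
    rfl⟩
  have : IsDomain K := NoZeroDivisors.to_isDomain _
  let _ : Fintype K := Fintype.ofFinite K
  let _ : Field K := Fintype.fieldOfDomain K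
  let _ : Fintype (GaloisField 2 q) := Fintype.ofFinite _
  let ψ : K ≃+* GaloisField 2 q := FiniteField.ringEquivOfCardEq (by
    rw [← Nat.card_eq_fintype_card, ← Nat.card_eq_fintype_card, hKcard, GaloisField.card 2 q hqp.ne_zero])
  let ev' : K ≃ V := Equiv.ofBijective ev hev
  let ε' : N ≃ α := Equiv.ofBijective ε hε
  let e : α ≃ GaloisField 2 q :=
    ε'.symm.trans (Additive.ofMul.trans (ev'.symm.trans ψ.toEquiv))
  have he : ∀ k : K, e (ε (Additive.toMul (ev k))) = ψ k := fun k => by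
    show ψ (ev'.symm (Additive.ofMul (ε'.symm (ε' (Additive.toMul (ev k)))))) = ψ k
    rw [ε'.symm_apply_apply, ofMul_toMul]
    exact congrArg ψ (ev'.symm_apply_apply k)
  -- an element of the stabiliser acts semilinearly
  have hlin : ∀ x : stabilizer G S.a, ∃ (c : (GaloisField 2 q)ˣ) (σ : GaloisField 2 q ≃+* GaloisField 2 q),
      (∀ b : α, e ((x : G) • b) = (c : GaloisField 2 q) * σ (e b)) := by
    intro x
    have hmem : ∀ k ∈ K, T x * k * T x⁻¹ ∈ K := by
      intro k hk
      refine Subring.closure_induction (p := fun k _ => T x * k * T x⁻¹ ∈ K) ?_ ?_ ?_ ?_ ?_ ?_ hk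
      · rintro _ rfl
        have hu := S.normal x x.2 _ (Subgroup.mem_zpowers S.g)
        have e1 : x * g' * x⁻¹ = ⟨(x : G) * S.g * (x : G)⁻¹, S.u_fix hu⟩ := Subtype.ext rfl
        show T x * T g' * T x⁻¹ ∈ K
        rw [← map_mul, ← map_mul, e1]
        exact htK _ hu
      · simp
      · rw [mul_one, ← map_mul, mul_inv_cancel, map_one]; exact K.one_mem
      · intro a b _ _ ha hb
        rw [mul_add, add_mul]; exact K.add_mem ha hb
      · intro a _ ha
        have e2 : T x * -a * T x⁻¹ = -(T x * a * T x⁻¹) := AddMonoidHom.ext fun v => by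
          show T x (-(a (T x⁻¹ v))) = -(T x (a (T x⁻¹ v)))
          rw [map_neg]
        rw [e2]; exact K.neg_mem ha
      · intro a b _ _ ha hb
        have h1 : T x⁻¹ * T x = 1 := by rw [← map_mul, inv_mul_cancel, map_one]
        have h2 : T x * (a * b) * T x⁻¹ = (T x * a * T x⁻¹) * (T x * b * T x⁻¹) := by
          calc T x * (a * b) * T x⁻¹ = T x * a * 1 * (b * T x⁻¹) := by noncomm_ring
            _ = T x * a * (T x⁻¹ * T x) * (b * T x⁻¹) := by rw [h1]
            _ = _ := by noncomm_ring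
        rw [h2]; exact K.mul_mem ha hb
    have hxx : T x⁻¹ * T x = 1 := by rw [← map_mul, inv_mul_cancel, map_one]
    have hxx' : T x * T x⁻¹ = 1 := by rw [← map_mul, mul_inv_cancel, map_one]
    let φ : K →+* K :=
      { toFun := fun k => ⟨_, hmem k k.2⟩
        map_one' := Subtype.ext (by show T x * 1 * T x⁻¹ = 1; rw [mul_one, hxx'])
        map_zero' := Subtype.ext (by show T x * 0 * T x⁻¹ = 0; simp)
        map_add' := fun k l => Subtype.ext (by
          show T x * ((k : AddMonoid.End V) + l) * T x⁻¹ = T x * k * T x⁻¹ + T x * l * T x⁻¹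
          rw [mul_add, add_mul])
        map_mul' := fun k l => Subtype.ext (by
          show T x * ((k : AddMonoid.End V) * l) * T x⁻¹ = T x * k * T x⁻¹ * (T x * l * T x⁻¹)
          calc T x * ((k : AddMonoid.End V) * l) * T x⁻¹ = T x * k * 1 * (l * T x⁻¹) := by noncomm_ring
            _ = T x * k * (T x⁻¹ * T x) * (l * T x⁻¹) := by rw [hxx]
            _ = _ := by noncomm_ring) }
    have hφ : Function.Bijective φ :=
      Finite.injective_iff_bijective.1 (RingHom.injective φ)
    obtain ⟨c, hc⟩ := hev.2 (T x v₀)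
    have hc0 : c ≠ 0 := fun h => by
      rw [h, hev0] at hc
      have h2 := congrArg (T x⁻¹) hc
      rw [map_zero] at h2
      have : v₀ = 0 := by
        rw [h2]
        show v₀ = (T x⁻¹ * T x) v₀
        rw [hxx]; rfl
      exact hm₀ this
    let σ : GaloisField 2 q ≃+* GaloisField 2 q :=
      ψ.symm.trans ((RingEquiv.ofBijective φ hφ).trans ψ)
    refine ⟨Units.mk0 (ψ c) (fun h => hc0 (ψ.injective (h.trans ψ.map_zero.symm))), σ, fun b => ?_⟩
    obtain ⟨m, rfl⟩ := hε.2 b
    obtain ⟨k, hk⟩ := hev.2 (Additive.ofMul m)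
    have hm : m = Additive.toMul (ev k) := by rw [hk]; rfl
    have hxk : ev (c * φ k) = Additive.ofMul
        (⟨(x : G) * m * (x : G)⁻¹, hN.conj_mem m m.2 x⟩ : N) := by
      calc ev (c * φ k) = ev (φ k * c) := by rw [mul_comm]
        _ = (T x * (k : AddMonoid.End V) * T x⁻¹) (ev c) := rfl
        _ = T x ((k : AddMonoid.End V) ((T x⁻¹ * T x) v₀)) := by rw [hc]; rfl
        _ = T x (ev k) := by rw [hxx]; rfl
        _ = T x (Additive.ofMul m) := by rw [hk]
        _ = _ := rfl
    rw [← hconj x x.2 m, hm, he k]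
    have := he (c * φ k)
    rw [hxk, toMul_ofMul] at this
    simp only [hm] at this
    rw [this, map_mul]
    show ψ c * ψ (φ k) = ψ c * ψ (φ (ψ.symm (ψ k)))
    rw [RingEquiv.symm_apply_apply]
  have haff : ∀ h : G, (e.symm.trans ((MulAction.toPerm h).trans e)) ∈
      Cfsg.semiaffineGroup (GaloisField 2 q) := by
    intro h
    obtain ⟨n, hn⟩ := hε.2 (h • S.a)
    have hx : (n : G)⁻¹ * h ∈ stabilizer G S.a := by
      rw [mem_stabilizer_iff, mul_smul, inv_smul_eq_iff]; exact hn.symm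
    obtain ⟨c, σ, hσ⟩ := hlin ⟨_, hx⟩
    obtain ⟨kn, hkn⟩ := hev.2 (Additive.ofMul n)
    refine ⟨c, ψ kn, σ, fun z => ?_⟩
    show e (h • e.symm z) = _
    obtain ⟨m, hm⟩ := hε.2 (((n : G)⁻¹ * h) • e.symm z)
    obtain ⟨km, hkm⟩ := hev.2 (Additive.ofMul m)
    have h1 : h • e.symm z = ε (n * m) := by
      show _ = ((n * m : N) : G) • S.a
      rw [Subgroup.coe_mul, mul_smul, show (m : G) • S.a = ε m from rfl, hm, ← mul_smul,
        mul_inv_cancel_left]
    have h2 : n * m = Additive.toMul (ev (kn + km)) := by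
      show _ = Additive.toMul ((kn : AddMonoid.End V) v₀ + (km : AddMonoid.End V) v₀)
      rw [show (kn : AddMonoid.End V) v₀ = _ from hkn,
        show (km : AddMonoid.End V) v₀ = _ from hkm]
      rfl
    rw [h1, h2, he, map_add, add_comm]
    congr 1
    rw [← he km, hkm, toMul_ofMul, hm]
    rw [hσ (e.symm z), e.apply_symm_apply]
  refine ⟨q, hqp, hpq, ?_, e, haff⟩
  -- the two-point stabiliser embeds in the field automorphisms
  let b₀ : α := ε m₀
  have hb₀ : b₀ ≠ S.a := hne m₀ hm₀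
  let D : Subgroup (stabilizer G S.a) := stabilizer (stabilizer G S.a) b₀
  have he1 : e b₀ = 1 := by
    have := he 1
    rwa [map_one, show Additive.toMul (ev 1) = m₀ from rfl] at this
  have hDlin : ∀ x : D, ∃ σ : GaloisField 2 q ≃+* GaloisField 2 q,
      ∀ z, σ z = e (((x : stabilizer G S.a) : G) • e.symm z) := by
    intro x
    obtain ⟨c, σ, hσ⟩ := hlin x
    have hx : ((x : stabilizer G S.a) : G) • b₀ = b₀ := x.2
    have hc1 : (c : GaloisField 2 q) = 1 := by
      have := hσ b₀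
      rw [hx, he1, map_one, mul_one] at this
      exact this.symm
    exact ⟨σ, fun z => by rw [hσ, hc1, one_mul, e.apply_symm_apply]⟩
  choose Φ hΦ using hDlin
  let Ψ : D →* (GaloisField 2 q ≃ₐ[ZMod 2] GaloisField 2 q) :=
    MonoidHom.mk' (fun x => AlgEquiv.ofRingEquiv (f := Φ x) (fun r => by
      have : (Φ x).toRingHom.comp (algebraMap (ZMod 2) (GaloisField 2 q)) =
          algebraMap (ZMod 2) (GaloisField 2 q) := RingHom.ext_zmod _ _
      exact RingHom.congr_fun this r)) (fun x y => AlgEquiv.ext fun z => by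
        show Φ (x * y) z = Φ x (Φ y z)
        rw [hΦ, hΦ, hΦ, e.symm_apply_apply, Subgroup.coe_mul, Subgroup.coe_mul, mul_smul])
  have hΨ : Function.Injective Ψ := by
    intro x y h
    apply Subtype.ext; apply Subtype.ext
    refine eq_of_smul_eq_smul (α := α) fun b => e.injective ?_
    have h' : Φ x (e b) = Φ y (e b) := congrArg (fun f : GaloisField 2 q ≃ₐ[ZMod 2] GaloisField 2 q => f (e b)) h
    rwa [hΦ, hΦ, e.symm_apply_apply] at h'
  have hDcard : Nat.card D = d := by
    have h := D.card_mul_index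
    rw [index_stabilizer, S.card_stab] at h
    have horb : orbit (stabilizer G S.a) b₀ = {c | c ≠ S.a} := by
      refine Set.ext fun c => ⟨?_, fun hc => ?_⟩
      · rintro ⟨x, rfl⟩ e'
        exact hb₀ (MulAction.injective (x : G) (e'.trans x.2.symm))
      · obtain ⟨u, ⟨hu, he'⟩, -⟩ := S.trans b₀ c hb₀ hc
        exact ⟨⟨u, S.u_fix hu⟩, he'⟩
    have hcard : Set.ncard {c : α | c ≠ S.a} = p := by
      rw [show {c : α | c ≠ S.a} = ({S.a} : Set α)ᶜ from rfl, Set.ncard_compl, Set.ncard_singleton, hα]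
      omega
    rw [horb, hcard, mul_comm p d] at h
    exact Nat.eq_of_mul_eq_mul_right hp.pos h
  have hdvd : d ∣ q := by
    have := Subgroup.card_dvd_of_injective Ψ hΨ
    rwa [hDcard, IsGalois.card_aut_eq_finrank, GaloisField.finrank 2 hqp.ne_zero] at this
  exact hqp.eq_one_or_self_of_dvd d hdvd

end Cfsg.Agent.DegPlusOne
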