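import Cfsg.Agent.Lib.Perm.Modules
import Cfsg.Agent.Lib.Perm.Burnside
import Mathlib.GroupTheory.GroupAction.SubMulAction.Combination

/-!
Criteria for triple transitivity from the heart of the permutation module.
-/

set_option autoImplicit false
set_option linter.style.haveILetI false
set_option linter.unusedSectionVars false

namespace Cfsg.Agent.PermThree

open MulAction
open scoped Pointwise
open Cfsg.Agent.PermModules Cfsg.Agent.PermPrime

variable {G : Type*} [Group G] {Ω : Type*} [MulAction G Ω] [DecidableEq Ω]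

theorem three_of_orbit [Finite G] [FaithfulSMul G Ω] (h2 : IsMultiplyPretransitive G Ω 2)
    (heven : ∀ a : Ω, Even (Nat.card (stabilizer G a)))
    (hT : ∀ (x y : Ω) (P Q : Set.powersetCard Ω 2), x ∉ P → y ∉ Q → ∃ g : G, g • x = y ∧ g • P = Q) :
    IsMultiplyPretransitive G Ω 3 := by
  haveI := isPretransitive_of_is_two_pretransitive (G := G) (α := Ω)
  have hpair : ∀ u v w : Ω, u ≠ v → u ≠ w → v ≠ w → ∃ g : G, g • u = u ∧ g • v = w ∧ g • w = v := by
    intro u v w huv huw hvw
    obtain ⟨⟨t, ht⟩, ho⟩ := exists_prime_orderOf_dvd_card' 2 (even_iff_two_dvd.1 (heven u))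
    rw [Subgroup.orderOf_mk] at ho
    obtain ⟨b, hb⟩ : ∃ b, t • b ≠ b := by
      by_contra h
      simp only [not_exists, not_not] at h
      have : t = 1 := FaithfulSMul.eq_of_smul_eq_smul fun x : Ω => by rw [h x, one_smul]
      simp [this] at ho
    have htb : t • t • b = b := by rw [smul_smul, ← pow_two, ← ho, pow_orderOf_eq_one, one_smul]
    have hub : u ≠ b := by rintro rfl; exact hb ht
    have hut : u ≠ t • b := fun e => hub (smul_left_cancel t ((ht : t • u = u).trans e))
    obtain ⟨g, hgu, hg⟩ := hT u u ⟨{b, t • b}, by rw [Set.powersetCard.mem_iff, Finset.card_pair hb.symm]⟩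
      ⟨{v, w}, by rw [Set.powersetCard.mem_iff, Finset.card_pair hvw]⟩
      (by rw [← Set.powersetCard.mem_coe_iff]; simp [hub, hut])
      (by rw [← Set.powersetCard.mem_coe_iff]; simp [huv, huw])
    have hgu' : g⁻¹ • u = u := by rw [inv_smul_eq_iff, hgu]
    have hset : g • ({b, t • b} : Finset Ω) = {v, w} := congrArg Subtype.val hg
    have hv : v = g • b ∨ v = g • t • b := by
      have h : v ∈ g • ({b, t • b} : Finset Ω) := by rw [hset]; simp
      simpa [Finset.smul_finset_insert] using h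
    have hw : w = g • b ∨ w = g • t • b := by
      have h : w ∈ g • ({b, t • b} : Finset Ω) := by rw [hset]; simp
      simpa [Finset.smul_finset_insert] using h
    refine ⟨g * t * g⁻¹, ?_, ?_, ?_⟩
    · rw [mul_smul, hgu', mul_smul, show t • u = u from ht, hgu]
    all_goals
      rcases hv with hv | hv <;> rcases hw with hw | hw
      · exact absurd (hv.trans hw.symm) hvw
      · subst hv; subst hw; simp [mul_smul, htb]
      · subst hv; subst hw; simp [mul_smul, htb]
      · exact absurd (hv.trans hw.symm) hvw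
  rw [isMultiplyPretransitive_iff]
  intro x y
  have ne : ∀ (f : Fin 3 ↪ Ω) i j, i ≠ j → f i ≠ f j := fun f i j h e => h (f.injective e)
  obtain ⟨g, hg0, hg⟩ := hT (x 0) (y 0)
    ⟨{x 1, x 2}, by rw [Set.powersetCard.mem_iff, Finset.card_pair (ne x 1 2 (by decide))]⟩
    ⟨{y 1, y 2}, by rw [Set.powersetCard.mem_iff, Finset.card_pair (ne y 1 2 (by decide))]⟩
    (by rw [← Set.powersetCard.mem_coe_iff]; simp [ne x 0 1 (by decide), ne x 0 2 (by decide)])
    (by rw [← Set.powersetCard.mem_coe_iff]; simp [ne y 0 1 (by decide), ne y 0 2 (by decide)])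
  have hset : g • ({x 1, x 2} : Finset Ω) = {y 1, y 2} := congrArg Subtype.val hg
  have h1 : g • x 1 = y 1 ∨ g • x 1 = y 2 := by
    have h : g • x 1 ∈ g • ({x 1, x 2} : Finset Ω) := Finset.smul_mem_smul_finset (by simp)
    rw [hset] at h
    simpa using h
  have h2' : g • x 2 = y 1 ∨ g • x 2 = y 2 := by
    have h : g • x 2 ∈ g • ({x 1, x 2} : Finset Ω) := Finset.smul_mem_smul_finset (by simp)
    rw [hset] at h
    simpa using h
  have hne : g • x 1 ≠ g • x 2 := fun e => ne x 1 2 (by decide) (smul_left_cancel g e)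
  rcases h1 with h1 | h1
  · have h3 : g • x 2 = y 2 := h2'.resolve_left fun e => hne (h1.trans e.symm)
    refine ⟨g, Function.Embedding.ext fun i => ?_⟩
    fin_cases i <;> assumption
  · have h3 : g • x 2 = y 1 := h2'.resolve_right fun e => hne (h1.trans e.symm)
    obtain ⟨k, hk0, hk1, hk2⟩ :=
      hpair (y 0) (y 1) (y 2) (ne y 0 1 (by decide)) (ne y 0 2 (by decide)) (ne y 1 2 (by decide))
    refine ⟨k * g, Function.Embedding.ext fun i => ?_⟩
    fin_cases i <;> simp [mul_smul, hg0, h1, h3, hk0, hk1, hk2]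

variable [Fintype Ω] {K : Type*} [Field K]

theorem three_transitive [Finite G] [FaithfulSMul G Ω] {p : ℕ} [Fact p.Prime] [CharP K p]
    (h2 : IsMultiplyPretransitive G Ω 2) (hp : p ∣ Fintype.card Ω)
    (heven : ∀ a : Ω, Even (Nat.card (stabilizer G a)))
    (h : ∀ f : Representation.IntertwiningMap (Cfsg.permSumZero K G Ω).toRepresentation
        (Cfsg.permRep K G (Set.powersetCard Ω 2)),
      (∀ v : (Cfsg.permSumZero K G Ω).toSubmodule,
        (v : Ω → K) ∈ (Cfsg.permConstants K G Ω).toSubmodule → f v = 0) → f = 0) :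
    IsMultiplyPretransitive G Ω 3 := by
  classical
  have hn0 : (Fintype.card Ω : K) = 0 := (CharP.cast_eq_zero_iff K p _).2 hp
  have key : ∀ M : Ω → Set.powersetCard Ω 2 → K, (∀ (g : G) x P, M (g • x) (g • P) = M x P) →
      (∀ P, ∑ x, M x P = 0) → ∀ P x y, M x P = M y P := by
    intro M hinv hsum P x y
    let f0 : (Ω → K) →ₗ[K] (Set.powersetCard Ω 2 → K) :=
      { toFun := fun v P => ∑ x, M x P * v x
        map_add' := fun u v => funext fun P => by simp [mul_add, Finset.sum_add_distrib]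
        map_smul' := fun k v => funext fun P => by simp [Finset.mul_sum, mul_left_comm] }
    have hf0 : ∀ g v, f0 (Cfsg.permRep K G Ω g v) =
        Cfsg.permRep K G (Set.powersetCard Ω 2) g (f0 v) := by
      intro g v
      funext Q
      refine Fintype.sum_equiv (toPerm g⁻¹) _ _ fun x => ?_
      rw [toPerm_apply, permRep_apply, hinv]
    have hf := h (LinearMap.intertwiningMap_of_isIntertwiningMap _ _
      (f0.comp (Cfsg.permSumZero K G Ω).toSubmodule.subtype) (fun g v => hf0 g v)) (fun v hv => by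
        obtain ⟨c, hc⟩ := mem_permConstants.1 hv
        show f0 (v : Ω → K) = 0
        funext Q
        show ∑ x, M x Q * (v : Ω → K) x = 0
        rw [Finset.sum_congr rfl (fun x _ => by rw [hc x]), ← Finset.sum_mul, hsum, zero_mul])
    have hmem : (Pi.single x (1 : K) - Pi.single y 1 : Ω → K) ∈
        (Cfsg.permSumZero K G Ω).toSubmodule := by
      show ∑ z, _ = 0
      simp [Finset.sum_sub_distrib, Finset.sum_pi_single']
    have h0 := congrFun (DFunLike.congr_fun hf ⟨_, hmem⟩) P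
    have h1 : ∑ z, M z P * (Pi.single x (1 : K) - Pi.single y 1 : Ω → K) z = 0 := h0
    simpa [mul_sub, Finset.sum_sub_distrib, Pi.single_apply, sub_eq_zero] using h1
  rcases Nat.lt_or_ge (Fintype.card Ω) 3 with hlt | hge
  · rw [isMultiplyPretransitive_iff]
    intro x
    have := Fintype.card_le_of_injective x x.injective
    simp at this
    omega
  obtain ⟨i, hi⟩ : ∃ i : Ω → Set.powersetCard Ω 2 → K, ∀ x P, i x P = if x ∈ P then 1 else 0 :=
    ⟨_, fun _ _ => rfl⟩
  have hmemsmul : ∀ (g : G) (x : Ω) (P : Set.powersetCard Ω 2), g • x ∈ g • P ↔ x ∈ P := by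
    intro g x P
    rw [← Set.powersetCard.mem_coe_iff, ← Set.powersetCard.mem_coe_iff, Set.powersetCard.coe_smul,
      Finset.smul_mem_smul_finset_iff]
  have hiinv : ∀ (g : G) x P, i (g • x) (g • P) = i x P := fun g x P => by
    rw [hi, hi]; exact if_congr (hmemsmul g x P) rfl rfl
  have hisum : ∀ P, ∑ x, i x P = 2 := by
    intro P
    simp only [hi, ← Set.powersetCard.mem_coe_iff, Finset.sum_boole]
    rw [show (Finset.univ.filter fun x => x ∈ (P : Finset Ω)) = (P : Finset Ω) by ext; simp,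
      Set.powersetCard.card_eq]
    norm_num
  obtain ⟨x₀, x₁, x₂, h01, h02, h12⟩ := Fintype.two_lt_card_iff.1 hge
  let P₀ : Set.powersetCard Ω 2 := ⟨{x₁, x₂}, by rw [Set.powersetCard.mem_iff, Finset.card_pair h12]⟩
  have hx₀ : x₀ ∉ P₀ := by rw [← Set.powersetCard.mem_coe_iff]; simp [P₀, h01, h02]
  have hx₁ : x₁ ∈ P₀ := by rw [← Set.powersetCard.mem_coe_iff]; simp [P₀]
  by_cases h20 : (2 : K) = 0
  · exfalso
    have := key i hiinv (fun P => (hisum P).trans h20) P₀ x₀ x₁
    rw [hi, hi, if_neg hx₀, if_pos hx₁] at this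
    exact zero_ne_one this
  refine three_of_orbit h2 heven fun a b P Q ha hb => ?_
  haveI : IsPretransitive G (Set.powersetCard Ω 2) :=
    Set.powersetCard.isPretransitive_of_isMultiplyPretransitive (G := G) h2
  obtain ⟨M, hM⟩ : ∃ M : Ω → Set.powersetCard Ω 2 → K,
      ∀ x R, M x R = if ∃ g : G, g • a = x ∧ g • P = R then 1 else 0 := ⟨_, fun _ _ => rfl⟩
  have hMinv : ∀ (g : G) x R, M (g • x) (g • R) = M x R := by
    intro g x R
    rw [hM, hM]
    refine if_congr ⟨?_, ?_⟩ rfl rfl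
    · rintro ⟨k, h1, h2⟩
      exact ⟨g⁻¹ * k, by rw [mul_smul, h1, inv_smul_smul], by rw [mul_smul, h2, inv_smul_smul]⟩
    · rintro ⟨k, h1, h2⟩
      exact ⟨g * k, by rw [mul_smul, h1], by rw [mul_smul, h2]⟩
  let c : K := ∑ x, M x Q
  have hc : ∀ R, ∑ x, M x R = c := by
    intro R
    obtain ⟨g, rfl⟩ := exists_smul_eq G Q R
    exact Fintype.sum_equiv (toPerm g⁻¹) _ _ fun x => by
      rw [toPerm_apply, ← hMinv g (g⁻¹ • x) Q, smul_inv_smul]
  have hk := key (fun x R => M x R - c / 2 * i x R) (fun g x R => by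
      show M (g • x) (g • R) - _ = _
      rw [hMinv, hiinv]) (fun R => by
      rw [Finset.sum_sub_distrib, hc, ← Finset.mul_sum, hisum, div_mul_cancel₀ _ h20, sub_self]) Q b
  obtain ⟨g, hg⟩ := exists_smul_eq G P Q
  have h1 := hk (g • a)
  simp only [hi] at h1
  rw [if_neg hb, if_neg (fun hmem => ha ((hmemsmul g a P).1 (hg ▸ hmem))), mul_zero, sub_zero,
    sub_zero, hM b Q, hM (g • a) Q, if_pos (⟨g, rfl, hg⟩ : ∃ k : G, k • a = g • a ∧ k • P = Q)] at h1
  by_contra hne
  rw [if_neg hne] at h1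
  exact zero_ne_one h1

theorem three_transitive_prime [Finite G] [FaithfulSMul G Ω] {p : ℕ} [Fact p.Prime]
    [IsPretransitive G Ω] (hΩ : Nat.card Ω = p) (hG : ¬ Group.IsSolvable G) (P : Sylow p G)
    (heven : Even (Nat.card (Subgroup.normalizer ((P : Subgroup G) : Set G)))) :
    IsMultiplyPretransitive G Ω 3 := by
  have h2 : IsMultiplyPretransitive G Ω 2 := (burnside hΩ).resolve_left hG
  obtain ⟨τ₀, e₀, he₀⟩ := exists_coord (G := G) hΩ
  have hp5 := (not_solvable_not_affine hG e₀).2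
  obtain ⟨⟨s, hsN⟩, hs⟩ := exists_prime_orderOf_dvd_card' 2 (even_iff_two_dvd.1 heven)
  rw [Subgroup.orderOf_mk] at hs
  obtain ⟨τ, e, -, he, hse⟩ := coord_involution hΩ (by omega) P hs hsN
  have hcard : Fintype.card Ω = p := by rw [← Nat.card_eq_fintype_card, hΩ]
  have heven' : ∀ a : Ω, Even (Nat.card (stabilizer G a)) := by
    intro a
    obtain ⟨g, hg⟩ := exists_smul_eq G (e 0) a
    rw [← hg, Nat.card_congr (stabilizerEquivStabilizer (g := g) (a := e 0) rfl).toEquiv.symm,
      even_iff_two_dvd]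
    have : s ∈ stabilizer G (e 0) := by rw [mem_stabilizer_iff, hse, neg_zero]
    have h1 := orderOf_dvd_natCard (⟨s, this⟩ : stabilizer G (e 0))
    rwa [Subgroup.orderOf_mk, hs] at h1
  refine three_transitive (K := ZMod p) h2 (by rw [hcard]) heven' fun f hfC => ?_
  -- the kernel of `f`
  set S := (Cfsg.permSumZero (ZMod p) G Ω).toSubmodule with hS
  let W : Subrepresentation (Cfsg.permRep (ZMod p) G Ω) :=
    ⟨(LinearMap.ker f.toLinearMap).map S.subtype, by
      rintro g _ ⟨v, hv, rfl⟩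
      refine ⟨(Cfsg.permSumZero (ZMod p) G Ω).toRepresentation g v, ?_, rfl⟩
      show f.toLinearMap _ = 0
      have := LinearMap.congr_fun (f.isIntertwining' g) v
      simp only [LinearMap.comp_apply] at this
      rw [this, LinearMap.mem_ker.1 hv, map_zero]⟩
  have hCS : (Cfsg.permConstants (ZMod p) G Ω).toSubmodule ≤ S :=
    constants_le_sumZero (p := p) (by rw [hcard])
  have hCW : (Cfsg.permConstants (ZMod p) G Ω).toSubmodule ≤ W.toSubmodule := fun v hv =>
    ⟨⟨v, hCS hv⟩, hfC ⟨v, hCS hv⟩ hv, rfl⟩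
  let w : Ω → ZMod p := fun x => e.symm x
  have hw : w ∈ S := by
    rw [hS, mem_permSumZero, ← e.sum_comp]
    simp only [w, Equiv.symm_apply_apply]
    simpa using FiniteField.sum_pow_lt_card_sub_one (ZMod p) 1 (by rw [ZMod.card]; omega)
  let ρ := (Cfsg.permSumZero (ZMod p) G Ω).toRepresentation
  have hfρ : ∀ g v, f (ρ g v) = Cfsg.permRep (ZMod p) G (Set.powersetCard Ω 2) g (f v) :=
    fun g v => LinearMap.congr_fun (f.isIntertwining' g) v
  have hτinv : ∀ j, τ⁻¹ • e j = e (j - 1) := fun j => by rw [inv_smul_eq_iff, he, sub_add_cancel]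
  have hτ : ∀ Q, f ⟨w, hw⟩ (τ⁻¹ • Q) = f ⟨w, hw⟩ Q := by
    intro Q
    have h1 : f (ρ τ ⟨w, hw⟩ - ⟨w, hw⟩) = 0 := by
      refine hfC _ (mem_permConstants.2 ⟨-1, fun x => ?_⟩)
      obtain ⟨j, rfl⟩ := e.surjective x
      show w (τ⁻¹ • e j) - w (e j) = -1
      simp [w, hτinv]
    rw [map_sub, sub_eq_zero, hfρ] at h1
    exact congrFun h1 Q
  have hsinv : ∀ j, s⁻¹ • e j = e (-j) := fun j => by rw [inv_smul_eq_iff, hse, neg_neg]
  have hs' : ∀ Q, f ⟨w, hw⟩ (s⁻¹ • Q) = - f ⟨w, hw⟩ Q := by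
    intro Q
    have h1 : ρ s ⟨w, hw⟩ = -⟨w, hw⟩ := by
      apply Subtype.ext
      funext x
      obtain ⟨j, rfl⟩ := e.surjective x
      show w (s⁻¹ • e j) = - w (e j)
      simp [w, hsinv]
    have h2 := hfρ s ⟨w, hw⟩
    rw [h1, map_neg] at h2
    exact (congrFun h2 Q).symm
  have htwo : (2 : ZMod p) ≠ 0 := by
    intro h
    have h3 : ((2 : ℕ) : ZMod p) = 0 := by exact_mod_cast h
    rw [ZMod.natCast_eq_zero_iff] at h3
    have := Nat.le_of_dvd (by norm_num) h3
    omega
  have hpow : ∀ (n : ℕ) Q, f ⟨w, hw⟩ ((τ⁻¹) ^ n • Q) = f ⟨w, hw⟩ Q := by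
    intro n
    induction n with
    | zero => simp
    | succ n ih => intro Q; rw [pow_succ, mul_smul, ih, hτ]
  have hpow' : ∀ (n : ℕ) j, (τ⁻¹) ^ n • e j = e (j - n) := by
    intro n
    induction n with
    | zero => simp
    | succ n ih => intro j; rw [pow_succ', mul_smul, ih, hτinv, Nat.cast_succ, sub_sub]
  have hfw : f ⟨w, hw⟩ = 0 := by
    funext Q
    obtain ⟨u, v, huv, hQ⟩ := Finset.card_eq_two.1 (Set.powersetCard.card_eq Q)
    obtain ⟨i, rfl⟩ := e.surjective u
    obtain ⟨j, rfl⟩ := e.surjective v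
    let n : ℕ := ((i + j) / 2).val
    have hn : (n : ZMod p) = (i + j) / 2 := ZMod.natCast_zmod_val _
    have hfix : s⁻¹ • (τ⁻¹) ^ n • Q = (τ⁻¹) ^ n • Q := by
      apply Subtype.ext
      rw [Set.powersetCard.coe_smul, Set.powersetCard.coe_smul, hQ]
      simp only [Finset.smul_finset_insert, Finset.smul_finset_singleton, hpow', hsinv, hn]
      rw [Finset.pair_comm]
      have e1 : -(j - (i + j) / 2) = i - (i + j) / 2 := by field_simp; ring
      have e2 : -(i - (i + j) / 2) = j - (i + j) / 2 := by field_simp; ring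
      rw [e1, e2]
    have h1 := hs' ((τ⁻¹) ^ n • Q)
    rw [hfix, hpow] at h1
    have h2' : (2 : ZMod p) * f ⟨w, hw⟩ Q = 0 := by linear_combination h1
    exact (mul_eq_zero.1 h2').resolve_left htwo
  have hwW : w ∈ W.toSubmodule := ⟨⟨w, hw⟩, hfw, rfl⟩
  have hWS : W.toSubmodule = S := by
    refine (heart_irreducible hΩ hG W hCW (Submodule.map_subtype_le _ _)).resolve_left fun h => ?_
    obtain ⟨c, hc⟩ := mem_permConstants.1 (h ▸ hwW)
    have h1 := (hc (e 1)).trans (hc (e 0)).symm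
    simp [w] at h1
  apply DFunLike.ext
  intro v
  obtain ⟨v', hv', hvv⟩ := hWS.ge v.2
  rw [show v' = v from Subtype.ext hvv] at hv'
  exact hv'

end Cfsg.Agent.PermThree
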