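import Cfsg.Prelude.Def_Perm
import Mathlib.GroupTheory.Sylow
import Mathlib.GroupTheory.GroupAction.Quotient
import Mathlib.GroupTheory.GroupAction.MultipleTransitivity
import Mathlib.Algebra.Group.Subgroup.Finite

/-!
Sharply doubly transitive groups: the regular normal subgroup (without Frobenius' theorem).
-/

set_option autoImplicit false
set_option linter.style.haveILetI false
set_option linter.unusedSectionVars false

namespace Cfsg.Agent.PermSharp

open MulAction

variable {G : Type*} [Group G] [Finite G] {Ω : Type*} [MulAction G Ω] [Finite Ω]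

/-- A sharply doubly transitive group has a regular normal elementary abelian subgroup made of
the identity and the fixed-point-free elements. -/
theorem exists_regular_normal (h2 : IsMultiplyPretransitive G Ω 2) (hn : 2 ≤ Nat.card Ω)
    (hsharp : ∀ (g : G) (a b : Ω), a ≠ b → g • a = a → g • b = b → g = 1) :
    ∃ (p j : ℕ) (N : Subgroup G), p.Prime ∧ 1 ≤ j ∧ Nat.card Ω = p ^ j ∧ N.Normal ∧
      Nat.card N = Nat.card Ω ∧ N.index = Nat.card Ω - 1 ∧
      (∀ x ∈ N, ∀ y ∈ N, x * y = y * x) ∧ (∀ x ∈ N, x ^ p = 1) ∧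
      (∀ g, g ∈ N ↔ g = 1 ∨ ∀ a : Ω, g • a ≠ a) ∧ ∀ a b : Ω, ∃! g, g ∈ N ∧ g • a = b := by
  classical
  haveI := Fintype.ofFinite G
  haveI := Fintype.ofFinite Ω
  haveI := h2
  haveI : IsPretransitive G Ω := isPretransitive_of_is_two_pretransitive
  set n := Nat.card Ω with hndef
  haveI : Nonempty Ω := (Nat.card_pos_iff.1 (show 0 < Nat.card Ω by omega)).1
  let D : Finset G := Finset.univ.filter fun g => ∀ a : Ω, g • a ≠ a
  have hfix : ∀ g : G, g ≠ 1 →
      Fintype.card (fixedBy Ω g) = if (∀ a : Ω, g • a ≠ a) then 0 else 1 := by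
    intro g hg
    split_ifs with h
    · exact Fintype.card_eq_zero_iff.2 ⟨fun x => h x.1 x.2⟩
    · obtain ⟨a, ha⟩ := not_forall.1 h
      exact Fintype.card_eq_one_iff.2 ⟨⟨a, not_not.1 ha⟩, fun x => Subtype.ext
        (Classical.byContradiction fun hne => hg (hsharp g x.1 a hne x.2 (not_not.1 ha)))⟩
  have hone : (1 : G) ∉ D := by simp [D]
  have hD : D.card + 1 = n := by
    have hsum := sum_card_fixedBy_eq_card_orbits_mul_card_group G Ω
    haveI : Unique (Quotient (orbitRel G Ω)) :=
      { default := ⟦Classical.arbitrary Ω⟧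
        uniq := fun q => by
          induction q using Quotient.inductionOn with
          | h x => exact Quotient.sound (exists_smul_eq G (Classical.arbitrary Ω) x) }
    rw [Fintype.card_unique, one_mul, ← Finset.add_sum_erase _ _ (Finset.mem_univ (1 : G))] at hsum
    have h1 : Fintype.card (fixedBy Ω (1 : G)) = n := by
      rw [hndef, Nat.card_eq_fintype_card]
      exact Fintype.card_congr (Equiv.subtypeUnivEquiv fun x => one_smul G x)
    have h2' : ∑ g ∈ (Finset.univ : Finset G).erase 1, Fintype.card (fixedBy Ω g) + D.card + 1 =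
        Fintype.card G := by
      rw [Finset.sum_congr rfl fun g hg => hfix g (Finset.ne_of_mem_erase hg),
        show D.card = ∑ g ∈ (Finset.univ : Finset G).erase 1,
          if (∀ a : Ω, g • a ≠ a) then 1 else 0 by
          rw [Finset.sum_boole, Nat.cast_id]
          congr 1
          ext g
          simp only [D, Finset.mem_filter, Finset.mem_univ, true_and, Finset.mem_erase, and_true]
          refine ⟨fun h => ⟨?_, h⟩, fun h => h.2⟩
          rintro rfl
          exact h (Classical.arbitrary Ω) (one_smul G _),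
        ← Finset.sum_add_distrib,
        Finset.sum_congr rfl fun g _ => show (if (∀ a : Ω, g • a ≠ a) then 0 else 1) +
          (if (∀ a : Ω, g • a ≠ a) then 1 else 0) = 1 by split_ifs <;> rfl,
        Finset.sum_const, smul_eq_mul, mul_one, Finset.card_erase_of_mem (Finset.mem_univ _),
        Finset.card_univ]
      have := Fintype.card_pos (α := G)
      omega
    omega
  have hGlow : n * (n - 1) ≤ Nat.card G := by
    obtain ⟨a₀, b₀, hab₀⟩ := Fintype.exists_pair_of_one_lt_card
      (α := Ω) (by rw [← Nat.card_eq_fintype_card]; omega)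
    have hsurj : Function.Surjective fun g : G =>
        (⟨(g • a₀, g • b₀), fun h => hab₀ (MulAction.injective g h)⟩ : {q : Ω × Ω // q.1 ≠ q.2}) := by
      rintro ⟨⟨c, d⟩, hcd⟩
      obtain ⟨g, hgc, hgd⟩ := (is_two_pretransitive_iff.1 h2) hab₀ hcd
      exact ⟨g, Subtype.ext (Prod.ext hgc hgd)⟩
    refine le_trans (le_of_eq ?_) (Nat.card_le_card_of_surjective _ hsurj)
    let e : {q : Ω × Ω // q.1 ≠ q.2} ≃ Σ a : Ω, {b : Ω // a ≠ b} :=
      { toFun := fun q => ⟨q.1.1, q.1.2, q.2⟩
        invFun := fun s => ⟨(s.1, s.2.1), s.2.2⟩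
        left_inv := fun _ => rfl
        right_inv := fun _ => rfl }
    rw [Nat.card_congr e, Nat.card_sigma, Finset.sum_congr rfl fun a _ => show
      Nat.card {b : Ω // a ≠ b} = n - 1 by
        rw [Nat.card_eq_fintype_card, Fintype.card_subtype_compl, Fintype.card_subtype_eq', hndef,
          Nat.card_eq_fintype_card],
      Finset.sum_const, smul_eq_mul, Finset.card_univ, hndef, Nat.card_eq_fintype_card]
  obtain ⟨p, hp, hpn⟩ := Nat.exists_prime_and_dvd (show n ≠ 1 by omega)
  haveI := Fact.mk hp
  have hnG : n ∣ Nat.card G := by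
    rw [hndef, ← index_stabilizer_of_transitive G (Classical.arbitrary Ω)]
    exact Subgroup.index_dvd_card _
  obtain ⟨x, hx⟩ := exists_prime_orderOf_dvd_card' (G := G) p (hpn.trans hnG)
  have hx1 : x ≠ 1 := fun h => hp.ne_one (by rw [← hx, h, orderOf_one])
  have hxD : ∀ a : Ω, x • a ≠ a := by
    intro a ha
    have hP : IsPGroup p (Subgroup.zpowers x) :=
      IsPGroup.of_card (n := 1) (by rw [Nat.card_zpowers, hx, pow_one])
    have h := hP.card_modEq_card_fixedPoints Ω
    have h1 : Nat.card (fixedPoints (Subgroup.zpowers x) Ω) = 1 := by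
      rw [Nat.card_eq_fintype_card]
      refine Fintype.card_eq_one_iff.2 ⟨⟨a, fun y => ?_⟩, fun b => Subtype.ext ?_⟩
      · exact (Subgroup.zpowers_le.2 (show x ∈ stabilizer G a from ha) y.2 : _)
      · by_contra hne
        exact hx1 (hsharp x b.1 a hne (b.2 ⟨x, Subgroup.mem_zpowers x⟩) ha)
    rw [h1] at h
    have h0 : n % p = 1 % p := h
    rw [Nat.mod_eq_zero_of_dvd hpn, Nat.one_mod_eq_one.2 hp.ne_one] at h0
    omega
  set C := Subgroup.centralizer ({x} : Set G) with hC
  have hCD : ∀ c ∈ C, c ≠ 1 → c ∈ D := by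
    intro c hc hc1
    simp only [D, Finset.mem_filter, Finset.mem_univ, true_and]
    intro a ha
    refine hc1 (hsharp c a (x • a) (fun h => hxD a h.symm) ha ?_)
    rw [← mul_smul, Subgroup.mem_centralizer_singleton_iff.1 hc, mul_smul, ha]
  have hCsub : (Finset.univ.filter fun c => c ∈ C).erase 1 ⊆ D := fun c hc => by
    rw [Finset.mem_erase, Finset.mem_filter] at hc
    exact hCD c hc.2.2 hc.1
  have hCfc : (Finset.univ.filter fun c => c ∈ C).card = Nat.card C := by
    rw [Nat.card_eq_fintype_card, Fintype.card_subtype]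
  have hCle : Nat.card C ≤ n := by
    rw [← hCfc, ← Finset.card_erase_add_one (show (1 : G) ∈ Finset.univ.filter fun c => c ∈ C by
      simp [C.one_mem])]
    have := Finset.card_le_card hCsub
    omega
  let K : Finset G := Finset.univ.image fun g => g * x * g⁻¹
  have hKD : K ⊆ D := by
    intro y hy
    obtain ⟨g, -, rfl⟩ := Finset.mem_image.1 hy
    simp only [D, Finset.mem_filter, Finset.mem_univ, true_and]
    intro a ha
    exact hxD (g⁻¹ • a) (by rw [mul_smul, mul_smul] at ha; exact eq_inv_smul_iff.2 ha)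
  have hKcard : K.card * Nat.card C = Nat.card G := by
    rw [← C.index_mul_card]
    congr 1
    let f : G ⧸ C → K := Quotient.lift (fun g => ⟨g * x * g⁻¹, Finset.mem_image_of_mem _ (Finset.mem_univ g)⟩)
      fun g h hgh => by
        have hc := Subgroup.mem_centralizer_singleton_iff.1 (QuotientGroup.leftRel_apply.1 hgh)
        refine Subtype.ext ?_
        show g * x * g⁻¹ = h * x * h⁻¹
        calc g * x * g⁻¹ = g * ((g⁻¹ * h) * x * (g⁻¹ * h)⁻¹) * g⁻¹ := by
              rw [hc, mul_inv_cancel_right]
          _ = h * x * h⁻¹ := by group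
    have hf : Function.Bijective f := by
      constructor
      · intro q r hqr
        induction q using Quotient.inductionOn with
        | h g =>
          induction r using Quotient.inductionOn with
          | h h =>
            have he : g * x * g⁻¹ = h * x * h⁻¹ := congrArg Subtype.val hqr
            refine Quotient.sound (QuotientGroup.leftRel_apply.2
              (Subgroup.mem_centralizer_singleton_iff.2 ?_))
            calc g⁻¹ * h * x = g⁻¹ * (h * x * h⁻¹) * h := by group
              _ = g⁻¹ * (g * x * g⁻¹) * h := by rw [he]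
              _ = x * (g⁻¹ * h) := by group
      · rintro ⟨y, hy⟩
        obtain ⟨g, -, rfl⟩ := Finset.mem_image.1 hy
        exact ⟨(g : G ⧸ C), rfl⟩
    rw [Subgroup.index_eq_card, Nat.card_eq_of_bijective f hf, Nat.card_eq_fintype_card,
      Fintype.card_coe]
  have hn1 : 0 < n - 1 := by omega
  have hK1 : K.card ≤ n - 1 := by
    have := Finset.card_le_card hKD
    omega
  have hCn : Nat.card C = n := by
    refine le_antisymm hCle ?_
    by_contra hlt
    have : K.card * Nat.card C < (n - 1) * n :=
      lt_of_le_of_lt (Nat.mul_le_mul_right _ hK1) (Nat.mul_lt_mul_of_pos_left (by omega) hn1)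
    rw [hKcard, mul_comm (n - 1)] at this
    omega
  have hGeq : Nat.card G = n * (n - 1) := by
    refine le_antisymm ?_ hGlow
    rw [← hKcard, hCn, mul_comm]
    exact Nat.mul_le_mul_left n hK1
  have hKeq : K = D := by
    refine Finset.eq_of_subset_of_card_le hKD ?_
    have h : K.card * n = (n - 1) * n := by
      have e := hKcard
      rw [hCn, hGeq, mul_comm n] at e
      exact e
    have := Nat.eq_of_mul_eq_mul_right (by omega) h
    omega
  have hmem : ∀ g, g ∈ C ↔ g = 1 ∨ ∀ a : Ω, g • a ≠ a := by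
    have heq : (Finset.univ.filter fun c => c ∈ C).erase 1 = D := by
      refine Finset.eq_of_subset_of_card_le hCsub ?_
      rw [Finset.card_erase_of_mem (by simp [C.one_mem]), hCfc, hCn]
      omega
    intro g
    constructor
    · intro hg
      by_cases h1 : g = 1
      · exact Or.inl h1
      · right
        have := hCD g hg h1
        simpa [D] using this
    · rintro (rfl | h)
      · exact C.one_mem
      · have : g ∈ D := by simpa [D] using h
        rw [← heq, Finset.mem_erase, Finset.mem_filter] at this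
        exact this.2.2
  have hconj : ∀ g c : G, c ∈ C → g * c * g⁻¹ ∈ C := by
    intro g c hc
    rcases (hmem c).1 hc with rfl | h
    · simp [C.one_mem]
    · refine (hmem _).2 (Or.inr fun a ha => h (g⁻¹ • a) ?_)
      rw [mul_smul, mul_smul] at ha
      exact eq_inv_smul_iff.2 ha
  have hconjx : ∀ y ∈ C, y ≠ 1 → ∃ g, g * x * g⁻¹ = y := by
    intro y hy hy1
    have : y ∈ K := hKeq ▸ hCD y hy hy1
    obtain ⟨g, -, hg⟩ := Finset.mem_image.1 this
    exact ⟨g, hg⟩
  have hpow : ∀ y ∈ C, y ^ p = 1 := by
    intro y hy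
    by_cases hy1 : y = 1
    · rw [hy1, one_pow]
    obtain ⟨g, rfl⟩ := hconjx y hy hy1
    rw [conj_pow, ← hx, pow_orderOf_eq_one, mul_one, mul_inv_cancel]
  have hcomm : ∀ y ∈ C, ∀ z ∈ C, y * z = z * y := by
    intro y hy z hz
    by_cases hy1 : y = 1
    · rw [hy1, one_mul, mul_one]
    obtain ⟨g, rfl⟩ := hconjx y hy hy1
    have h := Subgroup.mem_centralizer_singleton_iff.1 (hconj g⁻¹ z hz)
    calc g * x * g⁻¹ * z = g * (x * (g⁻¹ * z * g⁻¹⁻¹)) * g⁻¹ := by group
      _ = g * ((g⁻¹ * z * g⁻¹⁻¹) * x) * g⁻¹ := by rw [h]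
      _ = z * (g * x * g⁻¹) := by group
  have hCp : IsPGroup p C := fun c => ⟨1, Subtype.ext (by
    rw [pow_one, SubgroupClass.coe_pow]; exact hpow c.1 c.2)⟩
  obtain ⟨j, hj⟩ := hCp.exists_card_eq
  refine ⟨p, j, C, hp, ?_, hCn.symm.trans hj, ⟨fun c hc g => hconj g c hc⟩, hCn, ?_, hcomm, hpow,
    hmem, fun a b => ?_⟩
  · by_contra hj0
    rw [hCn, show j = 0 by omega, pow_zero] at hj
    omega
  · have h := C.index_mul_card
    rw [hCn, hGeq, mul_comm n] at h
    exact Nat.eq_of_mul_eq_mul_right (by omega) h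
  · have hinj : Function.Injective fun c : C => (c : G) • a := by
      intro c d hcd
      have h1 : ((d⁻¹ * c : C) : G) • a = a := by
        rw [Subgroup.coe_mul, mul_smul, Subgroup.coe_inv]
        exact inv_smul_eq_iff.2 hcd
      rcases (hmem _).1 (d⁻¹ * c).2 with h | h
      · exact (inv_mul_eq_one.1 (Subtype.ext h)).symm
      · exact absurd h1 (h a)
    have hbij : Function.Bijective fun c : C => (c : G) • a :=
      (Nat.bijective_iff_injective_and_card _).2 ⟨hinj, hCn⟩
    obtain ⟨c, hc⟩ := hbij.2 b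
    exact ⟨c, ⟨c.2, hc⟩, fun d hd => congrArg Subtype.val
      (hinj (a₁ := ⟨d, hd.1⟩) (a₂ := c) (hd.2.trans hc.symm))⟩

/-- Perm-subgroup form of the sharpness hypothesis. -/
theorem sharp_of_stabilizer {α : Type*} (G : Subgroup (Equiv.Perm α))
    (hsharp : ∀ x : Fin 2 ↪ α, stabilizer G x = ⊥) :
    ∀ (g : G) (a b : α), a ≠ b → g • a = a → g • b = b → g = 1 := by
  intro g a b hab ha hb
  have hmem : g ∈ stabilizer G (⟨![a, b], by
      intro i j hij
      fin_cases i <;> fin_cases j <;> simp_all⟩ : Fin 2 ↪ α) := by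
    ext i
    fin_cases i
    · exact ha
    · exact hb
  rw [hsharp] at hmem
  exact hmem

end Cfsg.Agent.PermSharp
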