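import Mathlib.GroupTheory.Perm.Sign
import Mathlib.GroupTheory.SpecificGroups.Alternating
import Mathlib.GroupTheory.Sylow
import Mathlib.Data.Fintype.Perm
import Mathlib.Data.Nat.Factorial.Basic
import Mathlib.Tactic

/-! Sylow 2-subgroups of symmetric and alternating groups are self-normalising. -/

set_option autoImplicit false

namespace Cfsg.Agent.SylTwoNorm

/-- Every element of `A` normalising the trace on `A` of a Sylow 2-subgroup `W` lies in `W`. -/
def RelSelfNorm {G : Type*} [Group G] (A : Subgroup G) (W : Sylow 2 G) : Prop :=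
  ∀ g ∈ A, g ∈ Subgroup.normalizer (((W : Subgroup G) ⊓ A : Subgroup G) : Set G) → g ∈ (W : Subgroup G)

theorem relSelfNorm_of_equiv {G G' : Type*} [Group G] [Group G'] [Finite G] [Finite G'] (f : G ≃* G')
    {A : Subgroup G} {A' : Subgroup G'} (hA : ∀ g, g ∈ A ↔ f g ∈ A') [hn : A'.Normal] {W : Sylow 2 G}
    (hW : RelSelfNorm A W) (W' : Sylow 2 G') : RelSelfNorm A' W' := by
  have : Fact (Nat.Prime 2) := ⟨Nat.prime_two⟩
  let W1 : Sylow 2 G' := W.mapSurjective (f := f.toMonoidHom) f.surjective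
  obtain ⟨c, hc⟩ := MulAction.exists_smul_eq G' W1 W'
  let φ : G ≃* G' := f.trans (MulAut.conj c)
  have hφA : ∀ g, g ∈ A ↔ φ g ∈ A' := fun g => by
    rw [hA]
    refine ⟨fun hg => hn.conj_mem _ hg c, fun hg => ?_⟩
    have e : c⁻¹ * (c * f g * c⁻¹) * c⁻¹⁻¹ = f g := by group
    exact e ▸ hn.conj_mem _ hg c⁻¹
  have hφW : ∀ g, g ∈ (W : Subgroup G) ↔ φ g ∈ (W' : Subgroup G') := fun g => by
    rw [← hc]
    show _ ↔ c * f g * c⁻¹ ∈ ((W : Subgroup G).map f.toMonoidHom).map (MulAut.conj c).toMonoidHom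
    rw [Subgroup.mem_map_equiv, MulAut.conj_symm_apply, show c⁻¹ * (c * f g * c⁻¹) * c = f g by group,
      Subgroup.mem_map_equiv, MulEquiv.symm_apply_apply]
  intro g' hg' hN
  obtain ⟨g, rfl⟩ := φ.surjective g'
  refine (hφW g).mp (hW g ((hφA g).mpr hg') ?_)
  rw [Subgroup.mem_normalizer_iff] at hN ⊢
  intro x
  have := hN (φ x)
  rw [← map_inv, ← map_mul, ← map_mul] at this
  simp only [Subgroup.mem_inf, ← hφW, ← hφA] at this ⊢
  exact this

/-- The model set: pairs together with at most one further point. -/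
abbrev Pts (α β : Type) := (α × Bool) ⊕ β

variable {α β : Type}

/-- The product of all pair transpositions. -/
def mate : Equiv.Perm (Pts α β) :=
  Equiv.sumCongr (Equiv.prodCongr (Equiv.refl α) ⟨(!·), (!·), Bool.not_not, Bool.not_not⟩) (Equiv.refl β)

@[simp] theorem mate_inl (a : α) (b : Bool) : mate (Sum.inl (a, b) : Pts α β) = Sum.inl (a, !b) := rfl

@[simp] theorem mate_inr (e : β) : mate (Sum.inr e : Pts α β) = Sum.inr e := rfl

/-- The centraliser of `mate`. -/
def cen : Subgroup (Equiv.Perm (Pts α β)) := Subgroup.centralizer {mate}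

theorem mem_cen {g : Equiv.Perm (Pts α β)} : g ∈ cen ↔ ∀ x, g (mate x) = mate (g x) := by
  rw [cen, Subgroup.mem_centralizer_singleton_iff, Equiv.Perm.ext_iff]
  rfl

theorem cen_inr {g : Equiv.Perm (Pts α β)} (hg : g ∈ cen) [Subsingleton β] (e : β) : g (Sum.inr e) = Sum.inr e := by
  have h1 := mem_cen.mp hg (Sum.inr e)
  rw [mate_inr] at h1
  rcases h2 : g (Sum.inr e) with ⟨a, b⟩ | e'
  · rw [h2, mate_inl] at h1
    simp at h1
  · rw [Subsingleton.elim e' e]

theorem cen_inl {g : Equiv.Perm (Pts α β)} (hg : g ∈ cen) [Subsingleton β] (a : α) :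
    ∃ a' c, ∀ b, g (Sum.inl (a, b)) = Sum.inl (a', xor b c) := by
  rcases h2 : g (Sum.inl (a, false)) with ⟨a', c⟩ | e
  · refine ⟨a', c, fun b => ?_⟩
    cases b
    · simp [h2]
    · have := mem_cen.mp hg (Sum.inl (a, false))
      rw [h2] at this
      simpa using this
  · have := g.injective (h2.trans (cen_inr hg e).symm)
    exact absurd this Sum.inl_ne_inr

/-- The induced map on pairs. -/
def pairMap (g : Equiv.Perm (Pts α β)) (a : α) : α := Sum.elim Prod.fst (fun _ => a) (g (Sum.inl (a, false)))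

theorem pairMap_spec [Subsingleton β] {g : Equiv.Perm (Pts α β)} (hg : g ∈ cen) (a : α) :
    ∃ c, ∀ b, g (Sum.inl (a, b)) = Sum.inl (pairMap g a, xor b c) := by
  obtain ⟨a', c, hc⟩ := cen_inl hg a
  refine ⟨c, fun b => ?_⟩
  rw [hc b, show pairMap g a = a' by simp [pairMap, hc]]

theorem pairMap_mul [Subsingleton β] {g k : Equiv.Perm (Pts α β)} (hg : g ∈ cen) (hk : k ∈ cen) (a : α) :
    pairMap (g * k) a = pairMap g (pairMap k a) := by
  obtain ⟨c, hc⟩ := pairMap_spec hk a
  obtain ⟨d, hd⟩ := pairMap_spec hg (pairMap k a)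
  conv_lhs => rw [pairMap, Equiv.Perm.mul_apply, hc, hd]
  rfl

theorem pairMap_one (a : α) : pairMap (1 : Equiv.Perm (Pts α β)) a = a := rfl

/-- The action on pairs. -/
def toPairs [Subsingleton β] : cen (α := α) (β := β) →* Equiv.Perm α where
  toFun g :=
    { toFun := pairMap g.1
      invFun := pairMap g.1⁻¹
      left_inv := fun a => by rw [← pairMap_mul (inv_mem g.2) g.2, inv_mul_cancel, pairMap_one]
      right_inv := fun a => by rw [← pairMap_mul g.2 (inv_mem g.2), mul_inv_cancel, pairMap_one] }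
  map_one' := Equiv.ext fun a => pairMap_one (β := β) a
  map_mul' g k := Equiv.ext fun a => pairMap_mul g.2 k.2 a

/-- A permutation of the pairs, lifted. -/
def liftPerm (q : Equiv.Perm α) : Equiv.Perm (Pts α β) :=
  Equiv.sumCongr (Equiv.prodCongr q (Equiv.refl Bool)) (Equiv.refl β)

theorem liftPerm_mem (q : Equiv.Perm α) : (liftPerm q : Equiv.Perm (Pts α β)) ∈ cen := by
  rw [mem_cen]
  rintro (⟨a, b⟩ | e) <;> rfl

theorem toPairs_surjective [Subsingleton β] : Function.Surjective (toPairs (α := α) (β := β)) :=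
  fun q => ⟨⟨liftPerm q, liftPerm_mem q⟩, Equiv.ext fun a => by simp [toPairs, pairMap, liftPerm]⟩

/-- Apply a switch to each pair. -/
def switch (f : α → Bool) : Equiv.Perm (Pts α β) :=
  Equiv.sumCongr
    ⟨fun p => (p.1, xor p.2 (f p.1)), fun p => (p.1, xor p.2 (f p.1)),
      fun p => by simp, fun p => by simp⟩ (Equiv.refl β)

theorem switch_mem (f : α → Bool) : (switch f : Equiv.Perm (Pts α β)) ∈ cen := by
  rw [mem_cen]
  rintro (⟨a, b⟩ | e)
  · simp [switch]
  · rfl

theorem switch_ker [Subsingleton β] (f : α → Bool) :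
    (⟨switch f, switch_mem f⟩ : cen (α := α) (β := β)) ∈ (toPairs (α := α) (β := β)).ker := by
  rw [MonoidHom.mem_ker]
  exact Equiv.ext fun a => by simp [toPairs, pairMap, switch]

theorem card_ker [Subsingleton β] [Fintype α] :
    Nat.card (toPairs (α := α) (β := β)).ker = 2 ^ Fintype.card α := by
  have hf : Function.Bijective fun f : α → Bool =>
      (⟨⟨switch f, switch_mem f⟩, switch_ker f⟩ : (toPairs (α := α) (β := β)).ker) := by
    constructor
    · intro f f' e
      funext a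
      have := congrArg (fun g : (toPairs (α := α) (β := β)).ker => g.1.1 (Sum.inl (a, false))) e
      simpa [switch] using this
    · rintro ⟨⟨g, hg⟩, hk⟩
      have hk' : ∀ a, pairMap g a = a := fun a => by
        simpa [toPairs] using Equiv.Perm.ext_iff.mp (MonoidHom.mem_ker.mp hk) a
      choose c hc using pairMap_spec hg
      refine ⟨c, Subtype.ext (Subtype.ext (Equiv.ext ?_))⟩
      rintro (⟨a, b⟩ | e)
      · rw [hc a b, hk' a]; rfl
      · exact (cen_inr hg e).symm
  rw [← Nat.card_eq_of_bijective _ hf, Nat.card_fun, Nat.card_eq_fintype_card, Fintype.card_bool,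
    Nat.card_eq_fintype_card]

/-- A subgroup moving every pair while fixing any other given pair has normaliser inside the centraliser. -/
theorem normalizer_le_cen [Subsingleton β] {K : Subgroup (Equiv.Perm (Pts α β))} (hK : K ≤ cen)
    (hmove : ∀ c : α, ∃ k ∈ K, ∀ b, k (Sum.inl (c, b)) ≠ Sum.inl (c, b))
    (hsep : ∀ a c : α, a ≠ c → ∃ k ∈ K,
      (∀ b, k (Sum.inl (a, b)) = Sum.inl (a, b)) ∧ ∀ b, k (Sum.inl (c, b)) ≠ Sum.inl (c, b))
    {g : Equiv.Perm (Pts α β)} (hg : g ∈ Subgroup.normalizer (K : Set (Equiv.Perm (Pts α β)))) : g ∈ cen := by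
  have hconj : ∀ k ∈ K, g⁻¹ * k * g ∈ K := fun k hk => by
    simpa using (Subgroup.mem_normalizer_iff''.mp hg k).mp hk
  have key : ∀ k ∈ K, ∀ x, (g⁻¹ * k * g) x = x ↔ k (g x) = g x := fun k _ x => by
    simp only [Equiv.Perm.mul_apply, Equiv.Perm.inv_def, Equiv.symm_apply_eq]
  have hinr : ∀ e : β, g (Sum.inr e) = Sum.inr e := fun e => by
    rcases h2 : g (Sum.inr e) with ⟨c, b⟩ | e'
    · obtain ⟨k, hk, hkc⟩ := hmove c
      have h1 := (key k hk (Sum.inr e)).mp (cen_inr (hK (hconj k hk)) e)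
      rw [h2] at h1
      exact absurd h1 (hkc b)
    · rw [Subsingleton.elim e' e]
  rw [mem_cen]
  rintro (⟨a, b⟩ | e)
  · rcases h1 : g (Sum.inl (a, b)) with ⟨a1, b1⟩ | e1
    · rcases h2 : g (mate (Sum.inl (a, b))) with ⟨c, b2⟩ | e2
      · have hc : c = a1 := by
          by_contra hne
          obtain ⟨k, hk, hka, hkc⟩ := hsep a1 c (Ne.symm hne)
          have h3 : (g⁻¹ * k * g) (Sum.inl (a, b)) = Sum.inl (a, b) := (key k hk _).mpr (by rw [h1, hka])
          have h4 := mem_cen.mp (hK (hconj k hk)) (Sum.inl (a, b))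
          rw [h3] at h4
          have h5 := (key k hk _).mp h4
          rw [h2] at h5
          exact hkc b2 h5
        subst hc
        rw [mate_inl]
        congr 2
        by_contra hne
        have : b2 = b1 := by cases b1 <;> cases b2 <;> simp_all
        subst this
        have h6 := g.injective (h1.trans h2.symm)
        simp at h6
      · exact absurd (g.injective (h2.trans (hinr e2).symm)) (by simp)
    · exact absurd (g.injective (h1.trans (hinr e1).symm)) (by simp)
  · rw [mate_inr, hinr, mate_inr]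

section

variable [Fintype α] [DecidableEq α] [Fintype β] [DecidableEq β]

/-- The switch of a single pair. -/
def flip1 (c : α) : Equiv.Perm (Pts α β) := switch fun a => decide (a = c)

omit [Fintype α] [Fintype β] [DecidableEq β] in
theorem flip1_apply (c a : α) (b : Bool) :
    flip1 (β := β) c (Sum.inl (a, b)) = Sum.inl (a, if a = c then !b else b) := by
  by_cases hac : a = c <;> simp [flip1, switch, hac]

theorem flip1_eq_swap (c : α) :
    (flip1 c : Equiv.Perm (Pts α β)) = Equiv.swap (Sum.inl (c, false)) (Sum.inl (c, true)) := by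
  ext x
  rcases x with ⟨a, b⟩ | e
  · rw [flip1_apply]
    by_cases hac : a = c
    · subst hac
      cases b <;> simp
    · rw [if_neg hac, Equiv.swap_apply_of_ne_of_ne] <;> simp [hac]
  · rw [Equiv.swap_apply_of_ne_of_ne] <;> simp [flip1, switch]

theorem sign_flip1 (c : α) : Equiv.Perm.sign (flip1 c : Equiv.Perm (Pts α β)) = -1 := by
  rw [flip1_eq_swap, Equiv.Perm.sign_swap (by simp)]

variable [Subsingleton β]

/-- The subgroup built from a 2-subgroup of the permutations of the pairs. -/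
def lifted (Q : Subgroup (Equiv.Perm α)) : Subgroup (Equiv.Perm (Pts α β)) :=
  (Q.comap (toPairs (α := α) (β := β))).map cen.subtype

omit [Fintype α] [DecidableEq α] [Fintype β] [DecidableEq β] in
theorem switch_mem_lifted (Q : Subgroup (Equiv.Perm α)) (f : α → Bool) :
    (switch f : Equiv.Perm (Pts α β)) ∈ lifted Q :=
  ⟨⟨switch f, switch_mem f⟩, by
    show toPairs _ ∈ Q
    rw [MonoidHom.mem_ker.mp (switch_ker f)]; exact Q.one_mem, rfl⟩

omit [DecidableEq β] in
theorem card_lifted (Q : Subgroup (Equiv.Perm α)) :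
    Nat.card (lifted (β := β) Q) = Nat.card Q * 2 ^ Fintype.card α := by
  rw [lifted, Subgroup.card_map_of_injective cen.subtype_injective]
  let φ := (toPairs (α := α) (β := β)).comp (Q.comap toPairs).subtype
  have h1 := Subgroup.card_eq_card_quotient_mul_card_subgroup φ.ker
  rw [h1, Nat.card_congr (QuotientGroup.quotientKerEquivRange φ).toEquiv]
  congr 1
  · have : φ.range = Q := by
      ext q
      constructor
      · rintro ⟨x, rfl⟩; exact x.2
      · intro hq
        obtain ⟨x, hx⟩ := toPairs_surjective (β := β) q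
        exact ⟨⟨x, show toPairs x ∈ Q by rw [hx]; exact hq⟩, hx⟩
    rw [this]
  · rw [← card_ker (β := β)]
    exact Nat.card_congr
      { toFun := fun x => ⟨x.1.1, x.2⟩
        invFun := fun x => ⟨⟨x.1, show toPairs x.1 ∈ Q by rw [MonoidHom.mem_ker.mp x.2]; exact Q.one_mem⟩, x.2⟩
        left_inv := fun _ => rfl
        right_inv := fun _ => rfl }

/-- The number `n!/(2^⌊n/2⌋ ⌊n/2⌋!)` is odd. -/
theorem factorial_odd_factor (k ε : ℕ) (hε : ε ≤ 1) :
    ∃ o, ¬ 2 ∣ o ∧ Nat.factorial (2 * k + ε) = 2 ^ k * Nat.factorial k * o := by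
  induction k with
  | zero =>
    refine ⟨1, by norm_num, ?_⟩
    interval_cases ε <;> rfl
  | succ k ih =>
    obtain ⟨o, ho, he⟩ := ih
    refine ⟨o * (2 * k + 1 + 2 * ε), fun hd => ?_, ?_⟩
    · rcases Nat.prime_two.dvd_mul.mp hd with e | e
      · exact ho e
      · omega
    · rw [show 2 * (k + 1) + ε = 2 * k + ε + 1 + 1 by ring, Nat.factorial_succ, Nat.factorial_succ, he,
        Nat.factorial_succ, pow_succ]
      interval_cases ε <;> ring

/-- The lift of a Sylow 2-subgroup is a Sylow 2-subgroup. -/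
theorem exists_sylow_lifted (Q : Sylow 2 (Equiv.Perm α)) :
    ∃ W : Sylow 2 (Equiv.Perm (Pts α β)), (W : Subgroup (Equiv.Perm (Pts α β))) = lifted (Q : Subgroup (Equiv.Perm α)) := by
  have : Fact (Nat.Prime 2) := ⟨Nat.prime_two⟩
  obtain ⟨l, hl⟩ := IsPGroup.iff_card.mp Q.isPGroup'
  have hp : IsPGroup 2 (lifted (β := β) (Q : Subgroup (Equiv.Perm α))) :=
    IsPGroup.of_card (n := l + Fintype.card α) (by rw [card_lifted, hl, pow_add])
  have hc : Nat.card (Equiv.Perm (Pts α β)) = Nat.factorial (2 * Fintype.card α + Fintype.card β) := by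
    rw [Nat.card_eq_fintype_card, Fintype.card_perm, Fintype.card_sum, Fintype.card_prod, Fintype.card_bool,
      mul_comm]
  obtain ⟨o, ho, he⟩ := factorial_odd_factor (Fintype.card α) (Fintype.card β) (Fintype.card_le_one_iff_subsingleton.mpr inferInstance)
  have hi : ¬ 2 ∣ (lifted (β := β) (Q : Subgroup (Equiv.Perm α))).index := by
    intro hd
    have h1 := (lifted (β := β) (Q : Subgroup (Equiv.Perm α))).card_mul_index
    rw [card_lifted, hc, he] at h1
    have h2 := (Q : Subgroup (Equiv.Perm α)).card_mul_index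
    rw [Nat.card_eq_fintype_card (α := Equiv.Perm α), Fintype.card_perm] at h2
    rw [← h2] at h1
    have h3 : (lifted (β := β) (Q : Subgroup (Equiv.Perm α))).index = (Q : Subgroup (Equiv.Perm α)).index * o := by
      refine Nat.eq_of_mul_eq_mul_left (show 0 < Nat.card (Q : Subgroup (Equiv.Perm α)) * 2 ^ Fintype.card α from Nat.mul_pos Nat.card_pos (Nat.two_pow_pos _)) ?_
      rw [h1]; ring
    rw [h3] at hd
    rcases Nat.prime_two.dvd_mul.mp hd with e | e
    · exact Q.not_dvd_index e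
    · exact ho e
  exact ⟨hp.toSylow hi, rfl⟩

/-- Self-normalisation for the model. -/
theorem exists_relSelfNorm (hQ : ∀ Q : Sylow 2 (Equiv.Perm α), RelSelfNorm ⊤ Q) :
    (∃ W : Sylow 2 (Equiv.Perm (Pts α β)), RelSelfNorm ⊤ W) ∧
      (3 ≤ Fintype.card α → ∃ W : Sylow 2 (Equiv.Perm (Pts α β)), RelSelfNorm (alternatingGroup (Pts α β)) W) := by
  have : Fact (Nat.Prime 2) := ⟨Nat.prime_two⟩
  obtain ⟨Q⟩ : Nonempty (Sylow 2 (Equiv.Perm α)) := inferInstance
  obtain ⟨W, hW⟩ := exists_sylow_lifted (β := β) Q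
  have hWc : (W : Subgroup (Equiv.Perm (Pts α β))) ≤ cen := hW ▸ Subgroup.map_subtype_le _
  -- an element of the centraliser normalising `W` lies in `W`
  have key : ∀ g ∈ cen (α := α) (β := β), g ∈ Subgroup.normalizer ((W : Subgroup (Equiv.Perm (Pts α β))) : Set (Equiv.Perm (Pts α β))) →
      g ∈ (W : Subgroup (Equiv.Perm (Pts α β))) := by
    intro g hg hN
    rw [hW] at hN ⊢
    refine ⟨⟨g, hg⟩, ?_, rfl⟩
    show toPairs ⟨g, hg⟩ ∈ (Q : Subgroup (Equiv.Perm α))
    refine hQ Q _ (Subgroup.mem_top _) ?_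
    rw [inf_top_eq, Subgroup.mem_normalizer_iff]
    intro q
    obtain ⟨x, rfl⟩ := toPairs_surjective (β := β) q
    have h1 := Subgroup.mem_normalizer_iff.mp hN x.1
    have hin : ∀ y : cen (α := α) (β := β), y.1 ∈ lifted (Q : Subgroup (Equiv.Perm α)) ↔ toPairs y ∈ (Q : Subgroup (Equiv.Perm α)) :=
      fun y => ⟨fun ⟨z, hz, e⟩ => (Subtype.ext e : z = y) ▸ hz, fun hy => ⟨y, hy, rfl⟩⟩
    rw [hin x] at h1
    rw [← map_inv, ← map_mul, ← map_mul]
    exact h1.trans (hin (⟨g, hg⟩ * x * ⟨g, hg⟩⁻¹))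
  have hflip : ∀ c, (flip1 c : Equiv.Perm (Pts α β)) ∈ (W : Subgroup (Equiv.Perm (Pts α β))) := fun c => by
    rw [hW]; exact switch_mem_lifted _ _
  refine ⟨⟨W, fun g _ hN => ?_⟩, fun h3 => ⟨W, fun g hgA hN => ?_⟩⟩
  · rw [inf_top_eq] at hN
    refine key g (normalizer_le_cen hWc (fun c => ⟨_, hflip c, fun b => ?_⟩)
      (fun a c hac => ⟨_, hflip c, fun b => ?_, fun b => ?_⟩) hN) hN
    · rw [flip1_apply]; simp
    · rw [flip1_apply, if_neg hac]
    · rw [flip1_apply]; simp
  · set S := (W : Subgroup (Equiv.Perm (Pts α β))) ⊓ alternatingGroup (Pts α β)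
    have hSc : S ≤ cen := inf_le_left.trans hWc
    have hprod : ∀ c r : α, (flip1 c * flip1 r : Equiv.Perm (Pts α β)) ∈ S := fun c r =>
      ⟨mul_mem (hflip c) (hflip r), by
        show _ ∈ alternatingGroup (Pts α β)
        rw [Equiv.Perm.mem_alternatingGroup, map_mul, sign_flip1, sign_flip1]; rfl⟩
    have hthird : ∀ a c : α, ∃ r, r ≠ a ∧ r ≠ c := fun a c => by
      obtain ⟨r, hr⟩ := Finset.exists_mem_notMem_of_card_lt_card
        (s := ({a, c} : Finset α)) (t := Finset.univ) (lt_of_le_of_lt Finset.card_le_two h3)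
      simp only [Finset.mem_insert, Finset.mem_singleton, not_or] at hr
      exact ⟨r, hr.2⟩
    have happ : ∀ (c r : α) (a : α) (b : Bool), (flip1 c * flip1 r : Equiv.Perm (Pts α β)) (Sum.inl (a, b)) =
        Sum.inl (a, if a = c then !(if a = r then !b else b) else (if a = r then !b else b)) := fun c r a b => by
      rw [Equiv.Perm.mul_apply, flip1_apply, flip1_apply]
    have hg : g ∈ cen := by
      refine normalizer_le_cen hSc (fun c => ?_) (fun a c hac => ?_) hN
      · obtain ⟨r, hr, -⟩ := hthird c c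
        refine ⟨_, hprod c r, fun b => ?_⟩
        rw [happ]; simp [Ne.symm hr]
      · obtain ⟨r, hra, hrc⟩ := hthird a c
        refine ⟨_, hprod c r, fun b => ?_, fun b => ?_⟩
        · rw [happ]; simp [hac, Ne.symm hra]
        · rw [happ]; simp [Ne.symm hrc]
    refine key g hg ?_
    obtain ⟨c0⟩ : Nonempty α := Fintype.card_pos_iff.mp (by omega)
    have hf : g * flip1 c0 * g⁻¹ ∈ (W : Subgroup (Equiv.Perm (Pts α β))) := by
      rw [hW]
      refine ⟨⟨g, hg⟩ * ⟨switch fun a => decide (a = c0), switch_mem _⟩ * ⟨g, hg⟩⁻¹, ?_, rfl⟩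
      show toPairs _ ∈ (Q : Subgroup (Equiv.Perm α))
      rw [map_mul, map_mul, MonoidHom.mem_ker.mp (switch_ker _), mul_one, map_inv, mul_inv_cancel]
      exact Subgroup.one_mem _
    have hle : (W : Subgroup (Equiv.Perm (Pts α β))).map (MulAut.conj g).toMonoidHom ≤ W := by
      rintro _ ⟨w, hw, rfl⟩
      show g * w * g⁻¹ ∈ (W : Subgroup (Equiv.Perm (Pts α β)))
      rcases Int.units_eq_one_or (Equiv.Perm.sign w) with e | e
      · exact ((Subgroup.mem_normalizer_iff.mp hN w).mp ⟨hw, Equiv.Perm.mem_alternatingGroup.mpr e⟩).1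
      · have h1 : w * flip1 c0 ∈ S := ⟨mul_mem hw (hflip c0), by
          show _ ∈ alternatingGroup (Pts α β)
          rw [Equiv.Perm.mem_alternatingGroup, map_mul, e, sign_flip1]; rfl⟩
        have h2 := Subgroup.mul_mem _ ((Subgroup.mem_normalizer_iff.mp hN _).mp h1).1 (Subgroup.inv_mem _ hf)
        convert! h2 using 1
        group
    exact (Subgroup.mem_normalizer_iff_map_conj_eq).mpr
      (Subgroup.eq_of_le_of_card_ge hle (by rw [Subgroup.card_map_of_injective (MulAut.conj g).injective]))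

end

/-- Transport from the model to `Fin n`. -/
theorem fin_of_model {n : ℕ} (hQ : ∀ Q : Sylow 2 (Equiv.Perm (Fin (n / 2))), RelSelfNorm ⊤ Q) :
    (∀ W : Sylow 2 (Equiv.Perm (Fin n)), RelSelfNorm ⊤ W) ∧
      (6 ≤ n → ∀ W : Sylow 2 (Equiv.Perm (Fin n)), RelSelfNorm (alternatingGroup (Fin n)) W) := by
  have : Subsingleton (Fin (n % 2)) := Fintype.card_le_one_iff_subsingleton.mp (by simp; omega)
  let e : Pts (Fin (n / 2)) (Fin (n % 2)) ≃ Fin n := Fintype.equivFinOfCardEq (by simp; omega)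
  obtain ⟨⟨W0, h0⟩, h1⟩ := exists_relSelfNorm (α := Fin (n / 2)) (β := Fin (n % 2)) hQ
  refine ⟨fun W => relSelfNorm_of_equiv e.permCongrHom (fun g => by simp) h0 W, fun h6 W => ?_⟩
  obtain ⟨W1, hW1⟩ := h1 (by simp; omega)
  refine relSelfNorm_of_equiv e.permCongrHom (fun g => ?_) hW1 W
  rw [Equiv.Perm.mem_alternatingGroup, Equiv.Perm.mem_alternatingGroup]
  show _ ↔ Equiv.Perm.sign (e.permCongr g) = 1
  rw [Equiv.Perm.sign_permCongr]

theorem perm_relSelfNorm : ∀ (n : ℕ) (W : Sylow 2 (Equiv.Perm (Fin n))), RelSelfNorm ⊤ W := by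
  intro n
  induction n using Nat.strong_induction_on with
  | _ n ih =>
    rcases Nat.lt_or_ge n 2 with hn | hn
    · intro W g _ _
      have : Subsingleton (Fin n) := Fintype.card_le_one_iff_subsingleton.mp (by simp; omega)
      rw [Subsingleton.elim g 1]
      exact Subgroup.one_mem _
    · exact (fin_of_model (ih (n / 2) (by omega))).1

/-- A Sylow 2-subgroup of a symmetric group is its own normaliser. -/
theorem normalizer_sylow_two_perm {n : ℕ} (W : Sylow 2 (Equiv.Perm (Fin n))) :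
    Subgroup.normalizer ((W : Subgroup (Equiv.Perm (Fin n))) : Set (Equiv.Perm (Fin n))) = W :=
  le_antisymm (fun g hg => perm_relSelfNorm n W g (Subgroup.mem_top _) (by rwa [inf_top_eq])) Subgroup.le_normalizer

/-- A Sylow 2-subgroup of `A_n`, `n ≥ 6`, is its own normaliser. -/
theorem normalizer_sylow_two_alternating {n : ℕ} (hn : 6 ≤ n) (S : Sylow 2 (alternatingGroup (Fin n))) :
    Subgroup.normalizer ((S : Subgroup (alternatingGroup (Fin n))) : Set (alternatingGroup (Fin n))) = S := by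
  refine le_antisymm (fun g hg => ?_) Subgroup.le_normalizer
  obtain ⟨W, hW⟩ := (S.isPGroup'.map (alternatingGroup (Fin n)).subtype).exists_le_sylow
  have heq : (S : Subgroup (alternatingGroup (Fin n))) =
      (W : Subgroup (Equiv.Perm (Fin n))).comap (alternatingGroup (Fin n)).subtype := by
    refine (S.3 (W.isPGroup'.comap_of_injective _ (Subgroup.subtype_injective _)) ?_).symm
    exact Subgroup.map_le_iff_le_comap.mp hW
  rw [heq] at hg ⊢
  refine (fin_of_model (perm_relSelfNorm (n / 2))).2 hn W g.1 g.2 ?_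
  rw [Subgroup.mem_normalizer_iff] at hg ⊢
  intro x
  constructor
  · rintro ⟨hx, hxA⟩
    exact ⟨(hg ⟨x, hxA⟩).mp hx, Subgroup.mul_mem _ (Subgroup.mul_mem _ g.2 hxA) (Subgroup.inv_mem _ g.2)⟩
  · rintro ⟨hx, hxA⟩
    have hxA' : x ∈ alternatingGroup (Fin n) := by
      have := Subgroup.mul_mem _ (Subgroup.mul_mem _ (Subgroup.inv_mem _ g.2) hxA) g.2
      rwa [show g.1⁻¹ * (g.1 * x * g.1⁻¹) * g.1 = x by group] at this
    exact ⟨(hg ⟨x, hxA'⟩).mpr hx, hxA'⟩

end Cfsg.Agent.SylTwoNorm
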