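import Mathlib.GroupTheory.GroupAction.MultipleTransitivity
import Mathlib.GroupTheory.GroupAction.Quotient
import Mathlib.GroupTheory.PGroup
import Mathlib.Data.Set.Card

/-!
Criteria for multiple transitivity in terms of pointwise stabilisers of finite sets.
-/

set_option autoImplicit false

namespace Cfsg.Agent.PermMultiple

open MulAction

variable {G α : Type*} [Group G] [MulAction G α]

/-- The pointwise stabiliser of every `j`-set is transitive on the other points. -/
def FixTransitive (G α : Type*) [Group G] [MulAction G α] (j : ℕ) : Prop :=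
  ∀ S : Finset α, S.card = j → ∀ x y : α, x ∉ S → y ∉ S →
    ∃ g : G, (∀ z ∈ S, g • z = z) ∧ g • x = y

theorem isMultiplyPretransitive_of_fixTransitive {k : ℕ} (h : ∀ j < k, FixTransitive G α j) :
    IsMultiplyPretransitive G α k := by
  induction k with
  | zero => exact is_zero_pretransitive'
  | succ k ih =>
    have hk := ih fun j hj => h j (hj.trans k.lt_succ_self)
    rw [isMultiplyPretransitive_iff] at hk ⊢
    intro x y
    obtain ⟨g, hg⟩ := hk ((Fin.castSuccEmb).trans x) ((Fin.castSuccEmb).trans y)
    have hg' : ∀ i : Fin k, g • x i.castSucc = y i.castSucc := fun i => by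
      have := DFunLike.congr_fun hg i
      simpa using this
    set S := Finset.univ.map ((Fin.castSuccEmb).trans y) with hS
    have hmem : ∀ z, z ∈ S ↔ ∃ i : Fin k, y i.castSucc = z := fun z => by simp [hS]
    obtain ⟨f, hf, hfx⟩ := h k k.lt_succ_self S (by simp [hS]) (g • x (Fin.last k))
      (y (Fin.last k))
      (fun hc => by
        obtain ⟨i, hi⟩ := (hmem _).1 hc
        rw [← hg', smul_left_cancel_iff] at hi
        exact absurd (x.injective hi) (Fin.castSucc_lt_last i).ne)
      (fun hc => by
        obtain ⟨i, hi⟩ := (hmem _).1 hc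
        exact absurd (y.injective hi) (Fin.castSucc_lt_last i).ne)
    refine ⟨f * g, DFunLike.ext _ _ fun i => ?_⟩
    rw [Function.Embedding.smul_apply, mul_smul]
    induction i using Fin.lastCases with
    | last => exact hfx
    | cast i => rw [hg']; exact hf _ ((hmem _).2 ⟨i, rfl⟩)

theorem fixTransitive_of_succ [Fintype α] {j : ℕ} (h : FixTransitive G α (j + 1))
    (hcard : j + 3 ≤ Fintype.card α) : FixTransitive G α j := by
  classical
  intro S hS x y hx hy
  obtain ⟨z, hz⟩ : ∃ z, z ∉ insert x (insert y S) := by
    refine Classical.byContradiction fun hno => ?_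
    have h1 : Fintype.card α ≤ (insert x (insert y S)).card :=
      Finset.card_le_card fun z _ => Classical.byContradiction fun hz => hno ⟨z, hz⟩
    have h2 := Finset.card_insert_le x (insert y S)
    have h3 := Finset.card_insert_le y S
    omega
  simp only [Finset.mem_insert, not_or] at hz
  obtain ⟨g, hg, hgx⟩ := h (insert z S) (by rw [Finset.card_insert_of_notMem hz.2.2, hS]) x y
    (by simp only [Finset.mem_insert, not_or]; exact ⟨Ne.symm hz.1, hx⟩)
    (by simp only [Finset.mem_insert, not_or]; exact ⟨Ne.symm hz.2.1, hy⟩)
  exact ⟨g, fun w hw => hg w (Finset.mem_insert_of_mem hw), hgx⟩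

theorem fixTransitive_le [Fintype α] {m : ℕ} (h : FixTransitive G α m)
    (hcard : m + 2 ≤ Fintype.card α) {j : ℕ} (hj : j ≤ m) : FixTransitive G α j := by
  induction hj using Nat.decreasingInduction with
  | self => exact h
  | of_succ i hi ih => exact fixTransitive_of_succ ih (by omega)

/-- If `r` divides the length of every orbit meeting an invariant finite set, it divides its size. -/
theorem dvd_card_of_dvd_orbit [Finite α] {r : ℕ} (T : Finset α)
    (hT : ∀ g : G, ∀ x ∈ T, g • x ∈ T) (h : ∀ x ∈ T, r ∣ Nat.card (orbit G x)) : r ∣ T.card := by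
  classical
  induction T using Finset.strongInduction with
  | H T ih =>
    rcases T.eq_empty_or_nonempty with rfl | ⟨x, hx⟩
    · simp
    · haveI := Fintype.ofFinite α
      have hsub : (orbit G x).toFinset ⊆ T := by
        intro y hy
        rw [Set.mem_toFinset] at hy
        obtain ⟨g, rfl⟩ := hy
        exact hT g x hx
      have hlt : T \ (orbit G x).toFinset ⊂ T := by
        refine Finset.sdiff_ssubset hsub ⟨x, ?_⟩
        rw [Set.mem_toFinset]
        exact mem_orbit_self x
      have h1 := ih _ hlt (fun g y hy => by
        rw [Finset.mem_sdiff, Set.mem_toFinset] at hy ⊢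
        refine ⟨hT g y hy.1, fun hc => hy.2 ?_⟩
        have := mem_orbit_of_mem_orbit g⁻¹ hc
        rwa [inv_smul_smul] at this) (fun y hy => h y (Finset.mem_sdiff.1 hy).1)
      have h2 : r ∣ (orbit G x).toFinset.card := by
        have h3 := h x hx
        rwa [Nat.card_eq_card_toFinset] at h3
      have h4 := Finset.card_sdiff_add_card_eq_card hsub
      rw [← h4]
      exact dvd_add h1 h2

end Cfsg.Agent.PermMultiple
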