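import Cfsg.Agent.Lib.Perm.Burnside
import Mathlib.GroupTheory.Perm.Support

/-!
Subgroups of index `p` in a transitive group of degree `p` with Sylow normaliser of even order.
-/

set_option autoImplicit false
set_option linter.style.haveILetI false
set_option linter.unusedSectionVars false

namespace Cfsg.Agent.PermThree

open MulAction
open Cfsg.Agent.PermPrime

/-- A symmetric difference set containing `0` in a cyclic group of odd prime order is trivial. -/
theorem symm_diffset_eq_zero {p : ℕ} [Fact p.Prime] (hp2 : p ≠ 2) (D : Finset (ZMod p))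
    (h0 : (0 : ZMod p) ∈ D) (hne : D ≠ Finset.univ) (hsym : ∀ x ∈ D, -x ∈ D)
    (hconst : ∀ d d' : ZMod p, d ≠ 0 → d' ≠ 0 →
      (D.filter fun x => x - d ∈ D).card = (D.filter fun x => x - d' ∈ D).card) :
    ∀ x ∈ D, x = 0 := by
  classical
  have htwo : (2 : ZMod p) ≠ 0 := by
    intro h
    have h3 : ((2 : ℕ) : ZMod p) = 0 := by exact_mod_cast h
    rw [ZMod.natCast_eq_zero_iff] at h3
    exact hp2 ((Nat.prime_dvd_prime_iff_eq Fact.out Nat.prime_two).1 h3)
  have hpar : ∀ d : ZMod p, (Odd (D.filter fun x => x - d ∈ D).card ↔ d / 2 ∈ D) := by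
    intro d
    let s := D.filter fun x => x - d ∈ D
    have hs : ∀ x ∈ s, d - x ∈ s := by
      intro x hx
      simp only [s, Finset.mem_filter] at hx ⊢
      exact ⟨by simpa using hsym _ hx.2, by simpa using hsym _ hx.1⟩
    have h1 : Even ((s.erase (d / 2)).card) := by
      rw [even_iff_two_dvd, ← ZMod.natCast_eq_zero_iff, Finset.card_eq_sum_ones, Nat.cast_sum]
      refine Finset.sum_involution (fun x _ => d - x) (fun x _ => ?_) (fun x hx _ e => ?_)
        (fun x hx => ?_) (fun x _ => sub_sub_cancel d x)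
      · norm_num; decide
      · refine (Finset.mem_erase.1 hx).1 ?_
        rw [eq_div_iff htwo]
        linear_combination -e
      · refine Finset.mem_erase.2 ⟨fun e => (Finset.mem_erase.1 hx).1 ?_, hs x (Finset.mem_erase.1 hx).2⟩
        rw [eq_div_iff htwo] at e ⊢
        linear_combination -e
    by_cases hd : d / 2 ∈ D
    · have hmem : d / 2 ∈ s := by
        simp only [s, Finset.mem_filter]
        refine ⟨hd, ?_⟩
        have e : d / 2 - d = -(d / 2) := by field_simp; ring
        rw [e]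
        exact hsym _ hd
      simp only [hd, iff_true]
      show Odd s.card
      rw [← Finset.card_erase_add_one hmem]
      exact h1.add_one
    · simp only [hd, iff_false, Nat.not_odd_iff_even]
      show Even s.card
      rwa [Finset.erase_eq_of_notMem (fun hmem => hd (Finset.mem_filter.1 hmem).1)] at h1
  intro x hx
  by_contra hx0
  apply hne
  refine Finset.eq_univ_of_forall fun y => ?_
  rcases eq_or_ne y 0 with rfl | hy
  · exact h0
  have key := hpar (2 * y)
  rw [mul_div_cancel_left₀ _ htwo] at key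
  refine key.1 ?_
  rw [hconst (2 * y) (2 * x) (mul_ne_zero htwo hy) (mul_ne_zero htwo hx0), hpar,
    mul_div_cancel_left₀ _ htwo]
  exact hx

variable {G : Type*} [Group G] {Ω : Type*} [MulAction G Ω]

theorem smul_mem_orbit_iff' {M X : Type*} [Group M] [MulAction M X] (m : M) (x a : X) :
    m • x ∈ orbit M a ↔ x ∈ orbit M a := by
  rw [← orbit_eq_iff, ← orbit_eq_iff, orbit_smul]

theorem normal_bot_of_le_index_p [Finite G] [FaithfulSMul G Ω] [IsPretransitive G Ω] {p : ℕ}
    [Fact p.Prime] (hΩ : Nat.card Ω = p) {H : Subgroup G} (hH : ¬ p ∣ Nat.card H) (N : Subgroup G)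
    [N.Normal] (hN : N ≤ H) : N = ⊥ := by
  by_contra hne
  haveI : Finite Ω := Nat.finite_of_card_ne_zero (hΩ ▸ (Fact.out : p.Prime).ne_zero)
  obtain ⟨n, hn, hn1⟩ := N.bot_or_exists_ne_one.resolve_left hne
  obtain ⟨a, ha⟩ : ∃ a : Ω, n • a ≠ a := by
    by_contra h
    simp only [not_exists, not_not] at h
    exact hn1 (FaithfulSMul.eq_of_smul_eq_smul fun x : Ω => by rw [h x, one_smul])
  have hmem : n • a ∈ orbit N a := ⟨⟨n, hn⟩, rfl⟩
  have hblock := IsBlock.orbit_of_normal (G := G) (N := N) a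
  have hdvd : Nat.card (orbit N a) ∣ p := hΩ ▸ by
    rw [Nat.card_coe_set_eq]
    exact hblock.ncard_dvd_card ⟨a, mem_orbit_self a⟩
  rcases (Nat.dvd_prime (Fact.out : p.Prime)).1 hdvd with h | h
  · haveI := (Nat.card_eq_one_iff_unique.1 h).1
    exact ha (congrArg Subtype.val (Subsingleton.elim (⟨_, hmem⟩ : orbit N a) ⟨a, mem_orbit_self a⟩))
  · apply hH
    refine dvd_trans ?_ (Subgroup.card_dvd_of_le hN)
    rw [← h, Nat.card_coe_set_eq, ← index_stabilizer]
    exact Subgroup.index_dvd_card _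

theorem solvable_affine [Finite G] [FaithfulSMul G Ω] [IsPretransitive G Ω] {p : ℕ} [Fact p.Prime]
    (hΩ : Nat.card Ω = p) [Group.IsSolvable G] (P : Sylow p G) : (P : Subgroup G).Normal := by
  haveI : Finite Ω := Nat.finite_of_card_ne_zero (hΩ ▸ (Fact.out : p.Prime).ne_zero)
  classical
  haveI hnt : Nontrivial G := by
    rw [← Finite.one_lt_card_iff_nontrivial]
    have := Nat.le_of_dvd Nat.card_pos (dvd_card_of_transitive (G := G) hΩ)
    have := (Fact.out : p.Prime).one_lt
    omega
  -- a non-trivial abelian normal subgroup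
  obtain ⟨N, hNn, hNne, hNc⟩ : ∃ N : Subgroup G, N.Normal ∧ N ≠ ⊥ ∧ IsMulCommutative N := by
    obtain ⟨n, hn⟩ := Group.IsSolvable.solvable (G := G)
    induction n with
    | zero =>
      rw [derivedSeries_zero] at hn
      exact absurd hn top_ne_bot
    | succ n ih =>
      by_cases h : derivedSeries G n = ⊥
      · exact ih h
      · refine ⟨derivedSeries G n, derivedSeries_normal G n, h, ?_⟩
        rw [derivedSeries_succ] at hn
        exact Subgroup.commutator_self_eq_bot_iff.1 hn
  haveI := hNn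
  have hpN : p ∣ Nat.card N := by
    by_contra h
    exact hNne (normal_bot_of_le_index_p hΩ h N le_rfl)
  obtain ⟨Q⟩ : Nonempty (Sylow p N) := inferInstance
  haveI : (Q : Subgroup N).Normal := by
    refine ⟨fun a ha g => ?_⟩
    rwa [mul_comm' g a, mul_inv_cancel_right]
  haveI : (Q : Subgroup N).Characteristic := Q.characteristic_of_normal inferInstance
  have hmap : Nat.card ↥((Q : Subgroup N).map N.subtype) = Nat.card (Q : Subgroup N) :=
    (Nat.card_congr (Subgroup.equivMapOfInjective _ _ N.subtype_injective).toEquiv).symm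
  have hle : (Q : Subgroup N).map N.subtype ≤ (P : Subgroup G) := by
    obtain ⟨R, hR⟩ := (Q.isPGroup'.map N.subtype).exists_le_sylow
    obtain ⟨g, hg⟩ := MulAction.exists_smul_eq G R P
    intro x hx
    rw [← hg]
    have hx' : g⁻¹ * x * g ∈ (Q : Subgroup N).map N.subtype := by
      simpa using (inferInstance : ((Q : Subgroup N).map N.subtype).Normal).conj_mem x hx g⁻¹
    exact ⟨g⁻¹ * x * g, hR hx', by simp [mul_assoc]⟩
  have heq : (Q : Subgroup N).map N.subtype = (P : Subgroup G) := by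
    refine Subgroup.eq_of_le_of_card_ge hle ?_
    rw [sylow_card hΩ P, hmap, Q.card_eq_multiplicity]
    exact Nat.le_self_pow
      ((Fact.out : p.Prime).factorization_pos_of_dvd Nat.card_pos.ne' hpN).ne' p
  rw [← heq]
  infer_instance

theorem index_p_stabilizer [Finite G] [FaithfulSMul G Ω] [IsPretransitive G Ω] {p : ℕ}
    [Fact p.Prime] (hΩ : Nat.card Ω = p) (P : Sylow p G)
    (heven : Even (Nat.card (Subgroup.normalizer ((P : Subgroup G) : Set G)))) (H : Subgroup G)
    (hH : H.index = p) : ∃ a : Ω, H = stabilizer G a := by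
  haveI : Finite Ω := Nat.finite_of_card_ne_zero (hΩ ▸ (Fact.out : p.Prime).ne_zero)
  classical
  haveI := Fintype.ofFinite Ω
  haveI := Fintype.ofFinite G
  have hpH : ¬ p ∣ Nat.card H := by
    intro h
    refine not_sq_dvd_card (G := G) hΩ ?_
    rw [← H.card_mul_index, hH, pow_two]
    exact Nat.mul_dvd_mul_right h p
  suffices h : ∃ a : Ω, ∀ g ∈ H, g • a = a by
    obtain ⟨a, ha⟩ := h
    refine ⟨a, Subgroup.eq_of_le_of_card_ge (fun g hg => ha g hg) ?_⟩
    have h1 := (stabilizer G a).card_mul_index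
    have h2 := H.card_mul_index
    rw [index_stabilizer_of_transitive, hΩ] at h1
    rw [hH] at h2
    exact (Nat.eq_of_mul_eq_mul_right (Fact.out : p.Prime).pos (h1.trans h2.symm)).le
  rcases eq_or_ne p 2 with hp2 | hp2
  · subst hp2
    have hH1 : H = ⊥ := by
      have h1 := H.card_mul_index
      rw [hH] at h1
      have hd : Nat.card G ∣ Nat.factorial 2 := by
        have h2 := Subgroup.card_dvd_of_injective (MulAction.toPermHom G Ω) MulAction.toPerm_injective
        rwa [Nat.card_perm, hΩ] at h2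
      have := Nat.le_of_dvd (by norm_num) hd
      refine Subgroup.eq_bot_of_card_le H ?_
      have : Nat.factorial 2 = 2 := rfl
      omega
    obtain ⟨a⟩ : Nonempty Ω := (Nat.card_pos_iff.1 (by omega)).1
    exact ⟨a, fun g hg => by rw [hH1, Subgroup.mem_bot] at hg; rw [hg, one_smul]⟩
  obtain ⟨⟨s, hsN⟩, hs⟩ := exists_prime_orderOf_dvd_card' 2 (even_iff_two_dvd.1 heven)
  rw [Subgroup.orderOf_mk] at hs
  obtain ⟨τ, e, hPτ, he, hse⟩ := coord_involution hΩ hp2 P hs hsN
  have hτH : τ ∉ H := by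
    intro h
    apply hpH
    have hcard := sylow_card hΩ P
    rw [hPτ] at hcard
    rw [← hcard]
    exact Subgroup.card_dvd_of_le (Subgroup.zpowers_le.2 h)
  let B := G ⧸ H
  have hB : Nat.card B = p := hH
  haveI : Finite B := inferInstance
  let b₁ : B := QuotientGroup.mk (s := H) 1
  haveI hBf : FaithfulSMul G B := ⟨fun {g g'} h => by
    have hker : g⁻¹ * g' ∈ (MulAction.toPermHom G B).ker := by
      refine Equiv.ext fun x => ?_
      show (g⁻¹ * g') • x = x
      rw [mul_smul, ← h x, inv_smul_smul]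
    have hle : (MulAction.toPermHom G B).ker ≤ H := by
      intro k hk
      have h1 : k • b₁ = b₁ := Equiv.ext_iff.1 hk b₁
      have h2 : (k : B) = ((1 : G) : B) := by
        have h3 : k • b₁ = ((k * 1 : G) : B) := rfl
        rw [mul_one] at h3
        exact h3.symm.trans h1
      rwa [QuotientGroup.eq, mul_one, inv_mem_iff] at h2
    rw [normal_bot_of_le_index_p hΩ hpH _ hle, Subgroup.mem_bot] at hker
    exact inv_mul_eq_one.1 hker⟩
  haveI : IsPretransitive G B := inferInstance
  obtain ⟨τ', e', hPτ', he', hse'⟩ := coord_involution hB hp2 P hs hsN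
  -- the conjugate of `H` fixing `e' 0`
  obtain ⟨g₀, hg₀⟩ := exists_smul_eq G b₁ (e' 0)
  suffices h : ∀ g ∈ stabilizer G (e' 0), g • e 0 = e 0 by
    refine ⟨g₀⁻¹ • e 0, fun g hg => ?_⟩
    have hmem : g₀ * g * g₀⁻¹ ∈ stabilizer G (e' 0) := by
      have hgb : g • b₁ = b₁ := by
        show ((g * 1 : G) : B) = ((1 : G) : B)
        rw [mul_one, QuotientGroup.eq, mul_one]
        exact H.inv_mem hg
      rw [mem_stabilizer_iff, ← hg₀, mul_smul, inv_smul_smul, mul_smul, hgb]
    have := h _ hmem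
    rw [mul_smul, mul_smul, ← eq_inv_smul_iff] at this
    exact this
  have hsK : s ∈ stabilizer G (e' 0) := by rw [mem_stabilizer_iff, hse', neg_zero]
  have hKp : ¬ p ∣ Nat.card (stabilizer G (e' 0)) := by
    intro h
    refine not_sq_dvd_card (G := G) hΩ ?_
    rw [← (stabilizer G (e' 0)).card_mul_index, index_stabilizer_of_transitive, hB, pow_two]
    exact Nat.mul_dvd_mul_right h p
  rcases burnside (G := G) (Ω := B) hB with hsol | h2t
  · -- the affine case
    haveI := hsol
    haveI := solvable_affine hΩ P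
    intro g hg
    have hexp : ∀ x : G, ∃ n : ℤ, x * τ * x⁻¹ = τ ^ n := fun x => by
      have hmem : x * τ * x⁻¹ ∈ (P : Subgroup G) :=
        (inferInstance : (P : Subgroup G).Normal).conj_mem τ (hPτ ▸ Subgroup.mem_zpowers τ) x
      rw [hPτ] at hmem
      obtain ⟨n, hn⟩ := hmem
      exact ⟨n, hn.symm⟩
    obtain ⟨k, hk⟩ := hexp g
    obtain ⟨l, hl⟩ := hexp s
    have hconj : ∀ (x : G) (n : ℤ), x * τ ^ n * x⁻¹ = (x * τ * x⁻¹) ^ n := fun x n => by
      rw [conj_zpow]
    have hc : (g * s * g⁻¹ * s⁻¹) * τ = τ * (g * s * g⁻¹ * s⁻¹) := by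
      have e1 : g * s * τ * (g * s)⁻¹ = τ ^ (k * l) := by
        rw [show g * s * τ * (g * s)⁻¹ = g * (s * τ * s⁻¹) * g⁻¹ by group, hl, hconj, hk, ← zpow_mul]
      have e2 : s * g * τ * (s * g)⁻¹ = τ ^ (k * l) := by
        rw [show s * g * τ * (s * g)⁻¹ = s * (g * τ * g⁻¹) * s⁻¹ by group, hk, hconj, hl, ← zpow_mul,
          mul_comm l k]
      have e3 : g * s * τ * (g * s)⁻¹ = s * g * τ * (s * g)⁻¹ := e1.trans e2.symm
      have e4 : (s * g)⁻¹ * (g * s) * τ * ((s * g)⁻¹ * (g * s))⁻¹ = τ := by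
        calc _ = (s * g)⁻¹ * (g * s * τ * (g * s)⁻¹) * (s * g) := by group
          _ = τ := by rw [e3]; group
      rw [← mul_inv_eq_iff_eq_mul]
      have e5 : ∀ m : ℤ, ((s * g)⁻¹ * (g * s)) * τ ^ m * ((s * g)⁻¹ * (g * s))⁻¹ = τ ^ m := fun m => by
        rw [hconj, e4]
      obtain ⟨j, hj⟩ := hexp (s * g)⁻¹
      calc g * s * g⁻¹ * s⁻¹ * τ * (g * s * g⁻¹ * s⁻¹)⁻¹
          = (s * g) * (((s * g)⁻¹ * (g * s)) * ((s * g)⁻¹ * τ * ((s * g)⁻¹)⁻¹) *
              ((s * g)⁻¹ * (g * s))⁻¹) * (s * g)⁻¹ := by group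
        _ = (s * g) * ((s * g)⁻¹ * τ * ((s * g)⁻¹)⁻¹) * (s * g)⁻¹ := by rw [hj, e5]
        _ = τ := by group
    have hKc : g * s * g⁻¹ * s⁻¹ ∈ stabilizer G (e' 0) :=
      mul_mem (mul_mem (mul_mem hg hsK) (inv_mem hg)) (inv_mem hsK)
    obtain ⟨c, hcdef⟩ : ∃ c, c = g * s * g⁻¹ * s⁻¹ := ⟨_, rfl⟩
    rw [← hcdef] at hc hKc
    have hc1 : c = 1 := by
      obtain ⟨i, hi⟩ : ∃ i, c • e 0 = e i := ⟨e.symm (c • e 0), (e.apply_symm_apply _).symm⟩
      have hcp : ∀ n : ℕ, c • e (n : ZMod p) = e (i + n) := by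
        intro n
        induction n with
        | zero => simpa using hi
        | succ n ih => rw [Nat.cast_succ, ← he, smul_smul, hc, mul_smul, ih, he, add_assoc]
      have hpow : ∀ (n : ℕ) j, τ ^ n • e j = e (j + n) := by
        intro n
        induction n with
        | zero => simp
        | succ n ih => intro j; rw [pow_succ', mul_smul, ih, he, Nat.cast_succ, add_assoc]
      have hcτ : c = τ ^ i.val := FaithfulSMul.eq_of_smul_eq_smul fun x : Ω => by
        obtain ⟨j, rfl⟩ := e.surjective x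
        have := hcp j.val
        rw [ZMod.natCast_zmod_val] at this
        rw [this, hpow, ZMod.natCast_zmod_val, add_comm]
      by_contra hne
      apply hKp
      have hcard := sylow_card hΩ P
      have hcP : c ∈ (P : Subgroup G) := by
        rw [hPτ, hcτ]
        exact pow_mem (Subgroup.mem_zpowers τ) _
      have ho : orderOf c = p := by
        have h1 : orderOf c ∣ p := by
          have h2 := orderOf_dvd_natCard (⟨c, hcP⟩ : (P : Subgroup G))
          rwa [Subgroup.orderOf_mk, hcard] at h2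
        exact ((Nat.dvd_prime Fact.out).1 h1).resolve_left fun h => hne (orderOf_eq_one_iff.1 h)
      have h3 := orderOf_dvd_natCard (⟨c, hKc⟩ : stabilizer G (e' 0))
      rwa [Subgroup.orderOf_mk, ho] at h3
    have hgs : g * s = s * g := by
      rw [hcdef, mul_inv_eq_one, mul_inv_eq_iff_eq_mul] at hc1
      exact hc1
    obtain ⟨j, hj⟩ : ∃ j, e j = g • e 0 := ⟨e.symm (g • e 0), e.apply_symm_apply _⟩
    have h1 : s • e j = e j := by rw [hj, smul_smul, ← hgs, mul_smul, hse, neg_zero]
    rw [hse, e.injective.eq_iff, neg_eq_iff_add_eq_zero, ← two_mul] at h1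
    have htwo : (2 : ZMod p) ≠ 0 := by
      intro h
      have h3 : ((2 : ℕ) : ZMod p) = 0 := by exact_mod_cast h
      rw [ZMod.natCast_eq_zero_iff] at h3
      exact hp2 ((Nat.prime_dvd_prime_iff_eq Fact.out Nat.prime_two).1 h3)
    rw [← hj, (mul_eq_zero.1 h1).resolve_left htwo]
  -- the doubly transitive case
  intro g hg
  let O : G → Finset Ω := fun x =>
    Finset.univ.filter fun a => x⁻¹ • a ∈ orbit (stabilizer G (e' 0)) (e 0)
  have hO : ∀ x y : G, x • e' 0 = y • e' 0 → O x = O y := by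
    intro x y h
    have hxy : y⁻¹ * x ∈ stabilizer G (e' 0) := by
      rw [mem_stabilizer_iff, mul_smul, h, inv_smul_smul]
    ext a
    simp only [O, Finset.mem_filter, Finset.mem_univ, true_and]
    have : y⁻¹ • a = (⟨y⁻¹ * x, hxy⟩ : stabilizer G (e' 0)) • (x⁻¹ • a) := by
      show _ = (y⁻¹ * x) • (x⁻¹ • a)
      rw [mul_smul, smul_inv_smul]
    rw [this]
    exact (smul_mem_orbit_iff' _ _ _).symm
  let D : Finset (ZMod p) := Finset.univ.filter fun j => e j ∈ O 1
  have hO1 : ∀ j, j ∈ D ↔ e j ∈ orbit (stabilizer G (e' 0)) (e 0) := fun j => by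
    simp [D, O]
  -- the generator `τ` moves `e' 0`; use its powers as representatives
  have hτK : τ ∉ stabilizer G (e' 0) := by
    intro h
    apply hKp
    have hcard := sylow_card hΩ P
    rw [hPτ] at hcard
    exact (dvd_of_eq hcard.symm).trans (Subgroup.card_dvd_of_le (Subgroup.zpowers_le.2 h))
  have hpow : ∀ (n : ℕ) j, τ ^ n • e j = e (j + n) := by
    intro n
    induction n with
    | zero => simp
    | succ n ih => intro j; rw [pow_succ', mul_smul, ih, he, Nat.cast_succ, add_assoc]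
  have hneq : ∀ d : ZMod p, d ≠ 0 → τ ^ d.val • e' 0 ≠ e' 0 := by
    intro d hd h
    apply hτK
    have h1 : τ ^ d.val ∈ stabilizer G (e' 0) := h
    have hord : orderOf τ = p := by
      have hcard := sylow_card hΩ P
      rwa [hPτ, Nat.card_zpowers] at hcard
    have hcop : Nat.Coprime d.val (orderOf τ) := by
      rw [hord, Nat.coprime_comm, (Fact.out : p.Prime).coprime_iff_not_dvd]
      intro hdv
      exact hd ((ZMod.natCast_zmod_val d).symm.trans ((ZMod.natCast_eq_zero_iff _ _).2 hdv))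
    obtain ⟨m, hm⟩ := exists_pow_eq_self_of_coprime hcop
    rw [← hm]
    exact pow_mem h1 _
  have hcount : ∀ d : ZMod p, (D.filter fun x => x - d ∈ D).card =
      ((O 1).filter fun a => a ∈ O (τ ^ d.val)).card := by
    intro d
    refine Finset.card_bij (fun j _ => e j) (fun j hj => ?_) (fun i _ j _ h => e.injective h)
      (fun a ha => ⟨e.symm a, ?_, e.apply_symm_apply a⟩)
    · simp only [Finset.mem_filter, D, O, Finset.mem_univ, true_and] at hj ⊢
      refine ⟨hj.1, ?_⟩
      have : (τ ^ d.val)⁻¹ • e j = e (j - d) := by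
        rw [inv_smul_eq_iff, hpow, ZMod.natCast_zmod_val, sub_add_cancel]
      rw [this]
      simpa using hj.2
    · obtain ⟨j, rfl⟩ := e.surjective a
      simp only [Finset.mem_filter, D, O, Finset.mem_univ, true_and, Equiv.symm_apply_apply] at ha ⊢
      refine ⟨ha.1, ?_⟩
      have : (τ ^ d.val)⁻¹ • e j = e (j - d) := by
        rw [inv_smul_eq_iff, hpow, ZMod.natCast_zmod_val, sub_add_cancel]
      rw [this] at ha
      simpa using ha.2
  have hD := symm_diffset_eq_zero hp2 D ((hO1 0).2 (mem_orbit_self _)) ?_ ?_ ?_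
  · obtain ⟨j, hj⟩ : ∃ j, e j = g • e 0 := ⟨e.symm (g • e 0), e.apply_symm_apply _⟩
    have := hD j ((hO1 j).2 (hj ▸ ⟨⟨g, hg⟩, rfl⟩))
    rw [← hj, this]
  · intro huniv
    apply hKp
    have : orbit (stabilizer G (e' 0)) (e 0) = Set.univ := by
      refine Set.eq_univ_of_forall fun a => ?_
      obtain ⟨j, rfl⟩ := e.surjective a
      exact (hO1 j).1 (huniv ▸ Finset.mem_univ j)
    refine dvd_trans (dvd_of_eq ?_)
      (Subgroup.index_dvd_card (stabilizer (stabilizer G (e' 0)) (e 0)))
    rw [index_stabilizer, this, Set.ncard_univ, hΩ]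
  · intro j hj
    rw [hO1] at hj ⊢
    rw [← hse]
    exact (smul_mem_orbit_iff' (⟨s, hsK⟩ : stabilizer G (e' 0)) (e j) (e 0)).2 hj
  · intro d d' hd hd'
    rw [hcount, hcount]
    obtain ⟨k, hk0, hk1⟩ := is_two_pretransitive_iff.1 h2t (hneq d hd).symm (hneq d' hd').symm
    refine Finset.card_bij (fun a _ => k • a) (fun a ha => ?_)
      (fun a _ b _ h => smul_left_cancel k h) (fun a ha => ⟨k⁻¹ • a, ?_, smul_inv_smul k a⟩)
    all_goals
      have e1 : O k = O 1 := hO k 1 (by rw [hk0, one_smul])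
      have e2 : O (k * τ ^ d.val) = O (τ ^ d'.val) := hO _ _ (by rw [mul_smul, hk1])
      simp only [Finset.mem_filter] at ha ⊢
    · refine ⟨?_, ?_⟩
      · rw [← e1]; simpa [O] using ha.1
      · rw [← e2]; simpa [O, mul_smul] using ha.2
    · refine ⟨?_, ?_⟩
      · have := ha.1; rw [← e1] at this; simpa [O] using this
      · have := ha.2; rw [← e2] at this; simpa [O, mul_smul] using this

end Cfsg.Agent.PermThree
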