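import Cfsg.Agent.Lib.Char.Basic
import Cfsg.Agent.Lib.Char.Integral
import Cfsg.Agent.Lib.Char.Complete
import Cfsg.Agent.Lib.Perm.Modules
import Mathlib.GroupTheory.GroupAction.Quotient
import Mathlib.LinearAlgebra.Eigenspace.Zero
import Mathlib.LinearAlgebra.Matrix.Charpoly.Eigs
import Mathlib.LinearAlgebra.Charpoly.ToMatrix
import Mathlib.RingTheory.IntegralClosure.IsIntegral.Basic

/-!
Permutation characters over `ℂ`: constituents, multiplicities and the centraliser ring.
-/

set_option autoImplicit false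
set_option linter.style.haveILetI false
set_option linter.unusedSectionVars false

namespace Cfsg.Agent.CharPerm

open scoped ComplexConjugate
open Module Cfsg.Agent.Char

universe u v w

variable {G : Type u} [Group G] [Fintype G]

section general

variable {V : Type v} [AddCommGroup V] [Module ℂ V] [FiniteDimensional ℂ V]
variable {U : Type w} [AddCommGroup U] [Module ℂ U] [FiniteDimensional ℂ U]

/-- A linear map commuting with the group. -/
def Equivariant (σ : Representation ℂ G U) (ρ : Representation ℂ G V) (e : U →ₗ[ℂ] V) : Prop :=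
  ∀ g x, e (σ g x) = ρ g (e x)

theorem exists_ne_zero_of_classInner (σ : Representation ℂ G U) (ρ : Representation ℂ G V)
    (h : Cfsg.classInner ρ.character σ.character ≠ 0) :
    ∃ e : U →ₗ[ℂ] V, Equivariant σ ρ e ∧ e ≠ 0 := by
  rw [classInner_char, Nat.cast_ne_zero] at h
  haveI := nontrivial_of_finrank_pos (Nat.pos_of_ne_zero h)
  obtain ⟨f, hf⟩ := exists_ne (0 : Representation.IntertwiningMap σ ρ)
  exact ⟨f.toLinearMap, f.isIntertwining σ ρ, fun h0 => hf (Representation.IntertwiningMap.ext h0)⟩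

theorem classInner_ne_zero_of_equivariant (σ : Representation ℂ G U) (ρ : Representation ℂ G V)
    {e : U →ₗ[ℂ] V} (he : Equivariant σ ρ e) (h0 : e ≠ 0) :
    Cfsg.classInner ρ.character σ.character ≠ 0 := by
  rw [classInner_char, Nat.cast_ne_zero]
  intro h
  haveI := Module.finrank_zero_iff.mp h
  have := Subsingleton.elim (e.intertwiningMap_of_isIntertwiningMap σ ρ he)
    (0 : Representation.IntertwiningMap σ ρ)
  exact h0 (congrArg Representation.IntertwiningMap.toLinearMap this)

theorem exists_smul_of_classInner_le_one (σ : Representation ℂ G U) (ρ : Representation ℂ G V)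
    (h : Cfsg.classInner ρ.character σ.character = 0 ∨
      Cfsg.classInner ρ.character σ.character = 1)
    {e e' : U →ₗ[ℂ] V} (he : Equivariant σ ρ e) (h0 : e ≠ 0) (he' : Equivariant σ ρ e') :
    ∃ c : ℂ, e' = c • e := by
  have h1 := h.resolve_left (classInner_ne_zero_of_equivariant σ ρ he h0)
  rw [classInner_char, Nat.cast_eq_one] at h1
  have hne : e.intertwiningMap_of_isIntertwiningMap σ ρ he ≠ 0 := fun h' =>
    h0 (congrArg Representation.IntertwiningMap.toLinearMap h')
  obtain ⟨c, hc⟩ := (finrank_eq_one_iff_of_nonzero' _ hne).1 h1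
    (e'.intertwiningMap_of_isIntertwiningMap σ ρ he')
  exact ⟨c, (congrArg Representation.IntertwiningMap.toLinearMap hc).symm⟩

theorem injective_of_equivariant (σ : Representation ℂ G U) (ρ : Representation ℂ G V)
    [σ.IsIrreducible] {e : U →ₗ[ℂ] V} (he : Equivariant σ ρ e) (h0 : e ≠ 0) :
    Function.Injective e := by
  have := Representation.IsIrreducible.injective_or_eq_zero
    (e.intertwiningMap_of_isIntertwiningMap σ ρ he)
  exact this.resolve_right fun h' =>
    h0 (congrArg Representation.IntertwiningMap.toLinearMap h')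

/-- An equivariant injection has an equivariant left inverse. -/
theorem exists_leftInverse (σ : Representation ℂ G U) (ρ : Representation ℂ G V)
    {e : U →ₗ[ℂ] V} (he : Equivariant σ ρ e) (hinj : Function.Injective e) :
    ∃ p : V →ₗ[ℂ] U, Equivariant ρ σ p ∧ ∀ x, p (e x) = x := by
  obtain ⟨q, hq⟩ := e.exists_leftInverse_of_injective (LinearMap.ker_eq_bot.2 hinj)
  refine ⟨(Nat.card G : ℂ)⁻¹ • ∑ g : G, σ g ∘ₗ q ∘ₗ ρ g⁻¹, fun h x => ?_, fun x => ?_⟩
  · simp only [LinearMap.smul_apply, LinearMap.sum_apply, LinearMap.comp_apply, map_smul, map_sum]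
    congr 1
    refine Fintype.sum_equiv (Equiv.mulLeft h⁻¹) _ _ fun g => ?_
    simp only [Equiv.coe_mulLeft, mul_inv_rev, inv_inv, map_mul, Module.End.mul_apply,
      Representation.self_inv_apply]
  · have : ∀ g : G, σ g (q (ρ g⁻¹ (e x))) = x := fun g => by
      rw [← he, show q (e (σ g⁻¹ x)) = σ g⁻¹ x from LinearMap.congr_fun hq _,
        Representation.self_inv_apply]
    simp only [LinearMap.smul_apply, LinearMap.sum_apply, LinearMap.comp_apply, this,
      Finset.sum_const, Finset.card_univ, ← Nat.cast_smul_eq_nsmul ℂ, smul_smul]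
    rw [← Nat.card_eq_fintype_card, inv_mul_cancel₀ (Nat.cast_ne_zero.2 Nat.card_pos.ne'), one_smul]

end general

section ext

variable {V : Type v} [AddCommGroup V] [Module ℂ V] [FiniteDimensional ℂ V]
variable {W : Type w} [AddCommGroup W] [Module ℂ W]

/-- Linear maps are determined by their values on images of irreducible representations. -/
theorem ext_irr (ρ : Representation ℂ G V) (T T' : V →ₗ[ℂ] W)
    (h : ∀ (U : Type v) [AddCommGroup U] [Module ℂ U] [FiniteDimensional ℂ U]
      (τ : Representation ℂ G U) [τ.IsIrreducible] (e : U →ₗ[ℂ] V), Equivariant τ ρ e → e ≠ 0 →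
        T ∘ₗ e = T' ∘ₗ e) : T = T' := by
  have key := rep_induction (G := G) (P := fun U _ _ _ τ =>
    ∀ e : U →ₗ[ℂ] V, Equivariant τ ρ e → T ∘ₗ e = T' ∘ₗ e) ?_ ?_ ?_ V ρ LinearMap.id fun _ _ => rfl
  · simpa using key
  · intro U _ _ _ _ τ e _
    ext x
    simp [Subsingleton.elim x 0]
  · intro U _ _ _ τ _ e he
    by_cases h0 : e = 0
    · simp [h0]
    · exact h U τ e he h0
  · intro U _ _ _ τ a b hab ha hb e he
    refine sub_eq_zero.1 (eq_zero_of_split hab (fun x hx => ?_) fun x hx => ?_)
    · have := LinearMap.congr_fun (ha (e ∘ₗ a.toSubmodule.subtype) fun g y => he g y) ⟨x, hx⟩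
      simpa [sub_eq_zero] using this
    · have := LinearMap.congr_fun (hb (e ∘ₗ b.toSubmodule.subtype) fun g y => he g y) ⟨x, hx⟩
      simpa [sub_eq_zero] using this

end ext

section perm

variable {Ω : Type w} [Fintype Ω] [MulAction G Ω]

/-- The permutation character. -/
noncomputable abbrev permChar (G : Type u) [Group G] (Ω : Type w) [MulAction G Ω] : G → ℂ :=
  fun g => (Nat.card (MulAction.fixedBy Ω g) : ℂ)

theorem char_permRep : (Cfsg.permRep ℂ G Ω).character = permChar G Ω := by
  classical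
  funext g
  rw [Representation.character, LinearMap.trace_eq_matrix_trace ℂ (Pi.basisFun ℂ Ω)]
  have key : ∀ x : Ω, LinearMap.toMatrix (Pi.basisFun ℂ Ω) (Pi.basisFun ℂ Ω)
      (Cfsg.permRep ℂ G Ω g) x x = if g • x = x then 1 else 0 := fun x => by
    rw [LinearMap.toMatrix_apply, Pi.basisFun_apply, Pi.basisFun_repr,
      PermModules.permRep_single, Pi.single_apply]
    exact if_congr eq_comm rfl rfl
  simp only [Matrix.trace, Matrix.diag_apply, key, Finset.sum_boole]
  rw [permChar, Nat.card_eq_fintype_card, ← Set.toFinset_card]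
  congr 2
  ext x
  simp

theorem isCharacter_permChar : Cfsg.IsCharacter G (permChar G Ω) :=
  char_permRep (G := G) (Ω := Ω) ▸ isCharacter_of_rep _

theorem classInner_permChar_one [MulAction.IsPretransitive G Ω] [Nonempty Ω] :
    Cfsg.classInner (permChar G Ω) (fun _ => 1) = 1 := by
  classical
  have h := MulAction.sum_card_fixedBy_eq_card_orbits_mul_card_group G Ω
  haveI : Unique (Quotient (MulAction.orbitRel G Ω)) :=
    { default := ⟦Classical.arbitrary Ω⟧
      uniq := fun q => by
        induction q using Quotient.inductionOn with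
        | h x => exact Quotient.sound (MulAction.exists_smul_eq G (Classical.arbitrary Ω) x) }
  rw [Fintype.card_unique, one_mul] at h
  simp only [Cfsg.classInner, map_one, mul_one, permChar, Nat.card_eq_fintype_card (α := MulAction.fixedBy Ω _)]
  rw [← Nat.cast_sum, h, Nat.card_eq_fintype_card (α := G),
    inv_mul_cancel₀ (Nat.cast_ne_zero.2 Fintype.card_ne_zero)]

/-- The rank of a transitive group is the norm of its permutation character. -/
theorem classInner_permChar_self [MulAction.IsPretransitive G Ω] (a : Ω) :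
    Cfsg.classInner (permChar G Ω) (permChar G Ω) =
      (Nat.card (MulAction.orbitRel.Quotient (MulAction.stabilizer G a) Ω) : ℂ) := by
  classical
  have h := MulAction.sum_card_fixedBy_eq_card_orbits_mul_card_group G (Ω × Ω)
  have hfix : ∀ g : G, Fintype.card (MulAction.fixedBy (Ω × Ω) g) =
      Fintype.card (MulAction.fixedBy Ω g) * Fintype.card (MulAction.fixedBy Ω g) := fun g => by
    rw [← Fintype.card_prod]
    exact Fintype.card_congr
      { toFun := fun z => (⟨z.1.1, congrArg Prod.fst z.2⟩, ⟨z.1.2, congrArg Prod.snd z.2⟩)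
        invFun := fun z => ⟨(z.1.1, z.2.1), Prod.ext z.1.2 z.2.2⟩
        left_inv := fun z => rfl
        right_inv := fun z => rfl }
  let F : Quotient (MulAction.orbitRel (MulAction.stabilizer G a) Ω) →
      Quotient (MulAction.orbitRel G (Ω × Ω)) :=
    Quotient.map' (fun b => (a, b)) fun x y hxy => by
      obtain ⟨g, rfl⟩ := MulAction.mem_orbit_iff.1 hxy
      exact ⟨(g : G), Prod.ext g.2 rfl⟩
  have hF : Function.Bijective F := by
    constructor
    · intro p q hpq
      induction p using Quotient.inductionOn with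
      | h x =>
        induction q using Quotient.inductionOn with
        | h y =>
          obtain ⟨g, hg⟩ := Quotient.exact hpq
          exact Quotient.sound ⟨⟨g, congrArg Prod.fst hg⟩, congrArg Prod.snd hg⟩
    · intro q
      induction q using Quotient.inductionOn with
      | h z =>
        obtain ⟨g, hg⟩ := MulAction.exists_smul_eq G z.1 a
        exact ⟨⟦g • z.2⟧, Quotient.sound ⟨g, Prod.ext hg rfl⟩⟩
  rw [Finset.sum_congr rfl fun g _ => hfix g, ← Fintype.card_congr (Equiv.ofBijective F hF)] at h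
  simp only [Cfsg.classInner, permChar, map_natCast, Nat.card_eq_fintype_card (α := MulAction.fixedBy Ω _),
    ← Nat.cast_mul]
  rw [← Nat.cast_sum, h, Nat.cast_mul, Nat.card_eq_fintype_card (α := G), mul_left_comm,
    inv_mul_cancel₀ (Nat.cast_ne_zero.2 Fintype.card_ne_zero), mul_one, Nat.card_eq_fintype_card]

/-- An invariant subspace inside the sum-zero functions has degree divisible by any common
divisor of the non-principal constituent degrees. -/
theorem dvd_finrank_of_le_sumZero [MulAction.IsPretransitive G Ω] (f : ℕ)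
    (hf : ∀ χ : G → ℂ, Cfsg.IsIrrCharacter G χ → χ ≠ (fun _ => 1) →
      Cfsg.classInner (permChar G Ω) χ ≠ 0 → ∃ m : ℕ, χ 1 = (f : ℂ) * m)
    (W : Subrepresentation (Cfsg.permRep ℂ G Ω))
    (hW : ∀ v ∈ W.toSubmodule, ∑ x, v x = 0) : f ∣ finrank ℂ W.toSubmodule := by
  classical
  set φ := W.toRepresentation.character with hφ
  have hφc : Cfsg.IsCharacter G φ := isCharacter_of_rep _
  obtain ⟨m, hm⟩ := IsCharacter.exists_decomp hφc
  have hinner : ∀ ψ : Cfsg.IrrCharacter G, m ψ ≠ 0 → ∃ t : ℕ, (ψ : G → ℂ) 1 = (f : ℂ) * t := by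
    intro ψ hψ
    have hne : Cfsg.classInner φ ψ ≠ 0 := by
      rw [hm, classInner_combination]; exact Nat.cast_ne_zero.2 hψ
    obtain ⟨n, τ, hτ, hτψ⟩ := ψ.2
    rw [← hτψ, hφ] at hne
    obtain ⟨e, he, he0⟩ := exists_ne_zero_of_classInner τ W.toRepresentation hne
    have he' : Equivariant τ (Cfsg.permRep ℂ G Ω) (W.toSubmodule.subtype ∘ₗ e) := fun g x =>
      congrArg Subtype.val (he g x)
    have he0' : W.toSubmodule.subtype ∘ₗ e ≠ 0 := fun h0 => he0 (LinearMap.ext fun x =>
      Subtype.ext (LinearMap.congr_fun h0 x))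
    refine hf _ ψ.2 (fun h1 => he0 (LinearMap.ext fun x => Subtype.ext ?_)) ?_
    · have hd : ((Module.finrank ℂ (Fin n → ℂ) : ℕ) : ℂ) = 1 := by
        rw [← Representation.char_one τ, hτψ, h1]
      have htriv : ∀ g y, τ g y = y := by
        intro g y
        obtain ⟨M, hM1, -, hM3, hM4⟩ := exists_eigenvalues τ g
        have h3 := hM3 1
        rw [pow_one, hτψ, h1, Multiset.map_congr rfl fun z _ => pow_one z, Multiset.map_id'] at h3
        rw [Nat.cast_eq_one] at hd
        rw [hd, Multiset.card_eq_one] at hM1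
        obtain ⟨z, rfl⟩ := hM1
        rw [Multiset.sum_singleton] at h3
        rw [hM4 1 fun w hw => (Multiset.mem_singleton.1 hw).trans h3.symm]
        simp
      funext y
      show (W.toSubmodule.subtype ∘ₗ e) x y = 0
      set v := (W.toSubmodule.subtype ∘ₗ e) x
      have hconst : ∀ z, v z = v y := fun z =>
        PermModules.constant_of_fixed (G := G) (fun g => by rw [← he' g x, htriv]) y z
      have hs : ∑ z, v z = 0 := hW v (e x).2
      rw [Finset.sum_congr rfl fun z _ => hconst z, Finset.sum_const, Finset.card_univ,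
        nsmul_eq_mul] at hs
      haveI : Nonempty Ω := ⟨y⟩
      exact (mul_eq_zero.1 hs).resolve_left (Nat.cast_ne_zero.2 Fintype.card_ne_zero)
    · rw [← char_permRep, ← hτψ]
      exact classInner_ne_zero_of_equivariant τ _ he' he0'
  choose! t ht using hinner
  refine ⟨∑ ψ, m ψ * t ψ, ?_⟩
  have h1 := congrFun hm 1
  rw [hφ, Representation.char_one] at h1
  simp only [Finset.sum_apply, Pi.smul_apply, smul_eq_mul] at h1
  have h2 : ∀ ψ : Cfsg.IrrCharacter G, (m ψ : ℂ) * (ψ : G → ℂ) 1 = ((f * (m ψ * t ψ) : ℕ) : ℂ) :=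
    fun ψ => by
      by_cases h0 : m ψ = 0
      · simp [h0]
      · rw [ht ψ h0]; push_cast; ring
  rw [Finset.sum_congr rfl fun ψ _ => h2 ψ, ← Nat.cast_sum, Nat.cast_inj, ← Finset.mul_sum] at h1
  exact h1

/-- A common divisor of the non-principal constituent degrees divides every nontrivial subdegree. -/
theorem dvd_subdegree [MulAction.IsPretransitive G Ω] (f : ℕ)
    (hf : ∀ χ : G → ℂ, Cfsg.IsIrrCharacter G χ → χ ≠ (fun _ => 1) →
      Cfsg.classInner (permChar G Ω) χ ≠ 0 → ∃ m : ℕ, χ 1 = (f : ℂ) * m)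
    (a b : Ω) (hab : b ≠ a) :
    f ∣ Nat.card (MulAction.orbit (MulAction.stabilizer G a) b) := by
  classical
  set O : Set (Ω × Ω) := MulAction.orbit G (a, b) with hO
  set k := Nat.card (MulAction.orbit (MulAction.stabilizer G a) b) with hk
  have hO' : ∀ (g : G) (x y : Ω), (g • x, g • y) ∈ O ↔ (x, y) ∈ O := fun g x y => by
    rw [show (g • x, g • y) = g • (x, y) from rfl, hO]
    constructor
    · rintro ⟨h, hh⟩
      exact ⟨g⁻¹ * h, (mul_smul g⁻¹ h (a, b)).trans (by rw [show h • (a, b) = g • (x, y) from hh, inv_smul_smul])⟩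
    · rintro ⟨h, hh⟩
      exact ⟨g * h, (mul_smul g h (a, b)).trans (by rw [show h • (a, b) = (x, y) from hh])⟩
  let A : Matrix Ω Ω ℂ := fun x y => if (x, y) ∈ O then 1 else 0
  have hrow : ∀ x, ∑ y, A x y = (k : ℂ) := by
    intro x
    obtain ⟨g, rfl⟩ := MulAction.exists_smul_eq G a x
    rw [show ∑ y, A (g • a) y = ∑ y, A a y from
      (Fintype.sum_equiv (MulAction.toPerm g) _ _ fun y => by
        simp only [A, MulAction.toPerm_apply, hO']).symm]
    simp only [A, Finset.sum_boole, hk]
    rw [Nat.card_eq_fintype_card, ← Set.toFinset_card]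
    congr 2
    ext y
    simp only [Finset.mem_filter, Finset.mem_univ, true_and, Set.mem_toFinset, hO,
      MulAction.mem_orbit_iff]
    constructor
    · rintro ⟨h, hh⟩
      exact ⟨⟨h, congrArg Prod.fst hh⟩, congrArg Prod.snd hh⟩
    · rintro ⟨h, hh⟩
      exact ⟨(h : G), Prod.ext h.2 hh⟩
  haveI : Nonempty Ω := ⟨a⟩
  have hn0 : (Fintype.card Ω : ℂ) ≠ 0 := Nat.cast_ne_zero.2 Fintype.card_ne_zero
  have hcol : ∀ y, ∑ x, A x y = (k : ℂ) := by
    intro y
    have hsame : ∀ z, ∑ x, A x z = ∑ x, A x y := by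
      intro z
      obtain ⟨g, rfl⟩ := MulAction.exists_smul_eq G z y
      exact Fintype.sum_equiv (MulAction.toPerm g) _ _ fun x => by
        simp only [A, MulAction.toPerm_apply, hO']
    have h := Finset.sum_comm (s := Finset.univ) (t := Finset.univ) (f := fun x z => A x z)
    rw [Finset.sum_congr rfl fun x _ => hrow x, Finset.sum_congr rfl fun z _ => hsame z] at h
    simp only [Finset.sum_const, Finset.card_univ, nsmul_eq_mul] at h
    exact (mul_left_cancel₀ hn0 h).symm
  set T : Module.End ℂ (Ω → ℂ) := Matrix.toLin' A with hT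
  have hTapp : ∀ v x, T v x = ∑ y, A x y * v y := fun v x => rfl
  have hcomm : ∀ g v, T (Cfsg.permRep ℂ G Ω g v) = Cfsg.permRep ℂ G Ω g (T v) := by
    intro g v
    funext x
    rw [PermModules.permRep_apply, hTapp, hTapp]
    exact Fintype.sum_equiv (MulAction.toPerm g⁻¹) _ _ fun y => by
      simp only [A, PermModules.permRep_apply, MulAction.toPerm_apply, hO']
  have hcomm' : ∀ (μ : ℂ) (g : G) (j : ℕ) (v : Ω → ℂ), ((T - μ • 1) ^ j) (Cfsg.permRep ℂ G Ω g v) =
      Cfsg.permRep ℂ G Ω g (((T - μ • 1) ^ j) v) := by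
    intro μ g j
    induction j with
    | zero => intro v; rfl
    | succ j ih =>
      intro v
      rw [pow_succ', Module.End.mul_apply, Module.End.mul_apply, ih]
      simp [hcomm]
  have hsum : ∀ (μ : ℂ) (j : ℕ) (v : Ω → ℂ),
      ∑ x, ((T - μ • 1) ^ j) v x = ((k : ℂ) - μ) ^ j * ∑ x, v x := by
    intro μ j
    induction j with
    | zero => intro v; simp
    | succ j ih =>
      intro v
      rw [pow_succ, Module.End.mul_apply, ih, pow_succ, mul_assoc]
      congr 1
      simp only [LinearMap.sub_apply, LinearMap.smul_apply, Module.End.one_apply, Pi.sub_apply,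
        Pi.smul_apply, smul_eq_mul, Finset.sum_sub_distrib, hTapp, ← Finset.mul_sum, sub_mul]
      congr 1
      rw [Finset.sum_comm]
      refine (Finset.sum_congr rfl fun y _ => ?_).trans (Finset.mul_sum Finset.univ v (k : ℂ)).symm
      rw [← Finset.sum_mul, hcol]
  let one : Ω → ℂ := fun _ => 1
  have hmult : ∀ μ : ℂ, ∃ t : ℕ,
      A.charpoly.rootMultiplicity μ = f * t + if μ = (k : ℂ) then 1 else 0 := by
    intro μ
    rw [← Matrix.charpoly_toLin', ← LinearMap.finrank_maxGenEigenspace_eq, ← hT]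
    have hinv : ∀ g, ∀ v ∈ T.maxGenEigenspace μ, Cfsg.permRep ℂ G Ω g v ∈ T.maxGenEigenspace μ := by
      intro g v hv
      rw [Module.End.mem_maxGenEigenspace] at hv ⊢
      obtain ⟨j, hj⟩ := hv
      exact ⟨j, by rw [hcomm', hj, map_zero]⟩
    let S0 := Cfsg.permSumZero ℂ G Ω
    let W : Subrepresentation (Cfsg.permRep ℂ G Ω) :=
      ⟨T.maxGenEigenspace μ ⊓ S0.toSubmodule, fun g v hv =>
        ⟨hinv g v hv.1, S0.apply_mem_toSubmodule g hv.2⟩⟩
    obtain ⟨t, ht⟩ := dvd_finrank_of_le_sumZero f hf W fun v hv => PermModules.mem_permSumZero.1 hv.2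
    refine ⟨t, ?_⟩
    rw [← ht]
    show _ = finrank ℂ ↥(T.maxGenEigenspace μ ⊓ S0.toSubmodule) + _
    split_ifs with hμ
    · subst hμ
      have hone : one ∈ T.maxGenEigenspace (k : ℂ) := by
        rw [Module.End.mem_maxGenEigenspace]
        refine ⟨1, ?_⟩
        funext x
        simp [hTapp, one, hrow]
      have hdisj : Submodule.span ℂ {one} ⊓ (T.maxGenEigenspace (k : ℂ) ⊓ S0.toSubmodule) = ⊥ := by
        rw [Submodule.eq_bot_iff]
        rintro v ⟨hv1, -, hv2⟩
        obtain ⟨c, rfl⟩ := Submodule.mem_span_singleton.1 hv1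
        have hv2' := PermModules.mem_permSumZero.1 hv2
        simp [one] at hv2'
        simp [hv2']
      have hsup : Submodule.span ℂ {one} ⊔ (T.maxGenEigenspace (k : ℂ) ⊓ S0.toSubmodule) =
          T.maxGenEigenspace (k : ℂ) := by
        refine le_antisymm (sup_le ((Submodule.span_singleton_le_iff_mem _ _).2 hone) inf_le_left)
          fun v hv => ?_
        set c := (Fintype.card Ω : ℂ)⁻¹ * ∑ x, v x with hc
        refine Submodule.mem_sup.2 ⟨c • one, Submodule.smul_mem _ _ (Submodule.mem_span_singleton_self _),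
          v - c • one, ⟨Submodule.sub_mem _ hv (Submodule.smul_mem _ _ hone),
            PermModules.mem_permSumZero.2 ?_⟩, add_sub_cancel _ _⟩
        simp [one, Finset.sum_sub_distrib, hc]
      have h := Submodule.finrank_sup_add_finrank_inf_eq (Submodule.span ℂ {one})
        (T.maxGenEigenspace (k : ℂ) ⊓ S0.toSubmodule)
      rw [hsup, hdisj, finrank_bot, finrank_span_singleton
        (fun h0 => one_ne_zero (α := ℂ) (congrFun h0 a))] at h
      omega
    · rw [add_zero, inf_eq_left.2]
      intro v hv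
      rw [Module.End.mem_maxGenEigenspace] at hv
      obtain ⟨j, hj⟩ := hv
      refine PermModules.mem_permSumZero.2 ?_
      have h := hsum μ j v
      rw [hj] at h
      simp only [Pi.zero_apply, Finset.sum_const_zero] at h
      exact (mul_eq_zero.1 h.symm).resolve_left (pow_ne_zero _ (sub_ne_zero.2 (Ne.symm hμ)))
  choose t ht using hmult
  set R := A.charpoly.roots with hR
  have hint : ∀ z ∈ R, IsIntegral ℤ z := by
    intro z hz
    let B : Matrix Ω Ω ℤ := fun x y => if (x, y) ∈ O then 1 else 0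
    have hAB : A = B.map (algebraMap ℤ ℂ) := by
      ext x y; show (if (x, y) ∈ O then (1 : ℂ) else 0) = algebraMap ℤ ℂ (if (x, y) ∈ O then 1 else 0); split_ifs <;> simp
    refine ⟨B.charpoly, B.charpoly_monic, ?_⟩
    have hz' := (Polynomial.mem_roots'.1 hz).2
    rw [hAB, Matrix.charpoly_map] at hz'
    rwa [Polynomial.IsRoot, Polynomial.eval_map] at hz'
  have hkR : (k : ℂ) ∈ R := by
    rw [hR, Polynomial.mem_roots A.charpoly_monic.ne_zero, ← Polynomial.rootMultiplicity_pos
      A.charpoly_monic.ne_zero, ht]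
    simp
  have htr : A.trace = 0 := by
    refine Finset.sum_eq_zero fun x _ => ?_
    show (if (x, x) ∈ O then (1 : ℂ) else 0) = 0
    rw [if_neg]
    rintro ⟨g, hg⟩
    exact hab (MulAction.injective g ((congrArg Prod.snd hg).trans (congrArg Prod.fst hg).symm))
  rw [Matrix.trace_eq_sum_roots_charpoly, ← hR, Finset.sum_multiset_count] at htr
  simp only [hR, Polynomial.count_roots, ht, nsmul_eq_mul, Nat.cast_add, Nat.cast_mul, add_mul,
    Finset.sum_add_distrib, mul_assoc, ← Finset.mul_sum, Nat.cast_ite, Nat.cast_one, Nat.cast_zero,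
    ite_mul, one_mul, zero_mul] at htr
  rw [Finset.sum_ite_eq' _ (k : ℂ), if_pos (Multiset.mem_toFinset.2 (hR ▸ hkR))] at htr
  set z := -∑ x ∈ A.charpoly.roots.toFinset, (t x : ℂ) * x with hz
  have hzint : IsIntegral ℤ z := (IsIntegral.sum _ fun x hx =>
    (isIntegral_algebraMap (R := ℤ) (x := (t x : ℤ))).mul
      (hint x (hR ▸ Multiset.mem_toFinset.1 hx))).neg
  have hkz : (k : ℂ) = (f : ℂ) * z := by rw [hz, mul_neg]; linear_combination htr
  rcases f.eq_zero_or_pos with rfl | hf0
  · rw [Nat.cast_zero, zero_mul, Nat.cast_eq_zero] at hkz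
    rw [hkz]
  refine dvd_of_isIntegral_div hf0.ne' ?_
  rwa [hkz, mul_div_cancel_left₀ _ (Nat.cast_ne_zero.2 hf0.ne')]

/-- The sum of squares of the multiplicities and the degree count. -/
theorem constituent_data [MulAction.IsPretransitive G Ω] (a : Ω) :
    ∃ (m : Cfsg.IrrCharacter G → ℕ) (_ : DecidableEq (Cfsg.IrrCharacter G)),
      (∀ ψ : Cfsg.IrrCharacter G, Cfsg.classInner (permChar G Ω) ψ = (m ψ : ℂ)) ∧ m (principal G) = 1 ∧
      (∑ ψ, (m ψ : ℂ) * (ψ : G → ℂ) 1 = (Fintype.card Ω : ℂ)) ∧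
      ∑ ψ ∈ Finset.univ.erase (principal G), m ψ * m ψ + 1 =
        Nat.card (MulAction.orbitRel.Quotient (MulAction.stabilizer G a) Ω) := by
  classical
  haveI : Nonempty Ω := ⟨a⟩
  obtain ⟨m, hm⟩ := IsCharacter.exists_decomp (isCharacter_permChar (G := G) (Ω := Ω))
  have hmi : ∀ ψ : Cfsg.IrrCharacter G, Cfsg.classInner (permChar G Ω) ψ = (m ψ : ℂ) := fun ψ => by
    rw [hm, classInner_combination]
  refine ⟨m, inferInstance, hmi, ?_, ?_, ?_⟩
  · have h := hmi (principal G)
    rw [show ((principal G : Cfsg.IrrCharacter G) : G → ℂ) = fun _ => 1 from rfl,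
      classInner_permChar_one] at h
    exact_mod_cast h.symm
  · have h1 := congrFun hm 1
    simp only [Finset.sum_apply, Pi.smul_apply, smul_eq_mul] at h1
    rw [← h1]
    simp [permChar, Nat.card_eq_fintype_card]
  · have h := classInner_permChar_self (G := G) a
    rw [hm, classInner_combination₂] at h
    simp only [map_natCast] at h
    have hp : m (principal G) = 1 := by
      have h' := hmi (principal G)
      rw [show ((principal G : Cfsg.IrrCharacter G) : G → ℂ) = fun _ => 1 from rfl,
        classInner_permChar_one] at h'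
      exact_mod_cast h'.symm
    rw [← Finset.sum_erase_add _ _ (Finset.mem_univ (principal G)), hp, Nat.cast_one, mul_one] at h
    exact_mod_cast h

theorem multiplicity_free_and_subdegrees [MulAction.IsPretransitive G Ω] (a : Ω) (f : ℕ)
    (hf : ∀ χ : G → ℂ, Cfsg.IsIrrCharacter G χ → χ ≠ (fun _ => 1) →
      Cfsg.classInner (permChar G Ω) χ ≠ 0 → χ 1 = f) :
    (∀ χ : G → ℂ, Cfsg.IsIrrCharacter G χ → Cfsg.classInner (permChar G Ω) χ = 0 ∨
      Cfsg.classInner (permChar G Ω) χ = 1) ∧
    ∀ b : Ω, b ≠ a → Nat.card (MulAction.orbit (MulAction.stabilizer G a) b) = f := by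
  classical
  obtain ⟨m, _, hmi, hp, hdeg, hsq⟩ := constituent_data (G := G) a
  set E := (Finset.univ : Finset (Cfsg.IrrCharacter G)).erase (principal G) with hE
  have hfd : ∀ ψ ∈ E, m ψ ≠ 0 → (ψ : G → ℂ) 1 = f := fun ψ hψ h0 =>
    hf _ ψ.2 (fun h => Finset.ne_of_mem_erase hψ (Subtype.ext h))
      (by rw [hmi]; exact Nat.cast_ne_zero.2 h0)
  have hn : (1 + f * ∑ ψ ∈ E, m ψ) = Fintype.card Ω := by
    rw [← Finset.sum_erase_add _ _ (Finset.mem_univ (principal G)), hp, Nat.cast_one, one_mul,
      show ((principal G : Cfsg.IrrCharacter G) : G → ℂ) 1 = 1 from rfl,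
      Finset.sum_congr rfl fun ψ hψ => show (m ψ : ℂ) * (ψ : G → ℂ) 1 = ((f * m ψ : ℕ) : ℂ) by
        by_cases h0 : m ψ = 0
        · simp [h0]
        · rw [hfd ψ hψ h0]; push_cast; ring,
      ← Nat.cast_sum, ← Nat.cast_one, ← Nat.cast_add, Nat.cast_inj, ← Finset.mul_sum, ← hE] at hdeg
    omega
  haveI : Fintype (MulAction.orbitRel.Quotient (MulAction.stabilizer G a) Ω) := Fintype.ofFinite _
  let oc : MulAction.orbitRel.Quotient (MulAction.stabilizer G a) Ω → ℕ := fun q =>
    Nat.card (MulAction.orbitRel.Quotient.orbit q)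
  have hsumorb : ∑ q, oc q = Fintype.card Ω := by
    rw [← Nat.card_eq_fintype_card, Nat.card_congr
      (MulAction.selfEquivSigmaOrbits' (MulAction.stabilizer G a) Ω), Nat.card_sigma]
  let qa : MulAction.orbitRel.Quotient (MulAction.stabilizer G a) Ω := ⟦a⟧
  have hoa : oc qa = 1 := by
    have : MulAction.orbitRel.Quotient.orbit qa = {a} := by
      rw [show MulAction.orbitRel.Quotient.orbit qa = MulAction.orbit (MulAction.stabilizer G a) a from
        MulAction.orbitRel.Quotient.orbit_mk a]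
      ext x
      simp only [MulAction.mem_orbit_iff, Set.mem_singleton_iff]
      exact ⟨fun ⟨g, hg⟩ => hg ▸ g.2, fun h => ⟨1, by simp [h]⟩⟩
    show Nat.card (MulAction.orbitRel.Quotient.orbit qa) = 1
    rw [this, Nat.card_unique]
  set Q := (Finset.univ : Finset (MulAction.orbitRel.Quotient (MulAction.stabilizer G a) Ω)).erase qa
    with hQ
  have hQs : ∑ q ∈ Q, oc q = f * ∑ ψ ∈ E, m ψ := by
    have h := Finset.sum_erase_add Finset.univ oc (Finset.mem_univ qa)
    rw [hoa, hsumorb, ← hQ] at h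
    omega
  have hQc : Q.card = ∑ ψ ∈ E, m ψ * m ψ := by
    rw [hQ, Finset.card_erase_of_mem (Finset.mem_univ _), Finset.card_univ,
      ← Nat.card_eq_fintype_card, ← hsq, hE]
    omega
  have hf' : ∀ χ : G → ℂ, Cfsg.IsIrrCharacter G χ → χ ≠ (fun _ => 1) →
      Cfsg.classInner (permChar G Ω) χ ≠ 0 → ∃ j : ℕ, χ 1 = (f : ℂ) * j :=
    fun χ h1 h2 h3 => ⟨1, by rw [hf χ h1 h2 h3, Nat.cast_one, mul_one]⟩
  have hge : ∀ q ∈ Q, f ≤ oc q := by
    intro q hq
    induction q using Quotient.inductionOn with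
    | h b =>
      have hb : b ≠ a := fun h => Finset.ne_of_mem_erase hq (by rw [h])
      have h := dvd_subdegree f hf' a b hb
      rw [← MulAction.orbitRel.Quotient.orbit_mk] at h
      exact Nat.le_of_dvd (Nat.card_pos_iff.2
        ⟨⟨⟨b, MulAction.mem_orbit_self b⟩⟩, inferInstance⟩) h
  have hmm : ∑ ψ ∈ E, m ψ ≤ ∑ ψ ∈ E, m ψ * m ψ := Finset.sum_le_sum fun ψ _ => Nat.le_mul_self _
  have hlow : f * Q.card ≤ ∑ q ∈ Q, oc q := by
    rw [mul_comm, ← smul_eq_mul]
    exact Finset.card_nsmul_le_sum Q oc f hge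
  have hfge : ∀ ψ ∈ E, m ψ ≠ 0 → 0 < f := fun ψ hψ h0 => by
    obtain ⟨d, hd, hd'⟩ := IsIrrCharacter.exists_degree ψ.2
    rw [hfd ψ hψ h0, Nat.cast_inj] at hd'
    omega
  constructor
  · intro χ hχ
    set ψ : Cfsg.IrrCharacter G := ⟨χ, hχ⟩
    show Cfsg.classInner (permChar G Ω) (ψ : G → ℂ) = 0 ∨ _ = 1
    rw [hmi]
    by_cases hpr : ψ = principal G
    · rw [hpr, hp]; simp
    have hψE : ψ ∈ E := Finset.mem_erase.2 ⟨hpr, Finset.mem_univ _⟩
    rcases Nat.eq_zero_or_pos (m ψ) with h0 | h0
    · simp [h0]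
    refine Or.inr (Nat.cast_eq_one.2 ?_)
    have hfpos := hfge ψ hψE h0.ne'
    have heq : ∑ ψ ∈ E, m ψ = ∑ ψ ∈ E, m ψ * m ψ := by
      refine le_antisymm hmm (Nat.le_of_mul_le_mul_left ?_ hfpos)
      rw [← hQc, ← hQs]
      exact hlow
    have := (Finset.sum_eq_sum_iff_of_le fun ψ _ => Nat.le_mul_self (m ψ)).1 heq ψ hψE
    exact Nat.eq_of_mul_eq_mul_left h0 (this.symm.trans (mul_one _).symm)
  · intro b hb
    let qb : MulAction.orbitRel.Quotient (MulAction.stabilizer G a) Ω := ⟦b⟧
    have hqb : qb ∈ Q := by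
      refine Finset.mem_erase.2 ⟨fun h => hb ?_, Finset.mem_univ _⟩
      obtain ⟨g, hg⟩ := Quotient.exact h
      exact hg.symm.trans g.2
    have hle : ∑ q ∈ Q, oc q ≤ ∑ q ∈ Q, f := by
      rw [hQs, Finset.sum_const, smul_eq_mul, mul_comm _ f, hQc]
      exact Nat.mul_le_mul_left f hmm
    have := (Finset.sum_eq_sum_iff_of_le hge).1 (le_antisymm (Finset.sum_le_sum hge) hle) qb hqb
    rw [← MulAction.orbitRel.Quotient.orbit_mk]
    exact this.symm

/-- An element of the centraliser ring commutes with the group. -/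
theorem equivariant_of_mem_invariants (S : (Ω → ℂ) →ₗ[ℂ] (Ω → ℂ))
    (hS : S ∈ ((Cfsg.permRep ℂ G Ω).linHom (Cfsg.permRep ℂ G Ω)).invariants) :
    Equivariant (Cfsg.permRep ℂ G Ω) (Cfsg.permRep ℂ G Ω) S := by
  intro g x
  have h := LinearMap.congr_fun ((Representation.mem_invariants _ S).1 hS g)
    (Cfsg.permRep ℂ G Ω g x)
  rw [Representation.linHom_apply, LinearMap.comp_apply, LinearMap.comp_apply,
    Representation.inv_self_apply] at h
  exact h.symm

theorem mem_invariants_of_equivariant (S : (Ω → ℂ) →ₗ[ℂ] (Ω → ℂ))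
    (hS : Equivariant (Cfsg.permRep ℂ G Ω) (Cfsg.permRep ℂ G Ω) S) :
    S ∈ ((Cfsg.permRep ℂ G Ω).linHom (Cfsg.permRep ℂ G Ω)).invariants := by
  refine (Representation.mem_invariants _ S).2 fun g => LinearMap.ext fun x => ?_
  rw [Representation.linHom_apply, LinearMap.comp_apply, LinearMap.comp_apply, hS,
    Representation.self_inv_apply]

/-- A commutative centraliser ring forces a multiplicity-free permutation character. -/
theorem multiplicity_free_of_commute
    (h : ∀ S T : (Ω → ℂ) →ₗ[ℂ] (Ω → ℂ),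
      S ∈ ((Cfsg.permRep ℂ G Ω).linHom (Cfsg.permRep ℂ G Ω)).invariants →
      T ∈ ((Cfsg.permRep ℂ G Ω).linHom (Cfsg.permRep ℂ G Ω)).invariants → S ∘ₗ T = T ∘ₗ S)
    (χ : G → ℂ) (hχ : Cfsg.IsIrrCharacter G χ) :
    Cfsg.classInner (permChar G Ω) χ = 0 ∨ Cfsg.classInner (permChar G Ω) χ = 1 := by
  classical
  obtain ⟨n, τ, hτ, rfl⟩ := hχ
  set ρ := Cfsg.permRep ℂ G Ω with hρ
  rw [← char_permRep (G := G) (Ω := Ω)]
  by_cases h0 : Cfsg.classInner ρ.character τ.character = 0
  · exact Or.inl h0
  right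
  obtain ⟨e, he, he0⟩ := exists_ne_zero_of_classInner τ ρ h0
  have hinj := injective_of_equivariant τ ρ he he0
  obtain ⟨p, hp, hpe⟩ := exists_leftInverse τ ρ he hinj
  rw [classInner_char, Nat.cast_eq_one]
  refine (finrank_eq_one_iff_of_nonzero' (e.intertwiningMap_of_isIntertwiningMap τ ρ he)
    (fun h' => he0 (congrArg Representation.IntertwiningMap.toLinearMap h'))).2 fun f => ?_
  obtain ⟨c, hc⟩ := schur_scalar τ (p ∘ₗ f.toLinearMap) fun g x => by
    show p (f.toLinearMap (τ g x)) = τ g (p (f.toLinearMap x))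
    rw [show f.toLinearMap (τ g x) = ρ g (f.toLinearMap x) from f.isIntertwining τ ρ g x, hp]
  refine ⟨c, Representation.IntertwiningMap.ext ?_⟩
  show c • e = f.toLinearMap
  set e' := f.toLinearMap - c • e with he'
  have hpe' : ∀ x, p (e' x) = 0 := fun x => by
    have := LinearMap.congr_fun hc x
    simp only [LinearMap.comp_apply, LinearMap.smul_apply, LinearMap.id_apply] at this
    simp only [he', LinearMap.sub_apply, LinearMap.smul_apply, map_sub, map_smul, hpe]
    exact sub_eq_zero.2 this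
  have he'eq : Equivariant τ ρ e' := fun g x => by
    simp only [he', LinearMap.sub_apply, LinearMap.smul_apply, map_sub, map_smul, he g x,
      show f.toLinearMap (τ g x) = ρ g (f.toLinearMap x) from f.isIntertwining τ ρ g x]
  have hcomm := h (e ∘ₗ p) (e' ∘ₗ p)
    (mem_invariants_of_equivariant _ fun g x => by
      simp only [LinearMap.comp_apply]; rw [hp g x, he g])
    (mem_invariants_of_equivariant _ fun g x => by
      simp only [LinearMap.comp_apply]; rw [hp g x, he'eq g])
  have hzero : e' = 0 := by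
    refine LinearMap.ext fun x => ?_
    have := LinearMap.congr_fun hcomm (e x)
    simp only [LinearMap.comp_apply, hpe, hpe', map_zero] at this
    exact this.symm
  exact (sub_eq_zero.1 hzero).symm

/-- The standard bilinear pairing. -/
theorem pairing_invariant (g : G) (v w : Ω → ℂ) :
    ∑ x, Cfsg.permRep ℂ G Ω g v x * Cfsg.permRep ℂ G Ω g w x = ∑ x, v x * w x :=
  Fintype.sum_equiv (MulAction.toPerm g⁻¹) _ _ fun x => rfl

/-- Pairing two irreducible constituents non-trivially forces conjugate characters. -/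
theorem char_eq_conj_of_pairing {U U' : Type w} [AddCommGroup U] [Module ℂ U] [FiniteDimensional ℂ U]
    [AddCommGroup U'] [Module ℂ U'] [FiniteDimensional ℂ U']
    (τ : Representation ℂ G U) (τ' : Representation ℂ G U') [τ.IsIrreducible] [τ'.IsIrreducible]
    {e : U →ₗ[ℂ] (Ω → ℂ)} {e' : U' →ₗ[ℂ] (Ω → ℂ)}
    (he : Equivariant τ (Cfsg.permRep ℂ G Ω) e) (he' : Equivariant τ' (Cfsg.permRep ℂ G Ω) e')
    (u : U) (u' : U') (hne : ∑ x, e u x * e' u' x ≠ 0) :
    τ'.character = fun g => conj (τ.character g) := by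
  let q : U' →ₗ[ℂ] Module.Dual ℂ U :=
    LinearMap.mk₂ ℂ (fun u' u => ∑ x, e u x * e' u' x)
      (fun a b c => by simp [mul_add, Finset.sum_add_distrib])
      (fun r a c => by simp [Finset.mul_sum, mul_left_comm])
      (fun a b c => by simp [add_mul, Finset.sum_add_distrib])
      (fun r a c => by simp [Finset.mul_sum, mul_assoc])
  have hq : Equivariant τ' τ.dual q := by
    intro g y
    refine LinearMap.ext fun z => ?_
    show ∑ x, e z x * e' (τ' g y) x = ∑ x, e (τ g⁻¹ z) x * e' y x
    rw [← pairing_invariant g (e (τ g⁻¹ z)), ← he, Representation.self_inv_apply, he' g y]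
  have hq0 : q ≠ 0 := fun h => hne (LinearMap.congr_fun (LinearMap.congr_fun h u') u)
  have h := classInner_ne_zero_of_equivariant τ' τ.dual hq hq0
  have hdual : τ.dual.character = fun g => conj (τ.character g) := by
    funext g; rw [Representation.char_dual, char_inv]
  rw [hdual] at h
  by_contra hc
  exact h (classInner_irr_of_ne (IsIrrCharacter.conj (isIrrCharacter_of_rep τ))
    (isIrrCharacter_of_rep τ') (fun hh => hc hh.symm))

theorem symmetric_of_equivariant [DecidableEq Ω]
    (hsw : ∀ a b : Ω, ∃ g : G, g • a = b ∧ g • b = a) (S : (Ω → ℂ) →ₗ[ℂ] (Ω → ℂ))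
    (hS : Equivariant (Cfsg.permRep ℂ G Ω) (Cfsg.permRep ℂ G Ω) S) (v w : Ω → ℂ) :
    ∑ x, S v x * w x = ∑ x, v x * S w x := by
  have hsym : ∀ a b : Ω, S (Pi.single b 1) a = S (Pi.single a 1) b := by
    intro a b
    obtain ⟨g, hga, hgb⟩ := hsw a b
    have h := congrFun (hS g (Pi.single a 1)) a
    rw [PermModules.permRep_single, hga, PermModules.permRep_apply,
      show g⁻¹ • a = b from inv_smul_eq_iff.2 hgb.symm] at h
    exact h
  have hexp : ∀ (u : Ω → ℂ) (x : Ω), S u x = ∑ y, u y * S (Pi.single y 1) x := by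
    intro u x
    conv_lhs => rw [pi_eq_sum_univ' u]
    simp [map_sum, Pi.single_apply]
  simp only [hexp v, hexp w, Finset.mul_sum, Finset.sum_mul]
  rw [Finset.sum_comm]
  exact Finset.sum_congr rfl fun x _ => Finset.sum_congr rfl fun y _ => by rw [hsym y x]; ring

/-- Generous transitivity is multiplicity-freeness with real constituents. -/
theorem selfPaired_iff :
    (∀ a b : Ω, ∃ g : G, g • a = b ∧ g • b = a) ↔
      ∀ χ : G → ℂ, Cfsg.IsIrrCharacter G χ → Cfsg.classInner (permChar G Ω) χ ≠ 0 →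
        Cfsg.classInner (permChar G Ω) χ = 1 ∧ ∀ g : G, conj (χ g) = χ g := by
  classical
  constructor
  · intro hsw χ hχ h0
    have hcomm : ∀ S T : (Ω → ℂ) →ₗ[ℂ] (Ω → ℂ),
        S ∈ ((Cfsg.permRep ℂ G Ω).linHom (Cfsg.permRep ℂ G Ω)).invariants →
        T ∈ ((Cfsg.permRep ℂ G Ω).linHom (Cfsg.permRep ℂ G Ω)).invariants → S ∘ₗ T = T ∘ₗ S := by
      intro S T hS hT
      have eS := equivariant_of_mem_invariants S hS
      have eT := equivariant_of_mem_invariants T hT
      refine LinearMap.ext fun v => funext fun a => ?_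
      have sST := symmetric_of_equivariant hsw (S ∘ₗ T) (fun g x => by
        simp only [LinearMap.comp_apply]; rw [eT g x, eS g]) v (Pi.single a 1)
      have sS := symmetric_of_equivariant hsw S eS v (T (Pi.single a 1))
      have sT := symmetric_of_equivariant hsw T eT (S v) (Pi.single a 1)
      have key : ∑ x, (S (T v)) x * (Pi.single a 1 : Ω → ℂ) x =
          ∑ x, (T (S v)) x * (Pi.single a 1 : Ω → ℂ) x := by
        rw [sT, sS]; exact sST
      simpa [Pi.single_apply] using key
    refine ⟨(multiplicity_free_of_commute hcomm χ hχ).resolve_left h0, fun g => ?_⟩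
    obtain ⟨n, τ, hτ, rfl⟩ := hχ
    rw [← char_permRep] at h0
    obtain ⟨e, he, he0⟩ := exists_ne_zero_of_classInner τ _ h0
    haveI : FiniteDimensional ℂ (Fin n → ℂ) := inferInstance
    have hinj := injective_of_equivariant τ _ he he0
    obtain ⟨p, hp, hpe⟩ := exists_leftInverse τ _ he hinj
    obtain ⟨u, hu⟩ : ∃ u, e u ≠ 0 := by
      by_contra hc
      push Not at hc
      exact he0 (LinearMap.ext hc)
    obtain ⟨a, ha⟩ := Function.ne_iff.1 hu
    have hsy := symmetric_of_equivariant hsw (e ∘ₗ p) (fun g x => by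
      simp only [LinearMap.comp_apply]; rw [hp g x, he g]) (e u) (Pi.single a 1)
    simp only [LinearMap.comp_apply, hpe] at hsy
    have hne : ∑ x, e u x * e (p (Pi.single a 1)) x ≠ 0 := by
      rw [← hsy]
      simpa [Pi.single_apply] using ha
    let U := ULift.{w} (Fin n → ℂ)
    let τ' : Representation ℂ G U := transport τ ULift.moduleEquiv.symm
    haveI : τ'.IsIrreducible := isIrreducible_of_equiv (transportEquiv τ ULift.moduleEquiv.symm)
    have hch : τ'.character = τ.character := character_transport _ _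
    have := char_eq_conj_of_pairing τ' τ' (e := e ∘ₗ ULift.moduleEquiv.toLinearMap)
      (e' := e ∘ₗ ULift.moduleEquiv.toLinearMap) (fun g x => he g x.down) (fun g x => he g x.down)
      ⟨u⟩ ⟨p (Pi.single a 1)⟩ hne
    rw [hch] at this
    exact (congrFun this g).symm
  · intro h a b
    set O : Set (Ω × Ω) := MulAction.orbit G (a, b) with hO
    let S : (Ω → ℂ) →ₗ[ℂ] (Ω → ℂ) := Matrix.toLin' fun x y => if (x, y) ∈ O then (1 : ℂ) else 0
    have hSapp : ∀ v x, S v x = ∑ y, (if (x, y) ∈ O then (1 : ℂ) else 0) * v y := fun v x => rfl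
    have hinv : ∀ (g : G) (x y : Ω), (g • x, g • y) ∈ O ↔ (x, y) ∈ O := by
      intro g x y
      rw [show (g • x, g • y) = g • (x, y) from rfl, hO]
      constructor
      · rintro ⟨h, hh⟩
        exact ⟨g⁻¹ * h, (mul_smul g⁻¹ h (a, b)).trans
          (by rw [show h • (a, b) = g • (x, y) from hh, inv_smul_smul])⟩
      · rintro ⟨h, hh⟩
        exact ⟨g * h, (mul_smul g h (a, b)).trans (by rw [show h • (a, b) = (x, y) from hh])⟩
    have hS : Equivariant (Cfsg.permRep ℂ G Ω) (Cfsg.permRep ℂ G Ω) S := by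
      intro g v
      funext x
      rw [PermModules.permRep_apply, hSapp, hSapp]
      exact Fintype.sum_equiv (MulAction.toPerm g⁻¹) _ _ fun y => by
        simp only [PermModules.permRep_apply, MulAction.toPerm_apply, hinv]
    let Q : (Ω → ℂ) →ₗ[ℂ] (Ω → ℂ) →ₗ[ℂ] ℂ :=
      LinearMap.mk₂ ℂ (fun v w => ∑ x, S v x * w x - ∑ x, v x * S w x)
        (fun u v w => by simp [add_mul, Finset.sum_add_distrib]; ring)
        (fun r u v => by simp [Finset.mul_sum, mul_assoc, mul_sub])
        (fun u v w => by simp [mul_add, Finset.sum_add_distrib]; ring)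
        (fun r u v => by simp [Finset.mul_sum, mul_left_comm, mul_sub])
    have hQ : Q = 0 := by
      refine ext_irr (Cfsg.permRep ℂ G Ω) Q 0 fun U _ _ _ τ _ e he he0 => ?_
      refine LinearMap.ext fun u => ext_irr (Cfsg.permRep ℂ G Ω) (Q (e u)) 0
        fun U' _ _ _ τ' _ e' he' he0' => LinearMap.ext fun u' => ?_
      show ∑ x, S (e u) x * e' u' x - ∑ x, e u x * S (e' u') x = 0
      have hτ := h _ (isIrrCharacter_of_rep τ)
        (char_permRep (G := G) (Ω := Ω) ▸ classInner_ne_zero_of_equivariant τ _ he he0)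
      have hτ' := h _ (isIrrCharacter_of_rep τ')
        (char_permRep (G := G) (Ω := Ω) ▸ classInner_ne_zero_of_equivariant τ' _ he' he0')
      rw [← char_permRep] at hτ hτ'
      obtain ⟨c, hc⟩ := exists_smul_of_classInner_le_one τ _ (Or.inr hτ.1) he he0 (e' := S ∘ₗ e)
        (fun g x => by simp only [LinearMap.comp_apply]; rw [he g x, hS g])
      obtain ⟨d, hd⟩ := exists_smul_of_classInner_le_one τ' _ (Or.inr hτ'.1) he' he0' (e' := S ∘ₗ e')
        (fun g x => by simp only [LinearMap.comp_apply]; rw [he' g x, hS g])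
      rw [show S (e u) = c • e u from LinearMap.congr_fun hc u,
        show S (e' u') = d • e' u' from LinearMap.congr_fun hd u']
      simp only [Pi.smul_apply, smul_eq_mul, mul_assoc, mul_left_comm _ d, ← Finset.mul_sum, ← sub_mul]
      by_cases hne : ∑ x, e u x * e' u' x = 0
      · rw [hne, mul_zero]
      have hcc : τ'.character = τ.character := by
        rw [char_eq_conj_of_pairing τ τ' he he' u u' hne]
        exact funext hτ.2
      obtain ⟨φ⟩ := nonempty_equiv_of_char_eq τ τ' hcc.symm
      have heq : Equivariant τ (Cfsg.permRep ℂ G Ω) (e' ∘ₗ φ.toLinearEquiv.toLinearMap) := fun g x => by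
        show e' (φ.toLinearEquiv (τ g x)) = _
        rw [show φ.toLinearEquiv (τ g x) = τ' g (φ.toLinearEquiv x) from
          φ.toIntertwiningMap.isIntertwining τ τ' g x, he' g]
        rfl
      obtain ⟨s, hs⟩ := exists_smul_of_classInner_le_one τ _ (Or.inr hτ.1) he he0 heq
      obtain ⟨z, rfl⟩ := φ.toLinearEquiv.surjective u'
      have hz : e' (φ.toLinearEquiv z) = s • e z := LinearMap.congr_fun hs z
      have h1 : d • e' (φ.toLinearEquiv z) = c • e' (φ.toLinearEquiv z) := by
        rw [← show S (e' (φ.toLinearEquiv z)) = d • e' (φ.toLinearEquiv z) from LinearMap.congr_fun hd _,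
          hz, map_smul, show S (e z) = c • e z from LinearMap.congr_fun hc z, smul_comm]
      have hne0 : e' (φ.toLinearEquiv z) ≠ 0 := fun h0 => hne (Finset.sum_eq_zero fun x _ => by
        show e u x * e' (φ.toLinearEquiv z) x = 0
        rw [h0]; simp)
      rw [smul_left_injective ℂ hne0 h1, sub_self, zero_mul]
    have key : ∑ x, S (Pi.single b (1 : ℂ)) x * (Pi.single a 1 : Ω → ℂ) x -
        ∑ x, (Pi.single b (1 : ℂ) : Ω → ℂ) x * S (Pi.single a 1) x = 0 :=
      LinearMap.congr_fun (LinearMap.congr_fun hQ (Pi.single b 1)) (Pi.single a 1)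
    have hab : (a, b) ∈ O := MulAction.mem_orbit_self (a, b)
    simp [hSapp, Pi.single_apply, hab] at key
    have hba : (b, a) ∈ O := by
      by_contra hc
      rw [Finset.sum_eq_zero fun x _ => by
        split_ifs with h1 h2
        · exact absurd (h2 ▸ h1) hc
        all_goals rfl, sub_zero] at key
      exact one_ne_zero key
    obtain ⟨g, hg⟩ := hba
    exact ⟨g, congrArg Prod.fst hg, congrArg Prod.snd hg⟩

end perm


end Cfsg.Agent.CharPerm
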