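import Mathlib.GroupTheory.GroupAction.ConjAct
import Mathlib.GroupTheory.GroupAction.Quotient
import Mathlib.Data.Fintype.Card
import Mathlib.SetTheory.Cardinal.Finite
import Mathlib.GroupTheory.Index
import Mathlib.Data.Set.Card
import Mathlib.Algebra.Order.BigOperators.Group.Finset

/-! A lower bound for a class of a transitive permutation group from its members fixing one point. -/

set_option autoImplicit false

namespace Cfsg.Agent.FixedConj

theorem conjugatesOf_card {G : Type*} [Group G] [Finite G] (s : G) :
    (conjugatesOf s).ncard * Nat.card (Subgroup.centralizer ({s} : Set G)) = Nat.card G := by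
  have h := Subgroup.index_mul_card (MulAction.stabilizer (ConjAct G) s)
  rw [MulAction.index_stabilizer, ConjAct.stabilizer_eq_centralizer] at h
  rw [show conjugatesOf s = MulAction.orbit (ConjAct G) s from Set.ext fun x =>
    (ConjAct.mem_orbit_conjAct.trans isConj_comm).symm]
  exact h

/-- `n` points, `m` conjugates fixing one of them, `f` fixed points each. -/
theorem mul_le_fixed {G : Type*} [Group G] [Finite G] {n : ℕ} [MulAction G (Fin n)]
    [MulAction.IsPretransitive G (Fin n)] (s : G) (p : Fin n) (L : Finset G)
    (hL : ∀ u ∈ L, IsConj s u ∧ u • p = p) :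
    n * L.card ≤ (conjugatesOf s).ncard * Nat.card {q : Fin n // s • q = q} := by
  classical
  have : Fintype G := Fintype.ofFinite G
  set Cl : Finset G := (conjugatesOf s).toFinset with hCl
  have hfix : ∀ u ∈ Cl, (Finset.univ.filter fun q : Fin n => u • q = q).card = Nat.card {q : Fin n // s • q = q} := by
    intro u hu
    rw [hCl, Set.mem_toFinset, conjugatesOf, Set.mem_setOf_eq, isConj_iff] at hu
    obtain ⟨g, rfl⟩ := hu
    rw [← Fintype.card_subtype, ← Nat.card_eq_fintype_card]
    refine Nat.card_congr ((MulAction.toPerm g⁻¹).subtypeEquiv fun q => ?_)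
    simp only [MulAction.toPerm_apply, mul_smul]
    constructor
    · intro h
      conv_rhs => rw [← h]
      rw [inv_smul_smul]
    · intro h
      rw [h, smul_inv_smul]
  calc n * L.card = (Finset.univ : Finset (Fin n)).sum fun _ => L.card := by simp
    _ ≤ (Finset.univ : Finset (Fin n)).sum fun q => (Cl.filter fun u => u • q = q).card := by
        refine Finset.sum_le_sum fun q _ => ?_
        obtain ⟨g, hg⟩ := MulAction.exists_smul_eq G p q
        refine Finset.card_le_card_of_injOn (fun u => g * u * g⁻¹) (fun u hu => ?_)
          (fun a _ b _ h => mul_left_cancel (mul_right_cancel h))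
        obtain ⟨hc, hp⟩ := hL u hu
        refine Finset.mem_filter.2 ⟨?_, ?_⟩
        · rw [hCl, Set.mem_toFinset, conjugatesOf, Set.mem_setOf_eq]
          exact hc.trans (isConj_iff.2 ⟨g, rfl⟩)
        · rw [← hg, mul_smul, mul_smul, inv_smul_smul, hp]
    _ = Cl.sum fun u => (Finset.univ.filter fun q : Fin n => u • q = q).card := by
        simp only [Finset.card_filter]
        exact Finset.sum_comm
    _ = _ := by
        rw [Finset.sum_congr rfl hfix, Finset.sum_const, smul_eq_mul, Set.ncard_eq_toFinset_card']

end Cfsg.Agent.FixedConj
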