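/-
Abelian Sylow subgroups of symmetric and alternating groups: automiser parity.
-/
import Mathlib

set_option autoImplicit false

namespace Cfsg.Agent.PermAbSylow

open Subgroup

section General

variable {G : Type*} [Group G] [Finite G] {p : ℕ} [Fact p.Prime]

theorem index_eq_card_range (H : Subgroup G) :
    ((centralizer (H : Set G)).subgroupOf (normalizer (H : Set G))).index =
      Nat.card H.normalizerMonoidHom.range := by
  rw [← normalizerMonoidHom_ker]
  exact index_ker _

/-- If an element of an abelian Sylow subgroup is conjugate to its distinct inverse, the automiser has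
even order. -/
theorem two_dvd_index (P : Sylow p G) [IsMulCommutative (P : Subgroup G)] {x : G} (hx : x ∈ P)
    (hne : x⁻¹ ≠ x) (hconj : IsConj x x⁻¹) :
    2 ∣ ((centralizer ((P : Subgroup G) : Set G)).subgroupOf
      (normalizer ((P : Subgroup G) : Set G))).index := by
  obtain ⟨g, hg⟩ := isConj_iff.1 hconj
  have hg' : g⁻¹⁻¹ * x * g⁻¹ = x⁻¹ := by rw [inv_inv]; exact hg
  obtain ⟨n, hn, hnx⟩ := P.conj_eq_normalizer_conj_of_mem x g⁻¹ hx
    (by rw [hg']; exact inv_mem hx)
  rw [hg'] at hnx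
  have hnx' : n * x * n⁻¹ = x⁻¹ := by
    have : n * x⁻¹ * n⁻¹ = x := by rw [hnx]; group
    calc n * x * n⁻¹ = (n * x⁻¹ * n⁻¹)⁻¹ := by group
      _ = x⁻¹ := by rw [this]
  rw [index_eq_card_range]
  by_contra h2
  set a : MulAut (P : Subgroup G) := (P : Subgroup G).normalizerMonoidHom ⟨n, hn⟩ with ha
  have hax : a ⟨x, hx⟩ = ⟨x, hx⟩⁻¹ := Subtype.ext hnx'
  have ham : a ^ Nat.card (P : Subgroup G).normalizerMonoidHom.range = 1 := by
    have h := pow_card_eq_one' (x := (⟨a, ⟨n, hn⟩, rfl⟩ :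
      (P : Subgroup G).normalizerMonoidHom.range))
    simpa using congrArg Subtype.val h
  obtain ⟨k, hk⟩ := Nat.odd_iff.2 (Nat.two_dvd_ne_zero.1 h2)
  have heven : ∀ j : ℕ, (a ^ (2 * j)) ⟨x, hx⟩ = ⟨x, hx⟩ := by
    intro j
    induction j with
    | zero => rfl
    | succ j ih =>
      rw [Nat.mul_succ, add_comm, pow_add, MulAut.mul_apply, ih, pow_two, MulAut.mul_apply, hax,
        map_inv, hax, inv_inv]
  rw [hk, pow_succ', ] at ham
  have h1 : (a * a ^ (2 * k)) ⟨x, hx⟩ = ⟨x, hx⟩ := by rw [ham]; rfl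
  rw [MulAut.mul_apply, heven, hax] at h1
  exact hne (congrArg Subtype.val h1)

theorem commute_of_isPGroup (P : Sylow p G) [IsMulCommutative (P : Subgroup G)] {H : Subgroup G}
    (hH : IsPGroup p H) {a b : G} (ha : a ∈ H) (hb : b ∈ H) : Commute a b := by
  obtain ⟨Q, hQ⟩ := hH.exists_le_sylow
  obtain ⟨g, rfl⟩ := MulAction.exists_smul_eq G P Q
  have key : ∀ c ∈ ((g • P : Sylow p G) : Subgroup G), g⁻¹ * c * g ∈ P := by
    intro c hc
    rw [Sylow.coe_subgroup_smul, Subgroup.mem_pointwise_smul_iff_inv_smul_mem] at hc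
    have : g⁻¹ * c * g ∈ (P : Subgroup G) := by simpa [MulAut.smul_def] using hc
    exact this
  have hc : (g⁻¹ * a * g) * (g⁻¹ * b * g) = (g⁻¹ * b * g) * (g⁻¹ * a * g) :=
    setLike_mul_comm (key a (hQ ha)) (key b (hQ hb))
  have := congrArg (fun t => g * t * g⁻¹) hc
  simpa [Commute, SemiconjBy, mul_assoc] using this

omit [Finite G] in
theorem isPGroup_zpowers {a : G} {k : ℕ} (ha : a ^ p ^ k = 1) : IsPGroup p (zpowers a) := by
  rintro ⟨y, m, rfl⟩
  refine ⟨k, Subtype.ext ?_⟩
  show (a ^ m) ^ p ^ k = 1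
  rw [← zpow_natCast, ← zpow_mul, mul_comm, zpow_mul, zpow_natCast, ha, one_zpow]

theorem isPGroup_dihedral {a b : G} {k : ℕ} (ha : a ^ 2 ^ k = 1) (hb : b ^ 2 = 1)
    (hab : b * a * b⁻¹ = a⁻¹) : IsPGroup 2 (zpowers b ⊔ zpowers a : Subgroup G) := by
  refine IsPGroup.to_sup_of_normal_right' (isPGroup_zpowers (k := 1) (by simpa using hb))
    (isPGroup_zpowers ha) ?_
  rw [zpowers_le, mem_normalizer_iff]
  have hy : ∀ y ∈ zpowers a, b * y * b⁻¹ ∈ zpowers a := by
    rintro y ⟨m, rfl⟩
    rw [show b * a ^ m * b⁻¹ = (b * a * b⁻¹) ^ m from (conj_zpow).symm, hab, inv_zpow']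
    exact ⟨-m, rfl⟩
  have hbi : b⁻¹ = b := inv_eq_of_mul_eq_one_right (by rw [← pow_two, hb])
  intro y
  refine ⟨hy y, fun h => ?_⟩
  have := hy _ h
  rw [hbi] at this
  have hbb : b * b = 1 := by rw [← pow_two, hb]
  simpa [← mul_assoc, hbb, mul_assoc y] using this

omit [Finite G] in
theorem exists_inv_ne (hp : p ≠ 2) {x : G} (hx : orderOf x = p) : x⁻¹ ≠ x := by
  intro h
  have hd : orderOf x ∣ 2 := orderOf_dvd_of_pow_eq_one (by rw [pow_two]; nth_rewrite 1 [← h]; simp)
  rw [hx] at hd
  exact hp ((Nat.prime_dvd_prime_iff_eq Fact.out Nat.prime_two).1 hd)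

theorem exists_conj_mem (P : Sylow p G) {c : G} (hc : orderOf c = p) :
    ∃ g : G, g * c * g⁻¹ ∈ P := by
  obtain ⟨Q, hQ⟩ := (isPGroup_zpowers (p := p) (a := c) (k := 1)
    (by rw [pow_one, ← hc]; exact pow_orderOf_eq_one c)).exists_le_sylow
  obtain ⟨g, hg⟩ := MulAction.exists_smul_eq G Q P
  refine ⟨g, ?_⟩
  rw [← hg]
  exact ⟨c, hQ (mem_zpowers c), rfl⟩

end General

theorem perm_inv_isConj {n : ℕ} (c : Equiv.Perm (Fin n)) : IsConj c c⁻¹ :=
  Equiv.Perm.isConj_iff_cycleType_eq.2 (Equiv.Perm.cycleType_inv c).symm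

theorem exists_alt_cycle {n p : ℕ} [Fact p.Prime] (hp : p ≠ 2) (h : p ≤ n) :
    ∃ c : alternatingGroup (Fin n), orderOf c = p ∧ (c : Equiv.Perm (Fin n)).cycleType = {p} := by
  obtain ⟨c, hc⟩ := (Equiv.Perm.exists_with_cycleType_iff (α := Fin n) (m := ({p} : Multiset ℕ))).2
    ⟨by simpa using h, by simpa using (Fact.out : p.Prime).two_le⟩
  refine ⟨⟨c, ?_⟩, ?_, hc⟩
  · rw [Equiv.Perm.mem_alternatingGroup, Equiv.Perm.sign_of_cycleType, hc]
    simp only [Multiset.sum_singleton, Multiset.card_singleton]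
    exact Even.neg_one_pow (((Fact.out : p.Prime).odd_of_ne_two hp).add_odd odd_one)
  · rw [← Subgroup.orderOf_coe]
    show orderOf c = p
    rw [← Equiv.Perm.lcm_cycleType, hc]
    simp

theorem sylow_cyclic_of_lt {n p : ℕ} [Fact p.Prime] (hp : p ≠ 2) (h : n < p + 2)
    {G : Type*} [Group G] [Finite G] (hG : Nat.card G ∣ n.factorial) (P : Sylow p G) :
    IsCyclic (P : Subgroup G) := by
  have hp' : p.Prime := Fact.out
  have h3 : 3 ≤ p := by have := hp'.two_le; omega
  obtain ⟨k, hk⟩ := P.2.exists_card_eq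
  have hk1 : k ≤ 1 := by
    by_contra hk2
    have hd : p ^ 2 ∣ n.factorial :=
      (pow_dvd_pow p (show 2 ≤ k by omega)).trans (hk ▸ (Subgroup.card_subgroup_dvd_card _).trans hG)
    rw [hp'.pow_dvd_factorial_iff (b := 2) (Nat.log_lt_of_lt_pow' (by norm_num) (by nlinarith))] at hd
    simp only [show Finset.Ico 1 2 = {1} from rfl, Finset.sum_singleton, pow_one] at hd
    have : n / p < 2 := Nat.div_lt_of_lt_mul (by omega)
    omega
  interval_cases k
  · haveI : Subsingleton (P : Subgroup G) := (Nat.card_eq_one_iff_unique.1 (by simpa using hk)).1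
    infer_instance
  · exact isCyclic_of_prime_card (p := p) (by simpa using hk)

theorem alt_odd {n p : ℕ} [Fact p.Prime] (hp : p ≠ 2) (P : Sylow p (alternatingGroup (Fin n)))
    [IsMulCommutative (P : Subgroup (alternatingGroup (Fin n)))] :
    2 ∣ ((centralizer ((P : Subgroup (alternatingGroup (Fin n))) : Set (alternatingGroup (Fin n)))).subgroupOf
      (normalizer ((P : Subgroup (alternatingGroup (Fin n))) : Set (alternatingGroup (Fin n))))).index ∨
      IsCyclic (P : Subgroup (alternatingGroup (Fin n))) := by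
  by_cases hn : n < p + 2
  · refine Or.inr (sylow_cyclic_of_lt hp hn ?_ P)
    have := (alternatingGroup (Fin n)).card_subgroup_dvd_card
    rwa [Nat.card_perm, Nat.card_fin] at this
  · left
    obtain ⟨c, hc, hct⟩ := exists_alt_cycle (n := n) hp (by omega)
    obtain ⟨g, hg⟩ := exists_conj_mem P hc
    refine two_dvd_index P hg (exists_inv_ne hp ?_) ?_
    · rw [← hc]
      exact (MulAut.conj g).orderOf_eq c
    · refine alternatingGroup.isConj_of (perm_inv_isConj _) ?_
      rw [← Equiv.Perm.sum_cycleType]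
      have : ((g * c * g⁻¹ : alternatingGroup (Fin n)) : Equiv.Perm (Fin n)).cycleType = {p} := by
        push_cast
        rw [Equiv.Perm.cycleType_conj, hct]
      rw [this, Multiset.sum_singleton, Fintype.card_fin]
      omega

theorem alt_two {n : ℕ} (hn : 6 ≤ n) (P : Sylow 2 (alternatingGroup (Fin n))) :
    ¬ IsMulCommutative (P : Subgroup (alternatingGroup (Fin n))) := by
  intro _
  let f : Fin 6 ≃ {i : Fin n // (i : ℕ) < 6} :=
    { toFun := fun i => ⟨⟨i, lt_of_lt_of_le i.2 hn⟩, i.2⟩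
      invFun := fun j => ⟨j.1.1, j.2⟩
      left_inv := fun _ => rfl
      right_inv := fun _ => rfl }
  let φ := Equiv.Perm.extendDomainHom f
  let a₀ : Equiv.Perm (Fin 6) := Equiv.swap 0 1 * Equiv.swap 1 2 * Equiv.swap 2 3 * Equiv.swap 4 5
  let b₀ : Equiv.Perm (Fin 6) := Equiv.swap 0 2 * Equiv.swap 4 5
  have hsign : ∀ e : Equiv.Perm (Fin 6), Equiv.Perm.sign e = 1 → φ e ∈ alternatingGroup (Fin n) := by
    intro e he
    rw [Equiv.Perm.mem_alternatingGroup]
    exact (Equiv.Perm.sign_extendDomain e f).trans he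
  have ha : Equiv.Perm.sign a₀ = 1 := by decide
  have hb : Equiv.Perm.sign b₀ = 1 := by decide
  let a : alternatingGroup (Fin n) := ⟨φ a₀, hsign _ ha⟩
  let b : alternatingGroup (Fin n) := ⟨φ b₀, hsign _ hb⟩
  have h4 : a ^ 2 ^ 2 = 1 := Subtype.ext (by
    show φ a₀ ^ (2 ^ 2) = 1
    rw [← map_pow, show a₀ ^ (2 ^ 2) = 1 by decide, map_one])
  have h2 : b ^ 2 = 1 := Subtype.ext (by
    show φ b₀ ^ 2 = 1
    rw [← map_pow, show b₀ ^ 2 = 1 by decide, map_one])
  have hab : b * a * b⁻¹ = a⁻¹ := Subtype.ext (by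
    show φ b₀ * φ a₀ * (φ b₀)⁻¹ = (φ a₀)⁻¹
    rw [← map_inv, ← map_inv, ← map_mul, ← map_mul, show b₀ * a₀ * b₀⁻¹ = a₀⁻¹ by decide])
  have hc := commute_of_isPGroup P (isPGroup_dihedral h4 h2 hab)
    (mem_sup_right (mem_zpowers a)) (mem_sup_left (mem_zpowers b))
  have h' : φ (a₀ * b₀) = φ (b₀ * a₀) :=
    (map_mul φ a₀ b₀).trans ((congrArg Subtype.val hc.eq).trans (map_mul φ b₀ a₀).symm)
  exact absurd (Equiv.Perm.extendDomainHom_injective f h') (by decide)

theorem alt_five (P : Sylow 2 (alternatingGroup (Fin 5)))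
    [IsMulCommutative (P : Subgroup (alternatingGroup (Fin 5)))] :
    ((centralizer ((P : Subgroup (alternatingGroup (Fin 5))) : Set (alternatingGroup (Fin 5)))).subgroupOf
      (normalizer ((P : Subgroup (alternatingGroup (Fin 5))) : Set (alternatingGroup (Fin 5))))).index = 3 ∧
      IsKleinFour (P : Subgroup (alternatingGroup (Fin 5))) := by
  have h60 : Nat.card (alternatingGroup (Fin 5)) = 60 := by
    rw [nat_card_alternatingGroup, Nat.card_fin]; rfl
  obtain ⟨k, hk⟩ := P.2.exists_card_eq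
  have hk2 : k ≤ 2 := by
    by_contra h
    have : 2 ^ 3 ∣ 60 := (pow_dvd_pow 2 (show 3 ≤ k by omega)).trans
      (h60 ▸ hk ▸ Subgroup.card_subgroup_dvd_card _)
    norm_num at this
  have h4 : 4 ∣ Nat.card (P : Subgroup (alternatingGroup (Fin 5))) :=
    P.pow_dvd_card_of_pow_dvd_card (n := 2) (by rw [h60]; norm_num)
  have hcard : Nat.card (P : Subgroup (alternatingGroup (Fin 5))) = 4 := by
    refine le_antisymm ?_ (Nat.le_of_dvd Nat.card_pos h4)
    rw [hk]; exact Nat.pow_le_pow_right (by norm_num) hk2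
  have key : ∀ g : Equiv.Perm (Fin 5), Equiv.Perm.sign g = 1 → g * g * (g * g) = 1 → g * g = 1 := by
    decide +kernel
  have hexp : ∀ y : (P : Subgroup (alternatingGroup (Fin 5))), y ^ 2 = 1 := by
    intro y
    have h := pow_card_eq_one' (x := y)
    rw [hcard] at h
    have hh : ((y.1 : Equiv.Perm (Fin 5)))^4 = 1 := by
      simpa using congrArg (fun t : (P : Subgroup (alternatingGroup (Fin 5))) =>
        (t.1 : Equiv.Perm (Fin 5))) h
    apply Subtype.ext; apply Subtype.ext
    show ((y.1 : Equiv.Perm (Fin 5)))^2 = 1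
    rw [pow_two]
    refine key _ (Equiv.Perm.mem_alternatingGroup.1 y.1.2) ?_
    rw [← hh, pow_succ, pow_succ, pow_two]; group
  haveI : Nontrivial (P : Subgroup (alternatingGroup (Fin 5))) :=
    Finite.one_lt_card_iff_nontrivial.1 (by omega)
  have hK : IsKleinFour (P : Subgroup (alternatingGroup (Fin 5))) :=
    ⟨hcard, Monoid.exponent_eq_prime_iff Nat.prime_two |>.2 fun y hy =>
      orderOf_eq_prime (hexp y) hy⟩
  refine ⟨?_, hK⟩
  have hodd : ¬ 2 ∣ ((centralizer ((P : Subgroup (alternatingGroup (Fin 5))) : Set (alternatingGroup (Fin 5)))).subgroupOf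
      (normalizer ((P : Subgroup (alternatingGroup (Fin 5))) : Set (alternatingGroup (Fin 5))))).index := by
    intro h
    refine P.not_dvd_index (h.trans (Dvd.dvd.trans ?_
      (relIndex_dvd_index_of_le (le_normalizer (H := (P : Subgroup (alternatingGroup (Fin 5))))))))
    exact index_dvd_of_le (fun x hx => (P : Subgroup (alternatingGroup (Fin 5))).le_centralizer hx)
  have h6 : ((centralizer ((P : Subgroup (alternatingGroup (Fin 5))) : Set (alternatingGroup (Fin 5)))).subgroupOf
      (normalizer ((P : Subgroup (alternatingGroup (Fin 5))) : Set (alternatingGroup (Fin 5))))).index ∣ 6 := by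
    rw [index_eq_card_range]
    refine (Subgroup.card_subgroup_dvd_card _).trans ?_
    let ψ : MulAut (P : Subgroup (alternatingGroup (Fin 5))) →*
        Equiv.Perm {y : (P : Subgroup (alternatingGroup (Fin 5))) // y ≠ 1} :=
      { toFun := fun a => (a : _ ≃* _).toEquiv.subtypeEquiv fun y => by simp
        map_one' := by ext; rfl
        map_mul' := fun _ _ => by ext; rfl }
    have hψ : Function.Injective ψ := by
      intro a b hab
      refine MulEquiv.ext fun y => ?_
      by_cases hy : y = 1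
      · subst hy; simp
      · exact congrArg Subtype.val (Equiv.congr_fun hab ⟨y, hy⟩)
    refine (Subgroup.card_dvd_of_injective ψ hψ).trans ?_
    have h3 : Nat.card {y : (P : Subgroup (alternatingGroup (Fin 5))) // y ≠ 1} = 3 := by
      classical
      haveI := Fintype.ofFinite (P : Subgroup (alternatingGroup (Fin 5)))
      rw [Nat.card_eq_fintype_card, Fintype.card_subtype_compl, Fintype.card_subtype_eq,
        ← Nat.card_eq_fintype_card, hcard]
    rw [Nat.card_perm, h3]
    rfl
  have h1 : ((centralizer ((P : Subgroup (alternatingGroup (Fin 5))) : Set (alternatingGroup (Fin 5)))).subgroupOf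
      (normalizer ((P : Subgroup (alternatingGroup (Fin 5))) : Set (alternatingGroup (Fin 5))))).index ≠ 1 := by
    intro h
    have hle : normalizer ((P : Subgroup (alternatingGroup (Fin 5))) : Set (alternatingGroup (Fin 5))) ≤
        centralizer ((P : Subgroup (alternatingGroup (Fin 5))) : Set (alternatingGroup (Fin 5))) :=
      subgroupOf_eq_top.1 (index_eq_one.1 h)
    have hc := MonoidHom.ker_transferSylow_isComplement' P hle
    have hmul := hc.card_mul
    rw [hcard, h60] at hmul
    rcases (inferInstance : (MonoidHom.transferSylow P hle).ker.Normal).eq_bot_or_eq_top with hb | hb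
    · rw [hb, Subgroup.card_bot] at hmul; omega
    · rw [hb, Subgroup.card_top, h60] at hmul; omega
  have hle := Nat.le_of_dvd (by norm_num) h6
  generalize ((centralizer ((P : Subgroup (alternatingGroup (Fin 5))) : Set (alternatingGroup (Fin 5)))).subgroupOf
      (normalizer ((P : Subgroup (alternatingGroup (Fin 5))) : Set (alternatingGroup (Fin 5))))).index = m at *
  interval_cases m <;> omega

end Cfsg.Agent.PermAbSylow
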