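import Cfsg.Agent.Lib.Perm.AutAlternating

/-!
An automorphism of an alternating group preserving the 3-cycles is induced by a permutation
(the argument of `bijective_conjNormal`, valid for degree 6 as well).
-/

set_option autoImplicit false

open Equiv

namespace Cfsg.Agent.AutAlt

theorem mem_range_of_threeCycle {n : ℕ} (h4 : 4 ≤ n) (φ : MulAut ↥(alternatingGroup (Fin n)))
    (hφ : ∀ g : alternatingGroup (Fin n), (g : Perm (Fin n)).IsThreeCycle → ((φ g : _) : Perm (Fin n)).IsThreeCycle) :
    ∃ σ : Perm (Fin n), MulAut.conjNormal σ = φ := by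
  have avoid : ∀ s : Finset (Fin n), s.card ≤ 3 → ∃ c, c ∉ s := by
    intro s hs
    by_contra hcon; push Not at hcon
    have := Finset.card_le_card (show Finset.univ ⊆ s from fun x _ => hcon x)
    rw [Finset.card_univ, Fintype.card_fin] at this
    omega
  -- surjectivity
  obtain ⟨a, b, hab⟩ : ∃ a b : Fin n, a ≠ b := ⟨⟨0, by omega⟩, ⟨1, by omega⟩, by simp [Fin.ext_iff]⟩
  let I := {i : Fin n // i ≠ a ∧ i ≠ b}
  let T : I → alternatingGroup (Fin n) := fun i =>
    ⟨c3 a b i.1, (c3_isThreeCycle hab (Ne.symm i.2.1) (Ne.symm i.2.2)).mem_alternatingGroup⟩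
  let S : I → Perm (Fin n) := fun i => (φ (T i) : Perm (Fin n))
  have hS3 : ∀ i, (S i).IsThreeCycle := fun i =>
    hφ _ (c3_isThreeCycle hab (Ne.symm i.2.1) (Ne.symm i.2.2))
  have hprod : ∀ i j : I, i ≠ j → S i * S j * (S i * S j) = 1 ∧ S i * S j ≠ 1 := by
    intro i j hij
    have hij' : i.1 ≠ j.1 := fun e => hij (Subtype.ext e)
    have e1 : (T i : Perm (Fin n)) * T j = swap a i.1 * swap b j.1 := by
      show c3 a b i.1 * c3 a b j.1 = _
      ext q
      congr 1
      simp only [Perm.mul_apply]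
      by_cases qa : q = a
      · subst qa
        rw [c3_apply_left hab (Ne.symm j.2.1), c3_apply_mid (Ne.symm i.2.1) (Ne.symm i.2.2),
          swap_apply_of_ne_of_ne hab (Ne.symm j.2.1), swap_apply_left]
      by_cases qb : q = b
      · subst qb
        rw [c3_apply_mid (Ne.symm j.2.1) (Ne.symm j.2.2), c3_apply_other j.2.1 j.2.2 (Ne.symm hij'),
          swap_apply_left, swap_apply_of_ne_of_ne j.2.1 (Ne.symm hij')]
      by_cases qj : q = j.1
      · rw [qj, c3_apply_right, c3_apply_left hab (Ne.symm i.2.1), swap_apply_right,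
          swap_apply_of_ne_of_ne (Ne.symm hab) (Ne.symm i.2.2)]
      rw [c3_apply_other qa qb qj]
      by_cases qi : q = i.1
      · rw [qi, c3_apply_right, swap_apply_of_ne_of_ne i.2.2 hij', swap_apply_right]
      rw [c3_apply_other qa qb qi, swap_apply_of_ne_of_ne qb qj, swap_apply_of_ne_of_ne qa qi]
    have hsq : (T i * T j) * (T i * T j) = 1 := by
      apply Subtype.ext
      simp only [Subgroup.coe_mul, Subgroup.coe_one, e1]
      have hcomm : swap a i.1 * swap b j.1 = swap b j.1 * swap a i.1 := by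
        refine (Perm.Disjoint.commute fun q => ?_).eq
        by_cases qa : q = a
        · exact Or.inr (by subst qa; exact swap_apply_of_ne_of_ne hab (Ne.symm j.2.1))
        by_cases qi : q = i.1
        · exact Or.inr (by subst qi; exact swap_apply_of_ne_of_ne i.2.2 hij')
        exact Or.inl (swap_apply_of_ne_of_ne qa qi)
      rw [mul_assoc, ← mul_assoc (swap b j.1), ← hcomm, mul_assoc (swap a i.1) (swap b j.1), swap_mul_self, mul_one,
        swap_mul_self]
    constructor
    · have := congrArg (fun x => ((φ x : alternatingGroup (Fin n)) : Perm (Fin n))) hsq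
      simpa [S, map_mul] using this
    · intro h
      have h' : φ (T i * T j) = 1 := Subtype.ext (by simpa [S, map_mul] using h)
      have h'' := congrArg Subtype.val (φ.map_eq_one_iff.mp h')
      rw [Subgroup.coe_mul, e1, Subgroup.coe_one] at h''
      have := Equiv.ext_iff.mp h'' a
      rw [Perm.mul_apply, swap_apply_of_ne_of_ne hab (Ne.symm j.2.1), swap_apply_left, Perm.one_apply] at this
      exact i.2.1 this
  obtain ⟨i0, hi0⟩ := avoid {a, b} (Finset.card_le_two.trans (by norm_num))
  obtain ⟨i1, hi1⟩ := avoid {a, b, i0} Finset.card_le_three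
  simp only [Finset.mem_insert, Finset.mem_singleton, not_or] at hi0 hi1
  let I0 : I := ⟨i0, hi0⟩
  let I1 : I := ⟨i1, hi1.1, hi1.2.1⟩
  have h01 : I0 ≠ I1 := fun e => hi1.2.2 (congrArg Subtype.val e).symm
  obtain ⟨x, y, z, w, hxy, hxz, hyz, hxw, hyw, hzw, es, et⟩ :=
    exists_edge (hS3 I0) (hS3 I1) (hprod I0 I1 h01).1 (hprod I0 I1 h01).2
  -- every image maps `x` to `y`
  have hall : ∀ j, S j x = y := by
    intro j
    by_cases j0 : j = I0
    · subst j0; rw [es, c3_apply_left hxy hxz]
    by_cases j1 : j = I1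
    · subst j1; rw [et, c3_apply_left hxy hxw]
    have key : ∀ i, j ≠ i → ∃ p, S j p = S i p ∧ S i p ≠ p := fun i hji => by
      obtain ⟨p, q, z', w', hpq, hpz, hqz, hpw, hqw, -, ej, ei⟩ :=
        exists_edge (hS3 j) (hS3 i) (hprod j i hji).1 (hprod j i hji).2
      exact ⟨p, by rw [ej, ei, c3_apply_left hpq hpz, c3_apply_left hpq hpw],
        by rw [ei, c3_apply_left hpq hpw]; exact hpq.symm⟩
    obtain ⟨p, hp, hpm⟩ := key I0 j0
    obtain ⟨q, hq, hqm⟩ := key I1 j1
    rw [es] at hp hpm
    rw [et] at hq hqm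
    have hpc : p = x ∨ p = y ∨ p = z := by
      by_contra hcon; push Not at hcon; exact hpm (c3_apply_other hcon.1 hcon.2.1 hcon.2.2)
    have hqc : q = x ∨ q = y ∨ q = w := by
      by_contra hcon; push Not at hcon; exact hqm (c3_apply_other hcon.1 hcon.2.1 hcon.2.2)
    have hj3 : ∀ q, S j (S j (S j q)) = q := fun q => by
      have h3 : (S j) ^ 3 = 1 := by rw [← (hS3 j).orderOf, pow_orderOf_eq_one]
      have := Equiv.ext_iff.mp h3 q
      simpa [pow_succ, Perm.mul_apply] using this
    rcases hpc with rfl | rfl | rfl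
    · rw [hp, c3_apply_left hxy hxz]
    all_goals rcases hqc with rfl | rfl | rfl
    · rw [hq, c3_apply_left hxy hxw]
    · rw [c3_apply_mid hxz hyz] at hp
      rw [c3_apply_mid hxw hyw] at hq
      exact absurd (hp.symm.trans hq) hzw
    · rw [c3_apply_mid hxz hyz] at hp
      rw [c3_apply_right] at hq
      -- `y ↦ z`, `w ↦ x`: four moved points
      obtain ⟨e, d1, d2, d3⟩ := eq_c3 (hS3 j) (show S j p ≠ p by rw [hp]; exact hyz.symm)
      have hwm : S j q ≠ q := by rw [hq]; exact hxw
      rw [e, hp] at hwm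
      have : q = S j z ∧ True := ⟨by
        by_contra h'
        exact hwm (c3_apply_other hyw.symm hzw.symm (fun e' => h' e')), trivial⟩
      have e' := hj3 p
      rw [hp, ← this.1, hq] at e'
      exact absurd e' hxy
    · rw [hq, c3_apply_left hxy hxw]
    · rw [c3_apply_right] at hp
      rw [c3_apply_mid hxw hyw] at hq
      obtain ⟨e, d1, d2, d3⟩ := eq_c3 (hS3 j) (show S j p ≠ p by rw [hp]; exact hxz)
      have hym : S j q ≠ q := by rw [hq]; exact hyw.symm
      rw [e, hp] at hym
      have : q = S j x := by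
        by_contra h'
        exact hym (c3_apply_other hyz hxy.symm (fun e' => h' e'))
      exact this.symm
    · rw [c3_apply_right] at hp hq
      exact absurd ((S j).injective (hp.trans hq.symm)) hzw
  -- the permutation
  have hxm : ∀ j, S j x ≠ x := fun j => by rw [hall j]; exact hxy.symm
  let f : Fin n → Fin n := fun i =>
    if hi : i ≠ a ∧ i ≠ b then S ⟨i, hi⟩ y else if i = a then x else y
  have hfa : f a = x := by simp [f]
  have hfb : f b = y := by simp [f, Ne.symm hab]
  have hSj : ∀ j : I, S j = c3 x y (f j.1) ∧ x ≠ f j.1 ∧ y ≠ f j.1 := fun j => by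
    obtain ⟨e, d1, d2, d3⟩ := eq_c3 (hS3 j) (hxm j)
    have hfj : f j.1 = S j y := by simp [f, j.2.1, j.2.2]
    rw [hall j] at e d2 d3
    rw [hfj]; exact ⟨e, d2, d3⟩
  have hf : Function.Injective f := by
    intro i j hij
    by_cases hi : i ≠ a ∧ i ≠ b
    · obtain ⟨ei, ix, iy⟩ := hSj ⟨i, hi⟩
      by_cases hj : j ≠ a ∧ j ≠ b
      · obtain ⟨ej, jx, jy⟩ := hSj ⟨j, hj⟩
        have : S ⟨i, hi⟩ = S ⟨j, hj⟩ := by rw [ei, ej]; simp only at *; rw [hij]
        have h' := congrArg Subtype.val (φ.injective (Subtype.ext this : φ (T ⟨i, hi⟩) = φ (T ⟨j, hj⟩)))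
        have h'' := Equiv.ext_iff.mp h' b
        simp only [T] at h''
        rwa [c3_apply_mid (Ne.symm hi.1) (Ne.symm hi.2), c3_apply_mid (Ne.symm hj.1) (Ne.symm hj.2)] at h''
      · rcases not_and_or.mp hj with e | e <;> push Not at e <;> subst e
        · rw [hfa] at hij; exact absurd hij.symm ix
        · rw [hfb] at hij; exact absurd hij.symm iy
    · by_cases hj : j ≠ a ∧ j ≠ b
      · obtain ⟨ej, jx, jy⟩ := hSj ⟨j, hj⟩
        rcases not_and_or.mp hi with e | e <;> push Not at e <;> subst e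
        · rw [hfa] at hij; exact absurd hij jx
        · rw [hfb] at hij; exact absurd hij jy
      · rcases not_and_or.mp hi with e | e <;> push Not at e <;> subst e <;>
          rcases not_and_or.mp hj with e | e <;> push Not at e <;> subst e <;> simp_all
  let σ : Perm (Fin n) := Equiv.ofBijective f (Finite.injective_iff_bijective.mp hf)
  refine ⟨σ, ?_⟩
  let K : Subgroup (alternatingGroup (Fin n)) := MonoidHom.eqLocus (MulAut.conjNormal σ).toMonoidHom φ.toMonoidHom
  have hgen : alternatingGroup (Fin n) ≤ K.map (alternatingGroup (Fin n)).subtype := by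
    refine closure_edge hab _ fun i hia hib => ⟨T ⟨i, hia, hib⟩, ?_, rfl⟩
    show MulAut.conjNormal σ (T ⟨i, hia, hib⟩) = φ (T ⟨i, hia, hib⟩)
    apply Subtype.ext
    rw [MulAut.conjNormal_apply, conj_c3]
    show c3 (f a) (f b) (f i) = _
    rw [hfa, hfb, ← (hSj ⟨i, hia, hib⟩).1]
  refine MulEquiv.ext fun g => ?_
  obtain ⟨g', hg', e⟩ := hgen g.2
  rw [← Subtype.ext (e : ((g' : _) : Perm (Fin n)) = g)]
  exact hg'


end Cfsg.Agent.AutAlt
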