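import Mathlib

/-!
# Sharply multiply transitive groups (Jordan, Hall, Tits): the possible degrees

A sharply 4-transitive group on a set, not assumed finite, has degree 4, 5, 6 or 11.
-/

set_option autoImplicit false

namespace Cfsg.Agent.SharpFour

open MulAction

variable {G Ω : Type*} [Group G] [MulAction G Ω]

/-- Sharply `k`-transitive. -/
structure SharpK (G Ω : Type*) [Group G] [MulAction G Ω] (k : ℕ) : Prop where
  trans : IsMultiplyPretransitive G Ω k
  sharp : ∀ x : Fin k ↪ Ω, stabilizer G x = ⊥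

/-- The embedding given by four distinct points. -/
def quad {a b c d : Ω} (hab : a ≠ b) (hac : a ≠ c) (had : a ≠ d) (hbc : b ≠ c) (hbd : b ≠ d)
    (hcd : c ≠ d) : Fin 4 ↪ Ω where
  toFun := ![a, b, c, d]
  inj' := by
    intro i j h
    fin_cases i <;> fin_cases j <;> simp_all [eq_comm]

theorem exists_quad (hS : SharpK G Ω 4) {a b c d a' b' c' d' : Ω} (hab : a ≠ b) (hac : a ≠ c)
    (had : a ≠ d) (hbc : b ≠ c) (hbd : b ≠ d) (hcd : c ≠ d) (hab' : a' ≠ b') (hac' : a' ≠ c')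
    (had' : a' ≠ d') (hbc' : b' ≠ c') (hbd' : b' ≠ d') (hcd' : c' ≠ d') :
    ∃ g : G, g • a = a' ∧ g • b = b' ∧ g • c = c' ∧ g • d = d' := by
  obtain ⟨g, hg⟩ := hS.trans.exists_smul_eq (quad hab hac had hbc hbd hcd)
    (quad hab' hac' had' hbc' hbd' hcd')
  refine ⟨g, ?_, ?_, ?_, ?_⟩
  · exact congrArg (fun e : Fin 4 ↪ Ω => e 0) hg
  · exact congrArg (fun e : Fin 4 ↪ Ω => e 1) hg
  · exact congrArg (fun e : Fin 4 ↪ Ω => e 2) hg
  · exact congrArg (fun e : Fin 4 ↪ Ω => e 3) hg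

theorem eq_one_quad (hS : SharpK G Ω 4) {a b c d : Ω} (hab : a ≠ b) (hac : a ≠ c) (had : a ≠ d)
    (hbc : b ≠ c) (hbd : b ≠ d) (hcd : c ≠ d) {g : G} (h1 : g • a = a) (h2 : g • b = b)
    (h3 : g • c = c) (h4 : g • d = d) : g = 1 := by
  rw [← Subgroup.mem_bot, ← hS.sharp (quad hab hac had hbc hbd hcd), mem_stabilizer_iff]
  ext i
  fin_cases i <;> assumption

theorem eq_quad (hS : SharpK G Ω 4) {a b c d : Ω} (hab : a ≠ b) (hac : a ≠ c) (had : a ≠ d)
    (hbc : b ≠ c) (hbd : b ≠ d) (hcd : c ≠ d) {g k : G} (h1 : g • a = k • a) (h2 : g • b = k • b)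
    (h3 : g • c = k • c) (h4 : g • d = k • d) : g = k := by
  refine (inv_mul_eq_one.1 (eq_one_quad hS (g := k⁻¹ * g) hab hac had hbc hbd hcd ?_ ?_ ?_ ?_)).symm
    <;> rw [mul_smul, inv_smul_eq_iff] <;> assumption

/-- The set-up: two points, and the involution `u` exchanging them and fixing two others. -/
structure Frame (G Ω : Type*) [Group G] [MulAction G Ω] where
  hS : SharpK G Ω 4
  p1 : Ω
  p2 : Ω
  p3 : Ω
  p4 : Ω
  d12 : p1 ≠ p2
  d13 : p1 ≠ p3
  d14 : p1 ≠ p4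
  d23 : p2 ≠ p3
  d24 : p2 ≠ p4
  d34 : p3 ≠ p4
  u : G
  u1 : u • p1 = p2
  u2 : u • p2 = p1
  u3 : u • p3 = p3
  u4 : u • p4 = p4

namespace Frame

variable (F : Frame G Ω)

theorem uu (x : Ω) : F.u • F.u • x = x := by
  have h : F.u * F.u = 1 := eq_one_quad F.hS F.d12 F.d13 F.d14 F.d23 F.d24 F.d34
    (by rw [mul_smul, F.u1, F.u2]) (by rw [mul_smul, F.u2, F.u1])
    (by rw [mul_smul, F.u3, F.u3]) (by rw [mul_smul, F.u4, F.u4])
  rw [← mul_smul, h, one_smul]

/-- Fixes the two base points and commutes with `u`. -/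
def Good (h : G) : Prop :=
  h • F.p1 = F.p1 ∧ h • F.p2 = F.p2 ∧ ∀ x : Ω, h • F.u • x = F.u • h • x

theorem fix_four {a b c d : Ω} (hab : a ≠ b) (hac : a ≠ c) (had : a ≠ d) (hbc : b ≠ c) (hbd : b ≠ d)
    (hcd : c ≠ d) (ha : F.u • a = a) (hb : F.u • b = b) (hc : F.u • c = c) (hd : F.u • d = d) :
    False := by
  have := eq_one_quad F.hS hab hac had hbc hbd hcd ha hb hc hd
  have h := F.u1
  rw [this, one_smul] at h
  exact F.d12 h

theorem moved {x : Ω} (hx : F.u • x ≠ x) (h1 : x ≠ F.p1) (h2 : x ≠ F.p2) :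
    F.p1 ≠ F.u • x ∧ F.p2 ≠ F.u • x := by
  refine ⟨fun e => h2 ?_, fun e => h1 ?_⟩
  · rw [← F.uu x, ← e, F.u1]
  · rw [← F.uu x, ← e, F.u2]

/-- An element fixing the base points and exchanging `x` and `u x`. -/
theorem exists_swap {x : Ω} (hx : F.u • x ≠ x) (h1 : x ≠ F.p1) (h2 : x ≠ F.p2) :
    ∃ h : G, F.Good h ∧ h • x = F.u • x ∧ (∀ y : Ω, h • h • y = y) := by
  obtain ⟨m1, m2⟩ := F.moved hx h1 h2
  obtain ⟨h, e1, e2, e3, e4⟩ := exists_quad F.hS F.d12 h1.symm m1 h2.symm m2 hx.symm F.d12 m1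
    h1.symm m2 h2.symm hx
  refine ⟨h, ⟨e1, e2, ?_⟩, e3, ?_⟩
  · have e : h * F.u = F.u * h := by
      refine eq_quad F.hS F.d12 h1.symm m1 h2.symm m2 hx.symm ?_ ?_ ?_ ?_ <;> simp only [mul_smul]
      · rw [F.u1, e2, e1, F.u1]
      · rw [F.u2, e1, e2, F.u2]
      · rw [e4, e3, F.uu]
      · rw [F.uu, e3, e4]
    intro z
    rw [← mul_smul, e, mul_smul]
  · have e : h * h = 1 := by
      refine eq_one_quad F.hS F.d12 h1.symm m1 h2.symm m2 hx.symm ?_ ?_ ?_ ?_ <;>
        simp only [mul_smul, e1, e2, e3, e4]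
    intro y
    rw [← mul_smul, e, one_smul]

/-- Two good elements agreeing on two points fixed by `u` are equal. -/
theorem good_eq {h k : G} (hh : F.Good h) (hk : F.Good k) (e3 : h • F.p3 = k • F.p3)
    (e4 : h • F.p4 = k • F.p4) : h = k :=
  eq_quad F.hS F.d12 F.d13 F.d14 F.d23 F.d24 F.d34 (hh.1.trans hk.1.symm) (hh.2.1.trans hk.2.1.symm)
    e3 e4

theorem good_fixed {h : G} (hh : F.Good h) {x : Ω} (hx : F.u • x = x) :
    F.u • h • x = h • x := by rw [← hh.2.2, hx]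

/-- The degree when `u` fixes only two points. -/
theorem two_fixed (hf : ∀ x, F.u • x = x → x = F.p3 ∨ x = F.p4) :
    Finite Ω ∧ (Nat.card Ω = 4 ∨ Nat.card Ω = 6) := by
  classical
  obtain ⟨v, v1, v2, v3, v4⟩ := exists_quad F.hS F.d12 F.d13 F.d14 F.d23 F.d24 F.d34
    F.d12 F.d14 F.d13 F.d24 F.d23 F.d34.symm
  let R : Set Ω := {x | x ≠ F.p1 ∧ x ≠ F.p2 ∧ x ≠ F.p3 ∧ x ≠ F.p4}
  have hRu : ∀ x ∈ R, F.u • x ≠ x := fun x hx e =>
    (hf x e).elim hx.2.2.1 hx.2.2.2
  have hgood : F.Good v := by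
    refine ⟨v1, v2, fun z => ?_⟩
    have e : v * F.u = F.u * v := by
      refine eq_quad F.hS F.d12 F.d13 F.d14 F.d23 F.d24 F.d34 ?_ ?_ ?_ ?_ <;> simp only [mul_smul]
      · rw [F.u1, v2, v1, F.u1]
      · rw [F.u2, v1, v2, F.u2]
      · rw [F.u3, v3, F.u4]
      · rw [F.u4, v4, F.u3]
    rw [← mul_smul, e, mul_smul]
  -- every further point is fixed by `u v`
  have hw : ∀ x ∈ R, (F.u * v) • x = x := by
    intro x hx
    obtain ⟨h, hh, hhx, hh2⟩ := F.exists_swap (hRu x hx) hx.1 hx.2.1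
    have hhv : h = v := by
      have k3 := hf _ (F.good_fixed hh F.u3)
      have k4 := hf _ (F.good_fixed hh F.u4)
      rcases k3 with k3 | k3
      · exfalso
        have k4' : h • F.p4 = F.p4 := k4.resolve_left fun e =>
          F.d34 (MulAction.injective h (k3.trans e.symm))
        have h1 := eq_one_quad F.hS F.d12 F.d13 F.d14 F.d23 F.d24 F.d34 hh.1 hh.2.1 k3 k4'
        rw [h1, one_smul] at hhx
        exact hRu x hx hhx.symm
      · have k4' : h • F.p4 = F.p3 := k4.resolve_right fun e =>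
          F.d34 (MulAction.injective h (k3.trans e.symm))
        exact F.good_eq hh hgood (k3.trans v3.symm) (k4'.trans v4.symm)
    rw [mul_smul, ← hhv, hhx, F.uu]
  have hRcl : ∀ x ∈ R, F.u • x ∈ R := fun x hx =>
    ⟨fun e => hx.2.1 (by rw [← F.uu x, e, F.u1]), fun e => hx.1 (by rw [← F.uu x, e, F.u2]),
      fun e => hx.2.2.1 (by rw [← F.uu x, e, F.u3]), fun e => hx.2.2.2 (by rw [← F.uu x, e, F.u4])⟩
  by_cases hne : ∃ x, x ∈ R
  · obtain ⟨x, hx⟩ := hne
    let s : Finset Ω := {F.p1, F.p2, F.p3, F.p4, x, F.u • x}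
    have hall : ∀ y, y ∈ s := by
      intro y
      by_contra hy
      simp only [s, Finset.mem_insert, Finset.mem_singleton, not_or] at hy
      have hyR : y ∈ R := ⟨hy.1, hy.2.1, hy.2.2.1, hy.2.2.2.1⟩
      have hne' : F.u * v ≠ 1 := fun e => F.d12.symm (by
        have := F.u1
        calc F.p2 = F.u • v • F.p1 := by rw [v1, F.u1]
          _ = F.p1 := by rw [← mul_smul, e, one_smul])
      apply hne'
      refine eq_one_quad F.hS (a := x) (b := F.u • x) (c := y) (d := F.u • y) (hRu x hx).symm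
        (Ne.symm hy.2.2.2.2.1) (fun e => hy.2.2.2.2.2 (by rw [e, F.uu]))
        (Ne.symm hy.2.2.2.2.2)
        (fun e => hy.2.2.2.2.1 (MulAction.injective F.u e).symm) (hRu y hyR).symm
        (hw x hx) (hw _ (hRcl x hx)) (hw y hyR) (hw _ (hRcl y hyR))
    have : Fintype Ω := ⟨s, hall⟩
    refine ⟨inferInstance, Or.inr ?_⟩
    obtain ⟨q1, q2, q3, q4⟩ := hRcl x hx
    rw [Nat.card_eq_fintype_card, ← Finset.card_univ, ← Finset.eq_univ_iff_forall.2 hall]
    simp [s, F.d12, F.d13, F.d14, F.d23, F.d24, F.d34, Ne.symm hx.1, Ne.symm hx.2.1,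
      Ne.symm hx.2.2.1, Ne.symm hx.2.2.2, Ne.symm q1, Ne.symm q2, Ne.symm q3, Ne.symm q4,
      (hRu x hx).symm]
  · let s : Finset Ω := {F.p1, F.p2, F.p3, F.p4}
    have hall : ∀ y, y ∈ s := by
      intro y
      by_contra hy
      simp only [s, Finset.mem_insert, Finset.mem_singleton, not_or] at hy
      exact hne ⟨y, hy⟩
    have : Fintype Ω := ⟨s, hall⟩
    refine ⟨inferInstance, Or.inl ?_⟩
    rw [Nat.card_eq_fintype_card, ← Finset.card_univ, ← Finset.eq_univ_iff_forall.2 hall]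
    simp [s, F.d12, F.d13, F.d14, F.d23, F.d24, F.d34]

set_option maxHeartbeats 2000000 in
/-- The degree when `u` fixes a third point. -/
theorem three_fixed {p5 : Ω} (h5 : F.u • p5 = p5) (d35 : F.p3 ≠ p5) (d45 : F.p4 ≠ p5) :
    Finite Ω ∧ (Nat.card Ω = 5 ∨ Nat.card Ω = 11) := by
  classical
  have d15 : F.p1 ≠ p5 := fun e => F.d12 (by rw [← F.u1, e, h5])
  have d25 : F.p2 ≠ p5 := fun e => F.d12.symm (by rw [← F.u2, e, h5])
  have hfix : ∀ x, F.u • x = x → x = F.p3 ∨ x = F.p4 ∨ x = p5 := by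
    intro x hx
    by_contra hc
    simp only [not_or] at hc
    exact F.fix_four F.d34 d35 (Ne.symm hc.1) d45 (Ne.symm hc.2.1) (Ne.symm hc.2.2) F.u3 F.u4 h5 hx
  -- good elements with prescribed images of two fixed points
  have hpair : ∀ i j : Ω, F.u • i = i → F.u • j = j → i ≠ j →
      ∃ h, F.Good h ∧ h • F.p3 = i ∧ h • F.p4 = j := by
    intro i j hi hj hij
    have n1i : F.p1 ≠ i := fun e => F.d12 (by rw [← F.u1, e, hi])
    have n2i : F.p2 ≠ i := fun e => F.d12.symm (by rw [← F.u2, e, hi])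
    have n1j : F.p1 ≠ j := fun e => F.d12 (by rw [← F.u1, e, hj])
    have n2j : F.p2 ≠ j := fun e => F.d12.symm (by rw [← F.u2, e, hj])
    obtain ⟨h, e1, e2, e3, e4⟩ := exists_quad F.hS F.d12 F.d13 F.d14 F.d23 F.d24 F.d34
      F.d12 n1i n1j n2i n2j hij
    refine ⟨h, ⟨e1, e2, fun z => ?_⟩, e3, e4⟩
    have e : h * F.u = F.u * h := by
      refine eq_quad F.hS F.d12 F.d13 F.d14 F.d23 F.d24 F.d34 ?_ ?_ ?_ ?_ <;> simp only [mul_smul]
      · rw [F.u1, e2, e1, F.u1]
      · rw [F.u2, e1, e2, F.u2]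
      · rw [F.u3, e3, hi]
      · rw [F.u4, e4, hj]
    rw [← mul_smul, e, mul_smul]
  obtain ⟨v, hv, v3, v4⟩ := hpair F.p4 F.p3 F.u4 F.u3 F.d34.symm
  obtain ⟨t, ht, t3, t4⟩ := hpair F.p4 p5 F.u4 h5 d45
  have v5 : v • p5 = p5 := by
    rcases hfix _ (F.good_fixed hv h5) with e | e | e
    · exact absurd (MulAction.injective v (e.trans v4.symm)) d45.symm
    · exact absurd (MulAction.injective v (e.trans v3.symm)) d35.symm
    · exact e
  have t5 : t • p5 = F.p3 := by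
    rcases hfix _ (F.good_fixed ht h5) with e | e | e
    · exact e
    · exact absurd (MulAction.injective t (e.trans t3.symm)) d35.symm
    · exact absurd (MulAction.injective t (e.trans t4.symm)) d45.symm
  let R : Set Ω := {x | x ≠ F.p1 ∧ x ≠ F.p2 ∧ F.u • x ≠ x}
  have hRcl : ∀ x ∈ R, F.u • x ∈ R := fun x hx =>
    ⟨(F.moved hx.2.2 hx.1 hx.2.1).1.symm, (F.moved hx.2.2 hx.1 hx.2.1).2.symm,
      fun e => hx.2.2 (MulAction.injective F.u e)⟩
  have hRt : ∀ x ∈ R, t • x ∈ R := fun x hx =>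
    ⟨fun e => hx.1 (MulAction.injective t (e.trans ht.1.symm)),
      fun e => hx.2.1 (MulAction.injective t (e.trans ht.2.1.symm)),
      fun e => hx.2.2 (MulAction.injective t (show t • F.u • x = t • x by rw [ht.2.2, e]))⟩
  -- `A`: the pairs exchanged by `v`
  let A : Set Ω := {x | x ∈ R ∧ v • x = F.u • x}
  have hAu : ∀ x ∈ A, F.u • x ∈ A := fun x hx => ⟨hRcl x hx.1, by rw [hv.2.2, hx.2]⟩
  have hAw : ∀ x ∈ A, (F.u * v) • x = x := fun x hx => by rw [mul_smul, hx.2, F.uu]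
  have hw5 : (F.u * v) • p5 = p5 := by rw [mul_smul, v5, h5]
  have hw1 : F.u * v ≠ 1 := fun e => F.d12.symm (by
    calc F.p2 = F.u • v • F.p1 := by rw [hv.1, F.u1]
      _ = F.p1 := by rw [← mul_smul, e, one_smul])
  have hA : ∀ x ∈ A, ∀ y ∈ A, y = x ∨ y = F.u • x := by
    intro x hx y hy
    by_contra hc
    simp only [not_or] at hc
    have n5 : ∀ z ∈ A, p5 ≠ z := fun z hz e => hz.1.2.2 (by rw [← e, h5])
    exact hw1 (eq_one_quad F.hS (n5 x hx) (n5 _ (hAu x hx)) (n5 y hy) hx.1.2.2.symm (Ne.symm hc.1)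
      (Ne.symm hc.2) hw5 (hAw x hx) (hAw _ (hAu x hx)) (hAw y hy))
  -- every point of `R` is a translate of one of `A`
  have hcover : ∀ x ∈ R, ∃ a ∈ A, x = a ∨ x = t • a ∨ x = t • t • a := by
    intro x hx
    obtain ⟨h, hh, hhx, hh2⟩ := F.exists_swap hx.2.2 hx.1 hx.2.1
    -- conjugates of `h` by powers of `t`
    have key : ∀ (s : G), F.Good s → (h • s • F.p3 = s • F.p4) → (h • s • F.p4 = s • F.p3) →
        s⁻¹ • x ∈ A := by
      intro s hs k3 k4
      have hsu : ∀ z : Ω, s⁻¹ • F.u • z = F.u • s⁻¹ • z := fun z => by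
        rw [inv_smul_eq_iff, hs.2.2, smul_inv_smul]
      have e : s * v = h * s := by
        refine eq_quad F.hS F.d12 F.d13 F.d14 F.d23 F.d24 F.d34 ?_ ?_ ?_ ?_ <;>
          simp only [mul_smul]
        · rw [hv.1, hs.1, hh.1]
        · rw [hv.2.1, hs.2.1, hh.2.1]
        · rw [v3, k3]
        · rw [v4, k4]
      refine ⟨⟨fun e' => hx.1 ?_, fun e' => hx.2.1 ?_, fun e' => hx.2.2 ?_⟩, ?_⟩
      · rw [inv_smul_eq_iff, hs.1] at e'; exact e'
      · rw [inv_smul_eq_iff, hs.2.1] at e'; exact e'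
      · rw [← hsu] at e'; exact MulAction.injective s⁻¹ e'
      · apply MulAction.injective s
        show s • v • s⁻¹ • x = s • F.u • s⁻¹ • x
        rw [← mul_smul s v, e, mul_smul, smul_inv_smul, hhx, hs.2.2, smul_inv_smul]
    have g3 := hfix _ (F.good_fixed hh F.u3)
    have g4 := hfix _ (F.good_fixed hh F.u4)
    have ne34 : h • F.p3 ≠ h • F.p4 := fun e => F.d34 (MulAction.injective h e)
    rcases g3 with g3 | g3 | g3
    · -- `h` fixes `p3`, so exchanges `p4` and `p5`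
      have g4' : h • F.p4 = p5 := by
        rcases g4 with g4 | g4 | g4
        · exact absurd (g3.trans g4.symm) ne34
        · exfalso
          have h1 := eq_one_quad F.hS F.d12 F.d13 F.d14 F.d23 F.d24 F.d34 hh.1 hh.2.1 g3 g4
          rw [h1, one_smul] at hhx
          exact hx.2.2 hhx.symm
        · exact g4
      refine ⟨t⁻¹ • x, key t ht ?_ ?_, Or.inr (Or.inl (smul_inv_smul t x).symm)⟩
      · rw [t3, g4', t4]
      · rw [t4, t3, ← g4', hh2]
    · -- `h` exchanges `p3` and `p4`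
      refine ⟨x, ?_, Or.inl rfl⟩
      have g4' : h • F.p4 = F.p3 := by rw [← g3, hh2]
      have h1 : h = v := F.good_eq hh hv (g3.trans v3.symm) (g4'.trans v4.symm)
      exact ⟨hx, by rw [← h1, hhx]⟩
    · -- `h` exchanges `p3` and `p5`
      have g5 : h • p5 = F.p3 := by rw [← g3, hh2]
      refine ⟨t⁻¹ • t⁻¹ • x, ?_, Or.inr (Or.inr (by simp))⟩
      have hgood : F.Good (t * t) := ⟨by rw [mul_smul, ht.1, ht.1],
        by rw [mul_smul, ht.2.1, ht.2.1], fun z => by simp only [mul_smul, ht.2.2]⟩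
      have := key (t * t) hgood (by rw [mul_smul, mul_smul, t3, t4, t5, g5])
        (by rw [mul_smul, mul_smul, t4, t5, t3, t4, g3])
      rwa [mul_inv_rev, mul_smul] at this
  by_cases hne : ∃ a, a ∈ A
  · obtain ⟨a, ha⟩ := hne
    have hta : t • a ∈ R := hRt a ha.1
    have htta : t • t • a ∈ R := hRt _ hta
    let s : Finset Ω :=
      {F.p1, F.p2, F.p3, F.p4, p5, a, F.u • a, t • a, t • F.u • a, t • t • a, t • t • F.u • a}
    have hall : ∀ y, y ∈ s := by
      intro y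
      by_cases hy : y ∈ R
      · obtain ⟨b, hb, hyb⟩ := hcover y hy
        rcases hA a ha b hb with rfl | rfl <;> rcases hyb with rfl | rfl | rfl <;>
          simp [s]
      · by_cases y1 : y = F.p1
        · simp [s, y1]
        by_cases y2 : y = F.p2
        · simp [s, y2]
        have : F.u • y = y := by
          by_contra h
          exact hy ⟨y1, y2, h⟩
        rcases hfix y this with rfl | rfl | rfl <;> simp [s]
    have : Fintype Ω := ⟨s, hall⟩
    refine ⟨inferInstance, Or.inr ?_⟩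
    rw [Nat.card_eq_fintype_card, ← Finset.card_univ, ← Finset.eq_univ_iff_forall.2 hall]
    -- the three pairs are disjoint
    have hfp : ∀ z ∈ R, F.p1 ≠ z ∧ F.p2 ≠ z ∧ F.p3 ≠ z ∧ F.p4 ≠ z ∧ p5 ≠ z := fun z hz =>
      ⟨Ne.symm hz.1, Ne.symm hz.2.1, fun e => hz.2.2 (by rw [← e, F.u3]),
        fun e => hz.2.2 (by rw [← e, F.u4]), fun e => hz.2.2 (by rw [← e, h5])⟩
    have hnot : ∀ z ∈ A, t • z ∉ A ∧ t • t • z ∉ A := by
      have key : ∀ (c : G), F.Good c → ∀ z ∈ A, c • z ∈ A → c * v = v * c := by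
        intro c hc z hz hcz
        have hzu : z ≠ F.u • z := hz.1.2.2.symm
        obtain ⟨m1, m2⟩ := F.moved hz.1.2.2 hz.1.1 hz.1.2.1
        refine eq_quad F.hS F.d12 (Ne.symm hz.1.1) m1 (Ne.symm hz.1.2.1) m2 hzu ?_ ?_ ?_ ?_ <;>
          simp only [mul_smul]
        · rw [hv.1, hc.1, hv.1]
        · rw [hv.2.1, hc.2.1, hv.2.1]
        · rw [hz.2, hc.2.2, ← hcz.2]
        · rw [hv.2.2, hz.2, F.uu, hc.2.2, hv.2.2, hcz.2, F.uu]
      have hgood : F.Good (t * t) := ⟨by rw [mul_smul, ht.1, ht.1],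
        by rw [mul_smul, ht.2.1, ht.2.1], fun z => by simp only [mul_smul, ht.2.2]⟩
      intro z hz
      refine ⟨fun h => ?_, fun h => ?_⟩
      · have e := congrArg (fun g : G => g • F.p3) (key t ht z hz h)
        simp only [mul_smul, v3, t3, t4, v4] at e
        exact d35.symm e
      · have e := congrArg (fun g : G => g • F.p3) (key (t * t) hgood z hz (by rwa [mul_smul]))
        simp only [mul_smul, v3, t3, t4, t5, v5] at e
        exact d35 e
    have hua := hAu a ha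
    obtain ⟨q1, q2⟩ := hnot a ha
    obtain ⟨r1, r2⟩ := hnot _ hua
    have a_ua : a ≠ F.u • a := ha.1.2.2.symm
    have n1 : a ≠ t • a := fun e => q1 (e ▸ ha)
    have n2 : a ≠ t • F.u • a := fun e => r1 (e ▸ ha)
    have n3 : a ≠ t • t • a := fun e => q2 (e ▸ ha)
    have n4 : a ≠ t • t • F.u • a := fun e => r2 (e ▸ ha)
    have n5 : F.u • a ≠ t • a := fun e => q1 (e ▸ hua)
    have n6 : F.u • a ≠ t • F.u • a := fun e => r1 (e ▸ hua)
    have n7 : F.u • a ≠ t • t • a := fun e => q2 (e ▸ hua)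
    have n8 : F.u • a ≠ t • t • F.u • a := fun e => r2 (e ▸ hua)
    have inj := MulAction.injective (β := Ω) t
    obtain ⟨f1, f2, f3, f4, f5⟩ := hfp _ ha.1
    obtain ⟨g1, g2, g3, g4, g5⟩ := hfp _ hua.1
    obtain ⟨i1, i2, i3, i4, i5⟩ := hfp _ hta
    obtain ⟨j1, j2, j3, j4, j5⟩ := hfp _ (hRt _ hua.1)
    obtain ⟨k1, k2, k3, k4, k5⟩ := hfp _ htta
    obtain ⟨l1, l2, l3, l4, l5⟩ := hfp _ (hRt _ (hRt _ hua.1))
    simp [s, F.d12, F.d13, F.d14, F.d23, F.d24, F.d34, d15, d25, d35, d45, f1, f2, f3, f4, f5,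
      g1, g2, g3, g4, g5, i1, i2, i3, i4, i5, j1, j2, j3, j4, j5, k1, k2, k3, k4, k5,
      l1, l2, l3, l4, l5, a_ua, n1, n2, n3, n4, n5, n6, n7, n8, inj.eq_iff]
  · let s : Finset Ω := {F.p1, F.p2, F.p3, F.p4, p5}
    have hall : ∀ y, y ∈ s := by
      intro y
      by_cases y1 : y = F.p1
      · simp [s, y1]
      by_cases y2 : y = F.p2
      · simp [s, y2]
      by_cases hy : F.u • y = y
      · rcases hfix y hy with rfl | rfl | rfl <;> simp [s]
      · obtain ⟨b, hb, -⟩ := hcover y ⟨y1, y2, hy⟩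
        exact absurd ⟨b, hb⟩ hne
    have : Fintype Ω := ⟨s, hall⟩
    refine ⟨inferInstance, Or.inl ?_⟩
    rw [Nat.card_eq_fintype_card, ← Finset.card_univ, ← Finset.eq_univ_iff_forall.2 hall]
    simp [s, F.d12, F.d13, F.d14, F.d23, F.d24, F.d34, d15, d25, d35, d45]

end Frame

/-- **Jordan–Hall–Tits**: the degree of a sharply 4-transitive group. -/
theorem degree_four (hS : SharpK G Ω 4) (hne : Nonempty (Fin 4 ↪ Ω)) :
    Finite Ω ∧ (Nat.card Ω = 4 ∨ Nat.card Ω = 5 ∨ Nat.card Ω = 6 ∨ Nat.card Ω = 11) := by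
  obtain ⟨e⟩ := hne
  have d : ∀ i j : Fin 4, i ≠ j → e i ≠ e j := fun i j h h' => h (e.injective h')
  obtain ⟨u, u1, u2, u3, u4⟩ := exists_quad hS (d 0 1 (by decide)) (d 0 2 (by decide))
    (d 0 3 (by decide)) (d 1 2 (by decide)) (d 1 3 (by decide)) (d 2 3 (by decide))
    (d 1 0 (by decide)) (d 1 2 (by decide)) (d 1 3 (by decide)) (d 0 2 (by decide))
    (d 0 3 (by decide)) (d 2 3 (by decide))
  let F : Frame G Ω :=
    { hS := hS, p1 := e 0, p2 := e 1, p3 := e 2, p4 := e 3, d12 := d 0 1 (by decide),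
      d13 := d 0 2 (by decide), d14 := d 0 3 (by decide), d23 := d 1 2 (by decide),
      d24 := d 1 3 (by decide), d34 := d 2 3 (by decide), u := u, u1 := u1, u2 := u2, u3 := u3,
      u4 := u4 }
  by_cases h : ∀ x, F.u • x = x → x = F.p3 ∨ x = F.p4
  · exact (F.two_fixed h).imp_right fun h => h.elim Or.inl fun h => Or.inr (Or.inr (Or.inl h))
  · simp only [not_forall, not_or] at h
    obtain ⟨x, hx, h3, h4⟩ := h
    exact (F.three_fixed hx (Ne.symm h3) (Ne.symm h4)).imp_right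
      fun h => h.elim (fun h => Or.inr (Or.inl h)) fun h => Or.inr (Or.inr (Or.inr h))

/-- Even degree forces degree at most 6. -/
theorem degree_four_even (hS : SharpK G Ω 4) (hne : Nonempty (Fin 4 ↪ Ω))
    (he : Even (Nat.card Ω)) : Nat.card Ω ≤ 6 := by
  rcases (degree_four hS hne).2 with h | h | h | h <;> rw [h] at he ⊢ <;>
    rw [Nat.even_iff] at he <;> omega

/-- A point stabiliser loses one degree of sharp transitivity. -/
theorem SharpK.stab {k : ℕ} (h : SharpK G Ω (k + 1)) [IsPretransitive G Ω] (a : Ω) :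
    SharpK (stabilizer G a) (SubMulAction.ofStabilizer G a) k := by
  refine ⟨SubMulAction.ofStabilizer.isMultiplyPretransitive.1 h.trans, fun x => ?_⟩
  rw [Subgroup.eq_bot_iff_forall]
  intro g hg
  apply Subtype.ext
  rw [Subgroup.coe_one, ← Subgroup.mem_bot, ← h.sharp (SubMulAction.ofStabilizer.snoc x),
    mem_stabilizer_iff]
  ext i
  rcases Fin.eq_castSucc_or_eq_last i with ⟨i, rfl⟩ | rfl
  · rw [Function.Embedding.smul_apply, SubMulAction.ofStabilizer.snoc_castSucc]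
    exact congrArg (fun y : Fin k ↪ SubMulAction.ofStabilizer G a => ((y i : _) : Ω))
      (mem_stabilizer_iff.1 hg)
  · rw [Function.Embedding.smul_apply, SubMulAction.ofStabilizer.snoc_last]
    exact g.2

theorem card_ofStabilizer [Finite Ω] (a : Ω) :
    Nat.card (SubMulAction.ofStabilizer G a) + 1 = Nat.card Ω := by
  classical
  have := Fintype.ofFinite Ω
  rw [← Nat.card_congr (Equiv.optionSubtypeNe a), Finite.card_option]
  congr 1

theorem SharpK.pretransitive {k : ℕ} (h : SharpK G Ω (k + 1)) [Finite Ω]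
    (hn : k + 1 ≤ Nat.card Ω) : IsPretransitive G Ω := by
  have := h.trans
  rw [← is_one_pretransitive_iff]
  exact isMultiplyPretransitive_of_le (n := k + 1) (by omega) hn

theorem SharpK.card_eq {k : ℕ} (h : SharpK G Ω k) [Finite Ω] (hn : k ≤ Nat.card Ω) :
    Nat.card G = (Nat.card Ω).descFactorial k := by
  have := Fintype.ofFinite Ω
  classical
  obtain ⟨x⟩ : Nonempty (Fin k ↪ Ω) := Function.Embedding.nonempty_of_card_le (by
    rw [Fintype.card_fin, ← Nat.card_eq_fintype_card]; exact hn)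
  have hbij : Function.Bijective (fun g : G => g • x) := by
    refine ⟨fun g g' e => ?_, fun y => h.trans.exists_smul_eq x y⟩
    have : g'⁻¹ * g ∈ stabilizer G x := by
      rw [mem_stabilizer_iff, mul_smul, inv_smul_eq_iff]; exact e
    rw [h.sharp, Subgroup.mem_bot, inv_mul_eq_one] at this
    exact this.symm
  rw [Nat.card_eq_of_bijective _ hbij, Nat.card_eq_fintype_card, Fintype.card_embedding_eq,
    Fintype.card_fin, Nat.card_eq_fintype_card]

end Cfsg.Agent.SharpFour
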