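import Cfsg.Prelude.Def_Perm
import Cfsg.Prelude.Def_LieExceptional
import Cfsg.Agent.S0731
import Cfsg.Agent.Lib.Perm.SharpFour
import Cfsg.Agent.Lib.Perm.Sharp

/-!
# Transitive groups of degree `p + 1` and order `(p + 1) p d`, `d < p`
-/

set_option autoImplicit false

namespace Cfsg.Agent.DegPlusOne

open MulAction

variable {G α : Type*} [Group G] [MulAction G α] [FaithfulSMul G α] [Finite α] [Finite G]

/-- The set-up: `g` has order `p`, fixes `a`, and generates a normal subgroup of the stabiliser. -/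
structure Base (G α : Type*) [Group G] [MulAction G α] (p d : ℕ) where
  prime : p.Prime
  a : α
  g : G
  g_fix : g • a = a
  g_ord : orderOf g = p
  trans : ∀ b c : α, b ≠ a → c ≠ a → ∃! u, u ∈ Subgroup.zpowers g ∧ u • b = c
  normal : ∀ x ∈ stabilizer G a, ∀ u ∈ Subgroup.zpowers g, x * u * x⁻¹ ∈ Subgroup.zpowers g
  card_stab : Nat.card (stabilizer G a) = p * d

theorem exists_base [IsPretransitive G α] {p d : ℕ} (hp : p.Prime) (hα : Nat.card α = p + 1)
    (hG : Nat.card G = (p + 1) * p * d) (hd : d < p) : Nonempty (Base G α p d) := by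
  classical
  have : Fact p.Prime := ⟨hp⟩
  have hd0 : 0 < d := by
    rcases Nat.eq_zero_or_pos d with rfl | h
    · rw [mul_zero] at hG; exact absurd hG Nat.card_pos.ne'
    · exact h
  obtain ⟨a⟩ : Nonempty α := (Nat.card_pos_iff.1 (by omega)).1
  set A := stabilizer G a
  have hA : Nat.card A = p * d := by
    have h := A.card_mul_index
    rw [index_stabilizer_of_transitive, hα, hG] at h
    have : Nat.card A * (p + 1) = p * d * (p + 1) := by rw [h]; ring
    exact Nat.eq_of_mul_eq_mul_right (by omega) this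
  have hpd : ¬ p ∣ d := fun h => absurd (Nat.le_of_dvd hd0 h) (by omega)
  obtain ⟨P⟩ : Nonempty (Sylow p A) := inferInstance
  have hP : Nat.card P = p := by
    rw [P.card_eq_multiplicity, hA, Nat.factorization_mul hp.ne_zero hd0.ne', Finsupp.add_apply,
      hp.factorization_self, Nat.factorization_eq_zero_of_not_dvd hpd, pow_one]
  have hone : Subsingleton (Sylow p A) := by
    have h1 : Nat.card (Sylow p A) ∣ d := by
      have hidx : (P : Subgroup A).index = d := by
        have := (P : Subgroup A).card_mul_index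
        rw [hP, hA] at this
        exact Nat.eq_of_mul_eq_mul_left hp.pos this
      exact hidx ▸ P.card_dvd_index
    have h2 : Nat.card (Sylow p A) % p = 1 % p := card_sylow_modEq_one p A
    have h3 := Nat.le_of_dvd hd0 h1
    rw [Nat.mod_eq_of_lt (by omega), Nat.one_mod_eq_one.2 hp.ne_one] at h2
    exact (Nat.card_eq_one_iff_unique.1 h2).1
  have hPn : (P : Subgroup A).Normal := Sylow.normal_of_subsingleton P
  obtain ⟨g', hg'⟩ := exists_prime_orderOf_dvd_card' p (show p ∣ Nat.card P by rw [hP])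
  let g : G := ((g' : A) : G)
  have hgord : orderOf g = p := by
    show orderOf ((g' : A) : G) = p
    rw [Subgroup.orderOf_coe, Subgroup.orderOf_coe, hg']
  have hU : Subgroup.zpowers g = (P : Subgroup A).map A.subtype := by
    refine Subgroup.eq_of_le_of_card_ge (Subgroup.zpowers_le.2 ⟨g', g'.2, rfl⟩) ?_
    rw [Nat.card_congr (Subgroup.equivMapOfInjective _ _ A.subtype_injective).toEquiv.symm,
      Nat.card_zpowers, hgord, hP]
  have hfix : ∀ u ∈ Subgroup.zpowers g, u • a = a := fun u hu => by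
    rw [hU] at hu; obtain ⟨x, -, rfl⟩ := hu; exact x.2
  -- some point has a regular orbit
  obtain ⟨b₀, hb₀⟩ : ∃ b : α, g • b ≠ b := by
    by_contra h
    push Not at h
    have h1 : g = 1 := eq_of_smul_eq_smul (α := α) fun b => by rw [h b, one_smul]
    rw [h1, orderOf_one] at hgord
    exact hp.ne_one hgord.symm
  let U := Subgroup.zpowers g
  have hUc : Nat.card U = p := by rw [Nat.card_zpowers, hgord]
  have hrest : Nat.card {b : α // b ≠ a} = p := by
    have := Fintype.ofFinite α
    rw [Nat.card_eq_fintype_card, Fintype.card_subtype_compl, Fintype.card_subtype_eq,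
      ← Nat.card_eq_fintype_card, hα]
    omega
  let F : U → {b : α // b ≠ a} := fun u => ⟨(u : G) • b₀, fun e => hb₀ (by
    have hb : b₀ = a := by
      apply MulAction.injective (u : G)
      show (u : G) • b₀ = (u : G) • a
      rw [e, hfix u u.2]
    rw [hb, hfix g (Subgroup.mem_zpowers g)])⟩
  have hFinj : Function.Injective F := by
    intro u v e
    have e' : (u : G) • b₀ = (v : G) • b₀ := congrArg Subtype.val e
    by_contra hne
    have hw : v⁻¹ * u ∈ stabilizer U b₀ := by
      rw [mem_stabilizer_iff]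
      show ((v⁻¹ * u : U) : G) • b₀ = b₀
      rw [Subgroup.coe_mul, Subgroup.coe_inv, mul_smul, e', inv_smul_smul]
    have htop : stabilizer U b₀ = ⊤ := by
      have : Fact (Nat.card U).Prime := ⟨hUc ▸ hp⟩
      refine (stabilizer U b₀).eq_bot_or_eq_top_of_prime_card.resolve_left fun h => ?_
      rw [h, Subgroup.mem_bot, inv_mul_eq_one] at hw
      exact hne hw.symm
    have : (⟨g, Subgroup.mem_zpowers g⟩ : U) ∈ stabilizer U b₀ := htop ▸ Subgroup.mem_top _
    exact hb₀ this
  have hFbij := (Nat.bijective_iff_injective_and_card F).2 ⟨hFinj, hUc.trans hrest.symm⟩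
  refine ⟨⟨hp, a, g, hfix g (Subgroup.mem_zpowers g), hgord, fun b c hb hc => ?_, fun x hx u hu => ?_, hA⟩⟩
  · obtain ⟨v, hv⟩ := hFbij.2 ⟨b, hb⟩
    obtain ⟨w, hw⟩ := hFbij.2 ⟨c, hc⟩
    have hv' : (v : G) • b₀ = b := congrArg Subtype.val hv
    have hw' : (w : G) • b₀ = c := congrArg Subtype.val hw
    refine ⟨(w : G) * (v : G)⁻¹, ⟨U.mul_mem w.2 (U.inv_mem v.2), ?_⟩, fun u hu => ?_⟩
    · rw [← hv', mul_smul, inv_smul_smul, hw']
    · obtain ⟨huU, hub⟩ := hu
      rw [← hv', smul_smul] at hub
      have : F (⟨u, huU⟩ * v) = F w := Subtype.ext (hub.trans hw'.symm)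
      have := congrArg Subtype.val (hFinj this)
      rw [Subgroup.coe_mul] at this
      exact eq_mul_inv_of_mul_eq this
  · rw [hU] at hu ⊢
    obtain ⟨y, hy, rfl⟩ := hu
    exact ⟨⟨x, hx⟩ * y * ⟨x, hx⟩⁻¹, hPn.conj_mem y hy _, rfl⟩

namespace Base

variable {p d : ℕ} (S : Base G α p d)
include S

theorem u_fix {u : G} (hu : u ∈ Subgroup.zpowers S.g) : u • S.a = S.a :=
  Subgroup.zpowers_le.2 (show S.g ∈ stabilizer G S.a from S.g_fix) hu

theorem two_transitive [IsPretransitive G α] : IsMultiplyPretransitive G α 2 := by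
  rw [is_two_pretransitive_iff]
  intro b c b' c' hbc hbc'
  obtain ⟨x, hx⟩ := exists_smul_eq G b S.a
  obtain ⟨y, hy⟩ := exists_smul_eq G b' S.a
  obtain ⟨u, ⟨hu, huc⟩, -⟩ := S.trans (x • c) (y • c')
    (fun e => hbc (MulAction.injective x (hx.trans e.symm)))
    (fun e => hbc' (MulAction.injective y (hy.trans e.symm)))
  exact ⟨y⁻¹ * u * x, by rw [mul_smul, mul_smul, hx, S.u_fix hu, ← hy, inv_smul_smul],
    by rw [mul_smul, mul_smul, huc, inv_smul_smul]⟩

theorem three_fixed [IsPretransitive G α] (x : G) (a' b c : α) (hab : a' ≠ b) (hbc : b ≠ c)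
    (hac : a' ≠ c) (ha : x • a' = a') (hb : x • b = b) (hc : x • c = c) : x = 1 := by
  obtain ⟨h, hh⟩ := exists_smul_eq G a' S.a
  suffices hy : h * x * h⁻¹ = 1 by
    exact conj_eq_one_iff.1 hy
  set y := h * x * h⁻¹
  have hy1 : y • S.a = S.a := by rw [← hh, mul_smul, mul_smul, inv_smul_smul, ha]
  have hy2 : y • h • b = h • b := by rw [mul_smul, mul_smul, inv_smul_smul, hb]
  have hy3 : y • h • c = h • c := by rw [mul_smul, mul_smul, inv_smul_smul, hc]
  have nb : h • b ≠ S.a := fun e => hab (MulAction.injective h (hh.trans e.symm))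
  have nc : h • c ≠ S.a := fun e => hac (MulAction.injective h (hh.trans e.symm))
  obtain ⟨u, ⟨hu, huc⟩, huniq⟩ := S.trans _ _ nb nc
  have hyu : y * u * y⁻¹ = u := huniq _ ⟨S.normal y hy1 u hu, by
    rw [mul_smul, mul_smul, show y⁻¹ • h • b = h • b from inv_smul_eq_iff.2 hy2.symm, huc, hy3]⟩
  have hu1 : u ≠ 1 := fun e => hbc (MulAction.injective h (by show h • b = h • c; rw [← huc, e, one_smul]))
  -- `u` generates the cyclic group of prime order
  have hgen : Subgroup.zpowers u = Subgroup.zpowers S.g := by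
    refine Subgroup.eq_of_le_of_card_ge (Subgroup.zpowers_le.2 hu) ?_
    rw [Nat.card_zpowers, Nat.card_zpowers, S.g_ord]
    have hdvd : orderOf u ∣ p := by
      have h := Subgroup.card_dvd_of_le (Subgroup.zpowers_le.2 hu)
      rwa [Nat.card_zpowers, Nat.card_zpowers, S.g_ord] at h
    rcases S.prime.eq_one_or_self_of_dvd _ hdvd with e | e
    · exact absurd (orderOf_eq_one_iff.1 e) hu1
    · exact e.ge
  refine eq_of_smul_eq_smul (α := α) fun z => ?_
  rw [one_smul]
  by_cases hz : z = S.a
  · rw [hz, hy1]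
  obtain ⟨w, ⟨hw, rfl⟩, -⟩ := S.trans (h • b) z nb hz
  have hyw : Commute y w := by
    rw [← hgen] at hw
    obtain ⟨i, rfl⟩ := Subgroup.mem_zpowers_iff.1 hw
    exact (show Commute y u from mul_inv_eq_iff_eq_mul.1 hyu).zpow_right i
  rw [smul_smul, hyw.eq, mul_smul, hy2]

end Base

end Cfsg.Agent.DegPlusOne
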