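import Cfsg.Agent.Lib.Perm.LWExtend
import Cfsg.Agent.Lib.Solvable.Coprime

/-!
A `j`-transitive, `(j+1)`-homogeneous group (`j ≥ 4`) inducing only even permutations on
`(j+1)`-sets has degree at most `j + 2`.
-/

set_option autoImplicit false
set_option linter.style.haveILetI false
set_option linter.unusedSectionVars false

namespace Cfsg.Agent.LWAlt

open MulAction Cfsg.Agent.LWSign Cfsg.Agent.LWBasic

attribute [local instance 2000] Function.Embedding.instMulAction

universe u

variable {α : Type u} [Fintype α] [DecidableEq α] {G : Subgroup (Equiv.Perm α)} {j : ℕ}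

/-- Only even permutations are induced on `(j+1)`-sets. -/
def AltOnly (G : Subgroup (Equiv.Perm α)) (j : ℕ) : Prop :=
  ∀ (t : Fin (j + 1) ↪ α) (g : G) (π : Equiv.Perm (Fin (j + 1))),
    g • t = pre π t → Equiv.Perm.sign π = 1

theorem exists_smul_of_homog {i : ℕ} (hh : ∀ t t' : Fin i ↪ α, ∃ g : G, ∃ π, g • t = pre π t')
    (s s' : Set.powersetCard α i) : ∃ g : G, g • s = s' := by
  obtain ⟨t, rfl⟩ := Set.powersetCard.ofFinEmb_surjective (n := i) (β := α) s
  obtain ⟨t', rfl⟩ := Set.powersetCard.ofFinEmb_surjective (n := i) (β := α) s'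
  obtain ⟨g, π, h⟩ := hh t t'
  exact ⟨g, by rw [smul_ofFinEmb, ofFinEmb_eq_iff]; exact ⟨π, h⟩⟩

/-- An element fixing `j - 1` points has no 2-cycle. -/
theorem no_swap (hA : AltOnly G j) (hj : 1 ≤ j) {g : G} {s : Finset α} (hs : j ≤ s.card + 1)
    (hfix : ∀ y ∈ s, g • y = y) {x : α} (hx : g • g • x = x) : g • x = x := by
  classical
  by_contra hne
  obtain ⟨i, rfl⟩ : ∃ i, j = i + 1 := ⟨j - 1, by omega⟩
  obtain ⟨s', hsub, hs'⟩ := Finset.exists_subset_card_eq (show i ≤ s.card by omega)
  obtain ⟨S, hS⟩ := Function.Embedding.exists_of_card_eq_finset (α := Fin i) (s := s')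
    (by rw [Fintype.card_fin, hs'])
  have hSfix : ∀ l, g • S l = S l := fun l =>
    hfix _ (hsub (hS ▸ Finset.mem_map_of_mem S (Finset.mem_univ l)))
  have h1 : g • x ∉ Set.range S := by
    rintro ⟨l, hl⟩
    have := hSfix l
    rw [hl, hx] at this
    exact hne this.symm
  have h0 : x ∉ Set.range (cons S (g • x) h1) := by
    rintro ⟨l, hl⟩
    induction l using Fin.cases with
    | zero => rw [cons_zero] at hl; exact hne hl
    | succ l =>
      rw [cons_succ] at hl
      exact hne (hl ▸ hSfix l)
  have hval := hA (cons (cons S (g • x) h1) x h0) g (Equiv.swap 0 1) (DFunLike.ext _ _ fun l => by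
    rw [Function.Embedding.smul_apply, pre_apply]
    induction l using Fin.cases with
    | zero => rw [Equiv.swap_apply_left, cons_zero, ← Fin.succ_zero_eq_one, cons_succ, cons_zero]
    | succ l =>
      induction l using Fin.cases with
      | zero =>
        rw [Fin.succ_zero_eq_one, Equiv.swap_apply_right, ← Fin.succ_zero_eq_one, cons_succ,
          cons_zero, cons_zero, hx]
      | succ l =>
        rw [Equiv.swap_apply_of_ne_of_ne (Fin.succ_ne_zero _)
          (fun e => Fin.succ_ne_zero l (Fin.succ_injective _ (e.trans Fin.succ_zero_eq_one.symm))),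
          cons_succ, cons_succ, hSfix])
  rw [Equiv.Perm.sign_swap Fin.zero_ne_one] at hval
  exact absurd hval (by decide)

/-- Elements fixing `j - 1` points have odd order. -/
theorem odd_order (hA : AltOnly G j) (hj : 1 ≤ j) {g : G} {s : Finset α} (hs : j ≤ s.card + 1)
    (hfix : ∀ y ∈ s, g • y = y) : Odd (orderOf g) := by
  rw [← Nat.not_even_iff_odd]
  intro he
  set z := g ^ (orderOf g / 2) with hz
  have hzo : orderOf z = 2 := orderOf_pow_orderOf_div (orderOf_pos g).ne' he.two_dvd
  have hzfix : ∀ y ∈ s, z • y = y := fun y hy =>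
    mem_stabilizer_iff.1 (pow_mem (mem_stabilizer_iff.2 (hfix y hy)) _)
  have h1 : z = 1 := Subtype.ext (Equiv.ext fun x => no_swap hA hj hs hzfix (by
    rw [← mul_smul, ← pow_two, ← hzo, pow_orderOf_eq_one, one_smul]))
  rw [h1, orderOf_one] at hzo
  omega

/-- An involution exchanging the first two entries of a tuple and fixing the others, and nothing
else. -/
theorem exists_transposition (hA : AltOnly G j) (htr : IsMultiplyPretransitive G α j) (hj : 2 ≤ j)
    (t : Fin j ↪ α) (p q : Fin j) (hpq : p ≠ q) :
    ∃ u : G, u * u = 1 ∧ u • t = pre (Equiv.swap p q) t ∧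
      ∀ x, u • x = x → ∃ l, l ≠ p ∧ l ≠ q ∧ t l = x := by
  classical
  haveI := htr
  obtain ⟨g, hg⟩ := MulAction.exists_smul_eq G t (pre (Equiv.swap p q) t)
  have hgl : ∀ l, g • t l = t (Equiv.swap p q l) := fun l =>
    congrArg (fun w : Fin j ↪ α => w l) hg
  have hg2 : ∀ l, g • g • t l = t l := fun l => by rw [hgl, hgl, Equiv.swap_apply_self]
  obtain ⟨o, ho⟩ := odd_order hA (by omega) (g := g * g) (s := Finset.univ.map t) (by simp)
    (fun y hy => by
      obtain ⟨l, -, rfl⟩ := Finset.mem_map.1 hy
      rw [mul_smul, hg2])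
  have hpow : ∀ (m : ℕ) l, (g * g) ^ m • t l = t l := by
    intro m l
    induction m with
    | zero => rw [pow_zero, one_smul]
    | succ m ih => rw [pow_succ, mul_smul, mul_smul, hg2, ih]
  set u := g * (g * g) ^ o with hu
  have hul : ∀ l, u • t l = t (Equiv.swap p q l) := fun l => by rw [hu, mul_smul, hpow, hgl]
  have hu2 : u * u = 1 := by
    have e : u = g ^ (2 * o + 1) := by rw [hu, pow_succ', pow_mul, pow_two]
    rw [e, ← pow_add, ← two_mul, pow_mul, pow_two, ← ho]
    exact pow_orderOf_eq_one _
  refine ⟨u, hu2, DFunLike.ext _ _ hul, fun x hx => ?_⟩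
  by_contra hno
  push Not at hno
  set s := insert x (((Finset.univ.erase p).erase q).map t) with hs
  have hxs : x ∉ ((Finset.univ.erase p).erase q).map t := by
    intro h
    obtain ⟨l, hl, rfl⟩ := Finset.mem_map.1 h
    simp only [Finset.mem_erase] at hl
    exact hno l hl.2.1 hl.1 rfl
  have hcard : s.card + 1 = j := by
    rw [hs, Finset.card_insert_of_notMem hxs, Finset.card_map,
      Finset.card_erase_of_mem (Finset.mem_erase.2 ⟨hpq.symm, Finset.mem_univ q⟩),
      Finset.card_erase_of_mem (Finset.mem_univ p), Finset.card_univ, Fintype.card_fin]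
    omega
  have hfix : ∀ y ∈ s, u • y = y := by
    intro y hy
    rcases Finset.mem_insert.1 hy with rfl | hy
    · exact hx
    · obtain ⟨l, hl, rfl⟩ := Finset.mem_map.1 hy
      simp only [Finset.mem_erase] at hl
      rw [hul, Equiv.swap_apply_of_ne_of_ne hl.2.1 hl.1]
  have := no_swap hA (by omega) hcard.ge hfix (x := t p)
    (by rw [← mul_smul, hu2, one_smul])
  rw [hul, Equiv.swap_apply_left] at this
  exact hpq (t.injective this).symm

/-- The degree has the parity of `j`. -/
theorem degree_parity (hA : AltOnly G j) (htr : IsMultiplyPretransitive G α j) (hj : 2 ≤ j)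
    (hn : j ≤ Fintype.card α) : Fintype.card α % 2 = j % 2 := by
  classical
  haveI := Fact.mk Nat.prime_two
  obtain ⟨t⟩ : Nonempty (Fin j ↪ α) := Function.Embedding.nonempty_of_card_le (by simpa using hn)
  set p : Fin j := ⟨0, by omega⟩
  set q : Fin j := ⟨1, by omega⟩
  have hpq : p ≠ q := by simp [p, q]
  obtain ⟨u, hu2, hut, hufix⟩ := exists_transposition hA htr hj t p q hpq
  have hmod := LWFour.card_fixed_modEq (Ω := α) (p := 2) u (by rw [pow_two, hu2])
  have hset : (Finset.univ.filter fun x : α => u • x = x) =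
      ((Finset.univ.erase p).erase q).map t := by
    ext x
    simp only [Finset.mem_filter, Finset.mem_univ, true_and, Finset.mem_map, Finset.mem_erase,
      and_true]
    constructor
    · intro hx
      obtain ⟨l, h1, h2, rfl⟩ := hufix x hx
      exact ⟨l, ⟨h2, h1⟩, rfl⟩
    · rintro ⟨l, ⟨h2, h1⟩, rfl⟩
      have := congrArg (fun w : Fin j ↪ α => w l) hut
      rwa [Function.Embedding.smul_apply, pre_apply, Equiv.swap_apply_of_ne_of_ne h1 h2] at this
  rw [hset, Finset.card_map, Finset.card_erase_of_mem (Finset.mem_erase.2 ⟨hpq.symm,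
    Finset.mem_univ q⟩), Finset.card_erase_of_mem (Finset.mem_univ p), Finset.card_univ (α := Fin j),
    Fintype.card_fin, Nat.ModEq] at hmod
  omega

/-- Stabilisers of `(j+1)`-tuples are conjugate, up to order. -/
theorem card_stab_eq (hh : IsPretransitive G (Set.powersetCard α (j + 1)))
    (T T' : Fin (j + 1) ↪ α) : Nat.card (stabilizer G T) = Nat.card (stabilizer G T') := by
  classical
  have key : ∀ T : Fin (j + 1) ↪ α,
      stabilizer G T = fixingSubgroup G ((Finset.univ.map T : Finset α) : Set α) := by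
    intro T
    ext g
    rw [mem_stabilizer_iff, LWCycles.smul_eq_iff_forall, mem_fixingSubgroup_iff]
    simp
  rw [key, key]
  exact conj_fixing hh _ _ (by simp) (by simp)

/-- A Sylow subgroup of a `(j+1)`-point stabiliser and the group its normaliser induces on its
fixed points. -/
theorem sylow_fix (htr : IsMultiplyPretransitive G α j) (hh : IsPretransitive G (Set.powersetCard α (j + 1)))
    (hA : AltOnly G j) (hj : 1 ≤ j) {r : ℕ} [Fact r.Prime] (T : Fin (j + 1) ↪ α)
    (R : Subgroup G) (hR : R ≤ stabilizer G T) (hRp : IsPGroup r R)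
    (hRc : Nat.card R = r ^ (Nat.card (stabilizer G T)).factorization r) (F : Finset α)
    (hF : ∀ x, x ∈ F ↔ ∀ m ∈ R, m • x = x) :
    j < F.card ∧ ∃ G' : Subgroup (Equiv.Perm ↥F), IsMultiplyPretransitive G' ↥F j ∧
      IsPretransitive G' (Set.powersetCard ↥F (j + 1)) ∧ AltOnly G' j := by
  classical
  have hTF : Finset.univ.map T ⊆ F := by
    intro x hx
    obtain ⟨l, -, rfl⟩ := Finset.mem_map.1 hx
    exact (hF _).2 fun m hm => (LWCycles.smul_eq_iff_forall m T).1 (mem_stabilizer_iff.1 (hR hm)) l
  have hFcard : j < F.card := by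
    have := Finset.card_le_card hTF
    simp at this
    omega
  have hmax : ∀ M' : Subgroup G, IsPGroup r M' → R < M' →
      ∀ s : Finset α, (∀ x ∈ s, ∀ m ∈ M', m • x = x) → s.card ≤ j := by
    intro M' hM' hlt s hs
    by_contra hbig
    obtain ⟨s', hsub, hs'⟩ := Finset.exists_subset_card_eq (show j + 1 ≤ s.card by omega)
    obtain ⟨T', hT'⟩ := Function.Embedding.exists_of_card_eq_finset (α := Fin (j + 1)) (s := s')
      (by rw [Fintype.card_fin, hs'])
    have hle : M' ≤ stabilizer G T' := fun m hm => by
      rw [mem_stabilizer_iff, LWCycles.smul_eq_iff_forall]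
      exact fun l => hs _ (hsub (hT' ▸ Finset.mem_map_of_mem T' (Finset.mem_univ l))) m hm
    obtain ⟨P, -, hMP, -, hPc⟩ := LWReduce.exists_sylow_of (p := r) _ M' hM' hle
    have h1 := Subgroup.card_le_of_le hMP
    rw [hPc, card_stab_eq hh T' T, ← hRc] at h1
    exact hlt.ne (Subgroup.eq_of_le_of_card_ge hlt.le h1)
  refine ⟨hFcard, (LWReduce.onFixed R F hF).range,
    LWReduce.normalizer_transitive htr hj R hRp F hF hFcard hmax, ?_, ?_⟩
  · refine ⟨exists_smul_of_homog fun t t' => ?_⟩
    set U := t.trans (Function.Embedding.subtype (· ∈ F)) with hU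
    set U' := t'.trans (Function.Embedding.subtype (· ∈ F)) with hU'
    have hle : ∀ w : Fin (j + 1) ↪ ↥F,
        R ≤ stabilizer G (w.trans (Function.Embedding.subtype (· ∈ F))) := fun w m hm => by
      rw [mem_stabilizer_iff]
      exact DFunLike.ext _ _ fun l => (hF _).1 (w l).2 m hm
    obtain ⟨g, π, hg⟩ := homog_pre hh U U'
    have hle' : R.map (MulAut.conj g).toMonoidHom ≤ stabilizer G U' := by
      rintro _ ⟨m, hm, rfl⟩
      have hmU := mem_stabilizer_iff.1 (hle t hm)
      rw [mem_stabilizer_iff]
      have h1 : (g * m * g⁻¹) • pre π U' = pre π U' := by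
        rw [← hg, mul_smul, mul_smul, inv_smul_smul, hmU]
      rw [smul_pre] at h1
      exact (preEquiv π).injective h1
    obtain ⟨h, hh', hconj⟩ := LWReduce.exists_conj_of_card hle' (hle t')
      (by rw [Subgroup.card_map_of_injective (MulEquiv.injective _), hRc, card_stab_eq hh T U'])
      (by rw [hRc, card_stab_eq hh T U'])
    have hn : h * g ∈ Subgroup.normalizer (R : Set G) := by
      have key : R.map (MulAut.conj (h * g)).toMonoidHom = R := by
        rw [map_mul]
        conv_rhs => rw [← hconj]
        rw [Subgroup.map_map]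
        rfl
      rw [Subgroup.mem_normalizer_iff]
      intro x
      constructor
      · intro hx
        rw [← key]
        exact ⟨x, hx, rfl⟩
      · intro hx
        rw [← key] at hx
        obtain ⟨y, hy, hxy⟩ := hx
        exact ((MulAut.conj (h * g)).injective hxy) ▸ hy
    refine ⟨⟨LWReduce.onFixed R F hF ⟨h * g, hn⟩, ⟨_, rfl⟩⟩, π,
      DFunLike.ext _ _ fun l => Subtype.ext ?_⟩
    change (h * g) • (t l : α) = (t' (π l) : α)
    have h1 : g • U l = U' (π l) := congrArg (fun w : Fin (j + 1) ↪ α => w l) hg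
    have h2 : h • U' (π l) = U' (π l) :=
      (LWCycles.smul_eq_iff_forall h U').1 (mem_stabilizer_iff.1 hh') (π l)
    exact (mul_smul h g _).trans ((congrArg (h • ·) h1).trans h2)
  · rintro t ⟨σ, m, rfl⟩ π hπ
    exact hA (t.trans (Function.Embedding.subtype _)) m π
      (DFunLike.ext _ _ fun l => congrArg (fun w : Fin (j + 1) ↪ ↥F => (w l : α)) hπ)

theorem degree_le : ∀ (n : ℕ) {α : Type u} [Fintype α] [DecidableEq α]
    (G : Subgroup (Equiv.Perm α)) (j : ℕ), Fintype.card α = n → 4 ≤ j →
    IsMultiplyPretransitive G α j → IsPretransitive G (Set.powersetCard α (j + 1)) →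
    AltOnly G j → n ≤ j + 2 := by
  intro n
  induction n using Nat.strong_induction_on with
  | _ n ih =>
  intro α _ _ G j hn hj htr hh hA
  classical
  by_contra hbig
  obtain ⟨t₀⟩ : Nonempty (Fin j ↪ α) :=
    Function.Embedding.nonempty_of_card_le (by simp; omega)
  have hpar := degree_parity hA htr (by omega) (by omega)
  obtain ⟨T₀⟩ : Nonempty (Fin (j + 1) ↪ α) :=
    Function.Embedding.nonempty_of_card_le (by simp; omega)
  by_cases hl : Nat.card (stabilizer G T₀) = 1
  · -- only the identity fixes `j + 1` points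
    have hfree : LWExtend.FreeAbove G (j + 1) := by
      intro g s hs hg
      obtain ⟨s', hsub, hs'⟩ := Finset.exists_subset_card_eq hs
      obtain ⟨T, hT⟩ := Function.Embedding.exists_of_card_eq_finset (α := Fin (j + 1)) (s := s')
        (by rw [Fintype.card_fin, hs'])
      have hmem : g ∈ stabilizer G T := by
        rw [mem_stabilizer_iff, LWCycles.smul_eq_iff_forall]
        exact fun l => hg _ (hsub (hT ▸ Finset.mem_map_of_mem T (Finset.mem_univ l)))
      rw [card_stab_eq hh T₀ T] at hl
      exact congrArg Subtype.val ((Nat.card_eq_one_iff_unique.1 hl).1.elim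
        (⟨g, hmem⟩ : stabilizer G T) 1)
    have hone : Nat.card (stabilizer G t₀) = 1 := by
      rw [Nat.card_eq_one_iff_unique]
      refine ⟨⟨fun a b => ?_⟩, ⟨1⟩⟩
      have key : ∀ c : stabilizer G t₀, c = 1 := fun c => Subtype.ext
        (LWLevel.eq_one htr hj (by omega) hfree t₀ (fun g s hs hg =>
          ⟨odd_order hA (by omega) (by omega) hg,
            Or.inr (by rw [hn, Nat.even_iff]; omega)⟩) c c.2)
      rw [key a, key b]
    have hS := LWExtend.sharp_of_eq_one htr t₀ hone
    rcases SharpFour.degree_high j hS hj (by rw [Nat.card_eq_fintype_card]; omega) with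
      e | e | e | ⟨hi5, e⟩ <;> rw [Nat.card_eq_fintype_card, hn] at e <;> omega
  set l := Nat.card (stabilizer G T₀) with hldef
  have hlT : ∀ T : Fin (j + 1) ↪ α, Nat.card (stabilizer G T) = l := fun T => card_stab_eq hh T T₀
  have hlodd : ∀ T : Fin (j + 1) ↪ α, Odd (Nat.card (stabilizer G T)) := by
    intro T
    rw [← Nat.not_even_iff_odd]
    intro he
    obtain ⟨z, hz⟩ := exists_prime_orderOf_dvd_card' (G := stabilizer G T) 2 he.two_dvd
    have := odd_order hA (g := (z : G)) (by omega) (s := Finset.univ.map T) (by simp; omega)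
      (fun y hy => by
        obtain ⟨i, -, rfl⟩ := Finset.mem_map.1 hy
        exact (LWCycles.smul_eq_iff_forall _ T).1 (mem_stabilizer_iff.1 z.2) i)
    rw [Subgroup.orderOf_coe, hz] at this
    exact Nat.not_even_iff_odd.2 this even_two
  have hfix : ∀ {r : ℕ} (_ : r.Prime), r ∣ l → ∀ (T : Fin (j + 1) ↪ α) (R : Subgroup G),
      R ≤ stabilizer G T → IsPGroup r R →
      Nat.card R = r ^ (Nat.card (stabilizer G T)).factorization r →
      (Finset.univ.filter fun x : α => ∀ m ∈ R, m • x = x).card = j + 2 := by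
    intro r hr hrl T R hR hRp hRc
    haveI := Fact.mk hr
    set F := Finset.univ.filter fun x : α => ∀ m ∈ R, m • x = x with hFdef
    have hF : ∀ x, x ∈ F ↔ ∀ m ∈ R, m • x = x := fun x => by simp [hFdef]
    obtain ⟨hjF, G', h1, h2, h3⟩ := sylow_fix htr hh hA (by omega) T R hR hRp hRc F hF
    have hR1 : 1 < Nat.card R := by
      rw [hRc, hlT T]
      exact Nat.one_lt_pow (hr.factorization_pos_of_dvd (fun h0 => by
        rw [← hlT T] at h0; exact Nat.card_pos.ne' h0) hrl).ne' hr.one_lt
    have hFn : F.card < n := by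
      rw [← hn, ← Finset.card_univ]
      refine Finset.card_lt_card (Finset.filter_ssubset.2 ?_)
      haveI : Nontrivial R := Finite.one_lt_card_iff_nontrivial.1 hR1
      obtain ⟨m, hm⟩ := exists_ne (1 : R)
      refine Classical.byContradiction fun hall => hm (Subtype.ext (Subtype.ext (Equiv.ext fun x => ?_)))
      simp only [not_exists, not_and, not_not] at hall
      exact hall x (Finset.mem_univ x) m m.2
    have h4 := ih F.card hFn G' j (Fintype.card_coe F) hj h1 h2 h3
    have h5 := degree_parity h3 h1 (by omega) (by rw [Fintype.card_coe]; omega)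
    rw [Fintype.card_coe] at h5
    omega
  have key : ∀ (t : Fin j ↪ α) (p q c : Fin j), p ≠ q → c ≠ p → c ≠ q → ∀ (u : G),
      u * u = 1 → u • t = pre (Equiv.swap p q) t →
      (∀ x, u • x = x → ∃ i, i ≠ p ∧ i ≠ q ∧ t i = x) →
      ∀ (e : α) (he : e ∉ Set.range t), ∀ m ∈ stabilizer G (cons t e he), m • u • e = u • e := by
    intro t p q c hpq hcp hcq u hu2 hut hufix e he
    have hui : u⁻¹ = u := inv_eq_of_mul_eq_one_right hu2
    have hue : u • u • e = e := by rw [← mul_smul, hu2, one_smul]
    have huti : ∀ i, u • t i = t (Equiv.swap p q i) := fun i =>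
      congrArg (fun w : Fin j ↪ α => w i) hut
    have hue_ne : u • e ≠ e := fun k => by
      obtain ⟨i, -, -, hi⟩ := hufix e k
      exact he ⟨i, hi⟩
    have hue_t : ∀ i, u • e ≠ t i := fun i k => by
      apply he
      rw [← hue, k, huti]
      exact ⟨_, rfl⟩
    -- the invariant `(j+1)`-tuple
    obtain ⟨S', hS'⟩ : ∃ S' : Fin j ↪ α, ∀ i, S' i = if i = c then u • e else t i :=
      ⟨⟨fun i => if i = c then u • e else t i, fun a b hab => by
      beta_reduce at hab
      split_ifs at hab with ha hb hb
      · rw [ha, hb]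
      · exact absurd hab (hue_t b)
      · exact absurd hab.symm (hue_t a)
      · exact t.injective hab⟩, fun i => rfl⟩
    have heS : e ∉ Set.range S' := by
      rintro ⟨i, hi⟩
      rw [hS'] at hi
      split_ifs at hi with hic
      · exact hue_ne hi
      · exact he ⟨i, hi⟩
    set T' := cons S' e heS with hT'
    have hswap_c : Equiv.swap p q c = c := Equiv.swap_apply_of_ne_of_ne hcp hcq
    have hT'inv : ∀ i, ∃ i', u • T' i = T' i' := by
      intro i
      induction i using Fin.cases with
      | zero => exact ⟨c.succ, by simp [hT', hS']⟩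
      | succ i =>
        by_cases hic : i = c
        · exact ⟨0, by simp [hT', hS', hic, hue]⟩
        · refine ⟨(Equiv.swap p q i).succ, ?_⟩
          have : Equiv.swap p q i ≠ c := fun k => hic (by
            rw [← Equiv.swap_apply_self p q i, k, hswap_c])
          simp [hT', hS', hic, this, huti]
    set K := stabilizer G T' with hK
    have hnorm : Subgroup.zpowers u ≤ Subgroup.normalizer (K : Set G) := by
      rw [Subgroup.zpowers_le]
      have hstep : ∀ m ∈ K, u * m * u⁻¹ ∈ K := by
        intro m hm
        rw [hK, mem_stabilizer_iff, LWCycles.smul_eq_iff_forall] at hm ⊢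
        intro i
        obtain ⟨i', hi'⟩ := hT'inv i
        rw [hui, mul_smul, mul_smul, hi', hm, ← hi', ← mul_smul, hu2, one_smul]
      rw [Subgroup.mem_normalizer_iff]
      intro m
      refine ⟨hstep m, fun hm => ?_⟩
      have h := hstep _ hm
      rw [hui] at h
      rwa [show u * (u * m * u) * u = (u * u) * m * (u * u) by simp only [mul_assoc], hu2, one_mul,
        mul_one] at h
    have hcop : (Nat.card (Subgroup.zpowers u)).Coprime (Nat.card K) := by
      refine Nat.Coprime.coprime_dvd_left ?_ (Nat.coprime_two_left.2 (hlodd T'))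
      rw [Nat.card_zpowers]
      exact orderOf_dvd_of_pow_eq_one (by rw [pow_two, hu2])
    set L := stabilizer G (cons t e he) with hL
    set L' := L ⊓ stabilizer G (u • e) with hL'
    have hdvd : Nat.card L ∣ Nat.card L' := by
      rw [← Nat.factorization_le_iff_dvd Nat.card_pos.ne' Nat.card_pos.ne']
      intro r
      by_cases hrl : r.Prime ∧ r ∣ l
      swap
      · rw [hlT (cons t e he)]
        have : l.factorization r = 0 := by
          rw [Nat.factorization_eq_zero_iff]
          tauto
        rw [this]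
        exact Nat.zero_le _
      obtain ⟨hr, hrl⟩ := hrl
      haveI := Fact.mk hr
      obtain ⟨P, hP⟩ := CoprimeAct.exists_invariant_sylow hnorm hcop
        (Or.inl inferInstance) r
      set R := (P : Subgroup K).map K.subtype with hR
      have hRc : Nat.card R = r ^ (Nat.card K).factorization r := by
        rw [← P.card_eq_multiplicity, hR]
        exact (Nat.card_congr (Subgroup.equivMapOfInjective _ _ K.subtype_injective).toEquiv).symm
      have hRK : R ≤ K := Subgroup.map_subtype_le _
      have hcard := hfix hr hrl T' R hRK (P.isPGroup'.map _) hRc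
      set F := Finset.univ.filter fun x : α => ∀ m ∈ R, m • x = x with hFdef
      have hTF : Finset.univ.map T' ⊆ F := by
        intro x hx
        obtain ⟨i, -, rfl⟩ := Finset.mem_map.1 hx
        exact Finset.mem_filter.2 ⟨Finset.mem_univ _, fun m hm =>
          (LWCycles.smul_eq_iff_forall m T').1 (mem_stabilizer_iff.1 (hRK hm)) i⟩
      obtain ⟨g, hg⟩ : ∃ g, F \ Finset.univ.map T' = {g} := by
        rw [← Finset.card_eq_one, Finset.card_sdiff_of_subset hTF, hcard]
        simp
      have hgF : g ∈ F \ Finset.univ.map T' := hg ▸ Finset.mem_singleton_self g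
      rw [Finset.mem_sdiff] at hgF
      have huR : ∀ m ∈ R, u * m * u⁻¹ ∈ R := fun m hm =>
        (Subgroup.mem_normalizer_iff.1 (hP (Subgroup.mem_zpowers u)) m).1 hm
      have hugF : u • g ∈ F \ Finset.univ.map T' := by
        rw [Finset.mem_sdiff]
        refine ⟨Finset.mem_filter.2 ⟨Finset.mem_univ _, fun m hm => ?_⟩, fun hmem => hgF.2 ?_⟩
        · have h := (Finset.mem_filter.1 hgF.1).2 _ (huR m hm)
          rw [hui, mul_smul, mul_smul] at h
          have := congrArg (u • ·) h
          simpa only [← mul_smul, ← mul_assoc, hu2, one_mul] using this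
        · obtain ⟨i, -, hi⟩ := Finset.mem_map.1 hmem
          obtain ⟨i', hi'⟩ := hT'inv i
          rw [hi, ← mul_smul, hu2, one_smul] at hi'
          rw [hi']
          exact Finset.mem_map_of_mem T' (Finset.mem_univ i')
      rw [hg, Finset.mem_singleton] at hugF
      obtain ⟨i, -, -, hi⟩ := hufix g hugF
      have hic : i = c := by
        by_contra hic
        refine hgF.2 (Finset.mem_map.2 ⟨i.succ, Finset.mem_univ _, ?_⟩)
        simp [hT', hS', hic, hi]
      subst hic
      have hRL : R ≤ L' := by
        intro m hm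
        have hmK := (LWCycles.smul_eq_iff_forall m T').1 (mem_stabilizer_iff.1 (hRK hm))
        refine Subgroup.mem_inf.2 ⟨?_, ?_⟩
        · rw [hL, mem_stabilizer_iff, LWCycles.smul_eq_iff_forall]
          intro k
          induction k using Fin.cases with
          | zero => simpa [hT'] using hmK 0
          | succ k =>
            by_cases hki : k = i
            · subst hki
              rw [cons_succ, hi]
              exact (Finset.mem_filter.1 hgF.1).2 m hm
            · simpa [hT', hS', hki] using hmK k.succ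
        · rw [mem_stabilizer_iff]
          simpa [hT', hS'] using hmK i.succ
      have h1 := Subgroup.card_dvd_of_le hRL
      rw [hRc, hlT T'] at h1
      rw [hlT (cons t e he)]
      exact (hr.pow_dvd_iff_le_factorization Nat.card_pos.ne').1 h1
    intro m hm
    have hLL : L' = L := Subgroup.eq_of_le_of_card_ge inf_le_left
      (Nat.le_of_dvd Nat.card_pos hdvd)
    rw [← hLL] at hm
    exact (Subgroup.mem_inf.1 hm).2
  -- two transpositions agree outside the tuple
  let p : Fin j := ⟨0, by omega⟩
  let q : Fin j := ⟨1, by omega⟩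
  let p' : Fin j := ⟨2, by omega⟩
  let q' : Fin j := ⟨3, by omega⟩
  have dpq : p ≠ q := by simp [p, q]
  have dpq' : p' ≠ q' := by simp [p', q']
  obtain ⟨u, hu2, hut, hufix⟩ := exists_transposition hA htr (by omega) t₀ p q dpq
  obtain ⟨v, hv2, hvt, hvfix⟩ := exists_transposition hA htr (by omega) t₀ p' q' dpq'
  have hr : l.minFac.Prime := Nat.minFac_prime hl
  haveI := Fact.mk hr
  have huve : ∀ e, e ∉ Set.range t₀ → (u * v) • e = e := by
    intro e he
    have hu_ne : u • e ≠ e := fun k => by
      obtain ⟨i, -, -, hi⟩ := hufix e k; exact he ⟨i, hi⟩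
    have hv_ne : v • e ≠ e := fun k => by
      obtain ⟨i, -, -, hi⟩ := hvfix e k; exact he ⟨i, hi⟩
    have hu_t : ∀ (w : G), w * w = 1 → ∀ σ : Equiv.Perm (Fin j), w • t₀ = pre σ t₀ →
        ∀ i, w • e ≠ t₀ i := by
      intro w hw σ hσ i k
      apply he
      have := congrArg (w • ·) k
      simp only [← mul_smul, hw, one_smul] at this
      exact ⟨σ i, by rw [this]; exact (congrArg (fun z : Fin j ↪ α => z i) hσ).symm⟩
    set L := stabilizer G (cons t₀ e he) with hL
    have hLu := key t₀ p q p' dpq (by simp [p, p']) (by simp [q, p']) u hu2 hut hufix e he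
    have hLv := key t₀ p' q' p dpq' (by simp [p, p']) (by simp [p, q']) v hv2 hvt hvfix e he
    obtain ⟨R, hRL, -, hRp, hRc⟩ := LWReduce.exists_sylow_of (p := l.minFac) L ⊥ IsPGroup.of_bot
      bot_le
    have hcard := hfix hr (Nat.minFac_dvd l) (cons t₀ e he) R hRL hRp hRc
    by_contra hne
    have hne' : v • e ≠ u • e := fun k => hne (by rw [mul_smul, k, ← mul_smul, hu2, one_smul])
    have hsub : insert (v • e) (insert (u • e) (Finset.univ.map (cons t₀ e he))) ⊆
        Finset.univ.filter fun x : α => ∀ m ∈ R, m • x = x := by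
      intro x hx
      refine Finset.mem_filter.2 ⟨Finset.mem_univ _, fun m hm => ?_⟩
      simp only [Finset.mem_insert] at hx
      rcases hx with rfl | rfl | hx
      · exact hLv m (hRL hm)
      · exact hLu m (hRL hm)
      · obtain ⟨i, -, rfl⟩ := Finset.mem_map.1 hx
        exact (LWCycles.smul_eq_iff_forall m _).1 (mem_stabilizer_iff.1 (hRL hm)) i
    have hmemC : ∀ (w : G), (∀ i, w • e ≠ t₀ i) → w • e ≠ e →
        w • e ∉ Finset.univ.map (cons t₀ e he) := by
      intro w h1 h2 hmem
      obtain ⟨i, -, hi⟩ := Finset.mem_map.1 hmem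
      induction i using Fin.cases with
      | zero => exact h2 (by simpa using hi.symm)
      | succ i => exact h1 i (by simpa using hi.symm)
    have hle := Finset.card_le_card hsub
    rw [hcard, Finset.card_insert_of_notMem (by
        rw [Finset.mem_insert, not_or]
        exact ⟨hne', hmemC v (hu_t v hv2 _ hvt) hv_ne⟩),
      Finset.card_insert_of_notMem (hmemC u (hu_t u hu2 _ hut) hu_ne), Finset.card_map,
      Finset.card_univ, Fintype.card_fin] at hle
    omega
  obtain ⟨w, hw⟩ : ∃ w : Fin 4 ↪ Fin j, ∀ i, w i = ⟨i.val, by omega⟩ :=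
    ⟨⟨fun i => ⟨i.val, by omega⟩, fun a b hab => Fin.ext (by simpa using hab)⟩, fun i => rfl⟩
  set s := Finset.univ \ Finset.univ.map (w.trans t₀) with hs
  have hscard : j ≤ s.card + 1 := by
    rw [hs, Finset.card_sdiff_of_subset (Finset.subset_univ _), Finset.card_map,
      Finset.card_univ, Finset.card_univ, Fintype.card_fin, hn]
    omega
  have huti : ∀ i, u • t₀ i = t₀ (Equiv.swap p q i) := fun i =>
    congrArg (fun w : Fin j ↪ α => w i) hut
  have hvti : ∀ i, v • t₀ i = t₀ (Equiv.swap p' q' i) := fun i =>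
    congrArg (fun w : Fin j ↪ α => w i) hvt
  have hsfix : ∀ y ∈ s, (u * v) • y = y := by
    intro y hy
    by_cases hyr : y ∈ Set.range t₀
    · obtain ⟨i, rfl⟩ := hyr
      rw [hs, Finset.mem_sdiff, Finset.mem_map] at hy
      have hi : i ≠ p ∧ i ≠ q ∧ i ≠ p' ∧ i ≠ q' := by
        refine ⟨?_, ?_, ?_, ?_⟩ <;> intro k <;> apply hy.2
        · exact ⟨0, Finset.mem_univ _, by rw [k, Function.Embedding.trans_apply, hw]; rfl⟩
        · exact ⟨1, Finset.mem_univ _, by rw [k, Function.Embedding.trans_apply, hw]; rfl⟩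
        · exact ⟨2, Finset.mem_univ _, by rw [k, Function.Embedding.trans_apply, hw]; rfl⟩
        · exact ⟨3, Finset.mem_univ _, by rw [k, Function.Embedding.trans_apply, hw]; rfl⟩
      rw [mul_smul, hvti, Equiv.swap_apply_of_ne_of_ne hi.2.2.1 hi.2.2.2, huti,
        Equiv.swap_apply_of_ne_of_ne hi.1 hi.2.1]
    · exact huve y hyr
  have e1 : (u * v) • t₀ p = t₀ q := by
    rw [mul_smul, hvti, Equiv.swap_apply_of_ne_of_ne (by simp [p, p']) (by simp [p, q']), huti,
      Equiv.swap_apply_left]
  have e2 : (u * v) • t₀ q = t₀ p := by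
    rw [mul_smul, hvti, Equiv.swap_apply_of_ne_of_ne (by simp [q, p']) (by simp [q, q']), huti,
      Equiv.swap_apply_right]
  have := no_swap hA (by omega) hscard hsfix (x := t₀ p) (by rw [e1, e2])
  rw [e1] at this
  exact dpq (t₀.injective this).symm

end Cfsg.Agent.LWAlt
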