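import Cfsg.Agent.Lib.Perm.LWSign
import Mathlib.GroupTheory.GroupAction.SubMulAction.Combination
import Mathlib.GroupTheory.Perm.Cycle.Type
import Mathlib.GroupTheory.SpecificGroups.Alternating

/-!
Stabilisers of sets and of tuples in homogeneous permutation groups.
-/

set_option autoImplicit false
set_option linter.style.haveILetI false
set_option linter.unusedSectionVars false

namespace Cfsg.Agent.LWBasic

open MulAction Cfsg.Agent.LWSign
open scoped Nat Pointwise

attribute [local instance 2000] Function.Embedding.instMulAction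

variable {α : Type*} [Fintype α] [DecidableEq α] {G : Subgroup (Equiv.Perm α)}

theorem ofFinEmb_eq_iff {i : ℕ} (u t : Fin i ↪ α) :
    Set.powersetCard.ofFinEmb i α u = Set.powersetCard.ofFinEmb i α t ↔ ∃ π, u = pre π t := by
  constructor
  · intro h
    have hmem : ∀ x, ∃ y, t y = u x := by
      intro x
      have : u x ∈ Set.powersetCard.ofFinEmb i α t := by
        rw [← h, Set.powersetCard.mem_ofFinEmb_iff_mem_range]
        exact ⟨x, rfl⟩
      rwa [Set.powersetCard.mem_ofFinEmb_iff_mem_range] at this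
    choose f hf using hmem
    have hinj : Function.Injective f := fun x y e => u.injective (by rw [← hf x, ← hf y, e])
    refine ⟨Equiv.ofBijective f (Finite.injective_iff_bijective.1 hinj), ?_⟩
    ext x
    exact (hf x).symm
  · rintro ⟨π, rfl⟩
    refine Subtype.ext ?_
    rw [Set.powersetCard.val_ofFinEmb, Set.powersetCard.val_ofFinEmb]
    ext y
    simp only [Finset.mem_map, Finset.mem_univ, true_and, pre_apply]
    exact ⟨fun ⟨x, hx⟩ => ⟨π x, hx⟩, fun ⟨x, hx⟩ => ⟨π.symm x, by rw [Equiv.apply_symm_apply]; exact hx⟩⟩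

theorem smul_ofFinEmb {i : ℕ} (g : G) (t : Fin i ↪ α) :
    g • Set.powersetCard.ofFinEmb i α t = Set.powersetCard.ofFinEmb i α (g • t) :=
  ((Set.powersetCard.mulActionHom_of_embedding G α (n := i)).map_smul g t).symm

theorem homog_pre {i : ℕ} (hh : IsPretransitive G (Set.powersetCard α i)) (t t' : Fin i ↪ α) :
    ∃ g : G, ∃ π, g • t = pre π t' := by
  obtain ⟨g, hg⟩ := hh.exists_smul_eq (Set.powersetCard.ofFinEmb i α t)
    (Set.powersetCard.ofFinEmb i α t')
  rw [smul_ofFinEmb, ofFinEmb_eq_iff] at hg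
  exact ⟨g, hg⟩

/-- Every tuple is a translate of a reordering of a given one. -/
theorem exists_smul_pre {i : ℕ} (hh : IsPretransitive G (Set.powersetCard α i))
    (t w : Fin i ↪ α) : ∃ g : G, ∃ π, w = g • pre π t := by
  obtain ⟨g, π, h⟩ := homog_pre hh w t
  exact ⟨g⁻¹, π, by rw [← h, inv_smul_smul]⟩

/-- The setwise stabiliser of the range of a tuple. -/
def stabSet {i : ℕ} (G : Subgroup (Equiv.Perm α)) (t : Fin i ↪ α) : Subgroup G :=
  stabilizer G (Set.powersetCard.ofFinEmb i α t)

theorem mem_stabSet {i : ℕ} (g : G) (t : Fin i ↪ α) :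
    g ∈ stabSet G t ↔ ∃ π, g • t = pre π t := by
  rw [stabSet, mem_stabilizer_iff, smul_ofFinEmb, ofFinEmb_eq_iff]

theorem card_eq_choose_mul {i : ℕ} (hh : IsPretransitive G (Set.powersetCard α i))
    (t : Fin i ↪ α) :
    Nat.card G = (Fintype.card α).choose i * Nat.card (stabSet G t) := by
  haveI := hh
  have h := (stabSet G t).index_mul_card
  rw [stabSet, index_stabilizer_of_transitive, Set.powersetCard.card,
    Nat.card_eq_fintype_card (α := α)] at h
  rw [← h, stabSet]

theorem card_eq_desc_mul {i : ℕ} (htr : IsMultiplyPretransitive G α i) (t : Fin i ↪ α) :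
    Nat.card G = (Fintype.card α).descFactorial i * Nat.card (stabilizer G t) := by
  haveI := htr
  have h := (stabilizer G t).index_mul_card
  rw [index_stabilizer_of_transitive, Nat.card_eq_fintype_card, Fintype.card_embedding_eq,
    Fintype.card_fin] at h
  exact h.symm

/-- The permutation induced on the entries. -/
noncomputable def induced {i : ℕ} (t : Fin i ↪ α) : stabSet G t →* Equiv.Perm (Fin i) where
  toFun g := ((mem_stabSet (g : G) t).1 g.2).choose
  map_one' := by
    apply pre_injective t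
    rw [← ((mem_stabSet _ t).1 (1 : stabSet G t).2).choose_spec, pre_one, OneMemClass.coe_one,
      one_smul]
  map_mul' g h := by
    apply pre_injective t
    have hgh := ((mem_stabSet _ t).1 (g * h).2).choose_spec
    have hh := ((mem_stabSet _ t).1 h.2).choose_spec
    have hg := ((mem_stabSet _ t).1 g.2).choose_spec
    rw [← hgh, Subgroup.coe_mul, mul_smul]
    conv_lhs => arg 2; rw [hh]
    rw [smul_pre]
    conv_lhs => arg 2; rw [hg]
    rw [pre_pre]

theorem induced_spec {i : ℕ} (t : Fin i ↪ α) (g : stabSet G t) :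
    (g : G) • t = pre (induced t g) t :=
  ((mem_stabSet (g : G) t).1 g.2).choose_spec

theorem mem_range_induced {i : ℕ} (t : Fin i ↪ α) (π : Equiv.Perm (Fin i)) :
    π ∈ (induced (G := G) t).range ↔ ∃ g : G, g • t = pre π t := by
  constructor
  · rintro ⟨g, rfl⟩
    exact ⟨g, induced_spec t g⟩
  · rintro ⟨g, hg⟩
    refine ⟨⟨g, (mem_stabSet g t).2 ⟨π, hg⟩⟩, pre_injective t ?_⟩
    rw [← induced_spec, hg]

theorem induced_injective {i : ℕ} (t : Fin i ↪ α) (hfree : ∀ g : G, g • t = t → g = 1) :
    Function.Injective (induced (G := G) t) := by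
  intro g h e
  apply Subtype.ext
  rw [← inv_mul_eq_one]
  apply hfree
  rw [mul_smul, induced_spec t h, ← e, ← induced_spec t g, inv_smul_smul]

theorem card_range_induced {i : ℕ} (t : Fin i ↪ α) (hfree : ∀ g : G, g • t = t → g = 1) :
    Nat.card (induced (G := G) t).range = Nat.card (stabSet G t) :=
  (Nat.card_congr (MonoidHom.ofInjective (induced_injective t hfree)).toEquiv).symm

theorem conj_fixing {i : ℕ} (hh : IsPretransitive G (Set.powersetCard α i)) (s s' : Finset α)
    (hs : s.card = i) (hs' : s'.card = i) :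
    Nat.card (fixingSubgroup G (s : Set α)) = Nat.card (fixingSubgroup G (s' : Set α)) := by
  obtain ⟨g, hg⟩ := hh.exists_smul_eq (⟨s, hs⟩ : Set.powersetCard α i) ⟨s', hs'⟩
  have hg' : g • s = s' := congrArg Subtype.val hg
  subst hg'
  refine Nat.card_congr ⟨fun h => ⟨g * h * g⁻¹, (mem_fixingSubgroup_iff G).2 fun y hy => ?_⟩,
    fun h => ⟨g⁻¹ * h * g, (mem_fixingSubgroup_iff G).2 fun y hy => ?_⟩, fun h => ?_, fun h => ?_⟩
  · rw [Finset.mem_coe, Finset.mem_smul_finset] at hy
    obtain ⟨x, hx, rfl⟩ := hy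
    rw [mul_smul, mul_smul, inv_smul_smul, (mem_fixingSubgroup_iff G).1 h.2 x hx]
  · rw [mul_smul, mul_smul, (mem_fixingSubgroup_iff G).1 h.2 (g • y)
      (by rw [Finset.mem_coe]; exact Finset.smul_mem_smul_finset hy), inv_smul_smul]
  · ext1; simp [mul_assoc]
  · ext1; simp [mul_assoc]

end Cfsg.Agent.LWBasic
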