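import Cfsg.Agent.Lib.Perm.LWBasic
import Mathlib.GroupTheory.Perm.Centralizer
import Mathlib.GroupTheory.SpecificGroups.Alternating.Simple

/-!
Transpositions and 3-cycles induced on the `(j+1)`-sets of a `j`-transitive group in which only the
identity fixes `j+1` points.
-/

set_option autoImplicit false
set_option linter.style.haveILetI false
set_option linter.unusedSectionVars false

namespace Cfsg.Agent.LWCycles

open MulAction Cfsg.Agent.LWSign Cfsg.Agent.LWBasic Equiv

attribute [local instance 2000] Function.Embedding.instMulAction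

variable {α : Type*} [Fintype α] [DecidableEq α] {G : Subgroup (Equiv.Perm α)}

theorem smul_eq_iff_forall {i : ℕ} (g : G) (t : Fin i ↪ α) :
    g • t = t ↔ ∀ l, g • t l = t l :=
  ⟨fun h l => congrArg (fun u : Fin i ↪ α => u l) h, fun h => DFunLike.ext _ _ h⟩

/-- An element fixing `j` points fixes no further one, unless it is the identity. -/
theorem fixed_mem {j : ℕ} (hfree : ∀ g : G, ∀ t : Fin (j + 1) ↪ α, g • t = t → g = 1) {z : G}
    (hz : z ≠ 1) {S : Fin j ↪ α} (hS : z • S = S) {y : α} (hy : z • y = y) : y ∈ Set.range S := by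
  by_contra h
  refine hz (hfree z (cons S y h) ((smul_eq_iff_forall _ _).2 fun l => ?_))
  induction l using Fin.cases with
  | zero => simpa using hy
  | succ l => simpa using (smul_eq_iff_forall _ _).1 hS l

theorem not_fixed_head {j : ℕ} (hfree : ∀ g : G, ∀ t : Fin (j + 1) ↪ α, g • t = t → g = 1) {z : G}
    (hz : z ≠ 1) {u : Fin (j + 1) ↪ α} (hu : z • tail u = tail u) : z • u 0 ≠ u 0 := by
  intro h
  obtain ⟨l, hl⟩ := fixed_mem hfree hz hu h
  exact Fin.succ_ne_zero l (u.injective hl)

theorem exists_orderOf_fixing {j : ℕ} (htr : IsMultiplyPretransitive G α j) (t₀ : Fin j ↪ α)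
    {p : ℕ} [Fact p.Prime] (hp : p ∣ Nat.card (stabilizer G t₀)) (S : Fin j ↪ α) :
    ∃ z : G, orderOf z = p ∧ z • S = S := by
  have hn : 0 < (Fintype.card α).descFactorial j := by
    rw [Nat.descFactorial_pos]
    simpa using Fintype.card_le_of_embedding t₀
  have h1 := card_eq_desc_mul htr t₀
  have h2 := card_eq_desc_mul htr S
  rw [h1] at h2
  rw [Nat.eq_of_mul_eq_mul_left hn h2] at hp
  obtain ⟨z, hz⟩ := exists_prime_orderOf_dvd_card' p hp
  exact ⟨z, by rw [← hz, Subgroup.orderOf_coe], z.2⟩

section Two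

/-- If the stabiliser of `j` points has even order, every transposition is induced. -/
theorem exists_swap {i : ℕ}
    (hfree : ∀ g : G, ∀ t : Fin (i + 2) ↪ α, g • t = t → g = 1)
    (htr : IsMultiplyPretransitive G α (i + 1)) (t₀ : Fin (i + 1) ↪ α)
    (hq : 2 ∣ Nat.card (stabilizer G t₀)) (v : Fin (i + 2) ↪ α) :
    ∃ g : G, g • v = pre (swap 0 1) v := by
  classical
  haveI := Fact.mk Nat.prime_two
  choose Z hZo hZf using exists_orderOf_fixing htr t₀ (p := 2) hq
  have hZ1 : ∀ S, Z S ≠ 1 := fun S h => by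
    have := hZo S
    rw [h, orderOf_one] at this
    omega
  have hZ2 : ∀ S, Z S * Z S = 1 := fun S => by
    rw [← pow_two, ← hZo S]; exact pow_orderOf_eq_one _
  let f : (Fin (i + 2) ↪ α) → Fin (i + 2) → α := fun u =>
    Function.update u 1 (Z (tail u) • u 0)
  have hfix : ∀ (u : Fin (i + 2) ↪ α) (l : Fin (i + 1)), Z (tail u) • u l.succ = u l.succ :=
    fun u l => (smul_eq_iff_forall _ _).1 (hZf (tail u)) l
  have hnew : ∀ (u : Fin (i + 2) ↪ α) (l : Fin (i + 2)), l ≠ 1 → Z (tail u) • u 0 ≠ u l := by
    intro u l _ h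
    induction l using Fin.cases with
    | zero => exact not_fixed_head hfree (hZ1 _) (hZf (tail u)) h
    | succ l =>
      rw [← hfix u l, smul_left_cancel_iff] at h
      exact Fin.succ_ne_zero l (u.injective h).symm
  have hinj : ∀ u, Function.Injective (f u) := by
    intro u a b h
    simp only [f, Function.update_apply] at h
    split_ifs at h with ha hb hb
    · rw [ha, hb]
    · exact absurd h (hnew u b hb)
    · exact absurd h.symm (hnew u a ha)
    · exact u.injective h
  let ψ : (Fin (i + 2) ↪ α) → (Fin (i + 2) ↪ α) := fun u => ⟨f u, hinj u⟩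
  have hψ : ∀ u, Z (tail u) • ψ u = pre (swap 0 1) (ψ u) := by
    intro u
    ext l
    change Z (tail u) • f u l = f u (swap 0 1 l)
    simp only [f, Function.update_apply]
    by_cases h1 : l = 1
    · subst h1
      rw [swap_apply_right, if_pos rfl, if_neg Fin.zero_ne_one, ← mul_smul, hZ2, one_smul]
    · by_cases h0 : l = 0
      · subst h0
        rw [swap_apply_left, if_neg h1, if_pos rfl]
      · rw [swap_apply_of_ne_of_ne h0 h1, if_neg h1]
        obtain ⟨l, rfl⟩ := Fin.exists_succ_eq.2 h0
        exact hfix u l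
  have hψinj : Function.Injective ψ := by
    intro u u' h
    have hz : Z (tail u) = Z (tail u') := by
      rw [← inv_mul_eq_one]
      apply hfree _ (ψ u)
      rw [mul_smul, h, hψ u', ← h, ← hψ u, inv_smul_smul]
    have hval : ∀ l, l ≠ 1 → u l = u' l := by
      intro l hl
      have := congrArg (fun w : Fin (i + 2) ↪ α => w l) h
      simpa [ψ, f, Function.update_apply, hl] using this
    have h1 : u 1 = u' 1 := by
      have hfx : Z (tail u) • u' 1 = u' 1 := by
        rw [hz, ← Fin.succ_zero_eq_one]; exact hfix u' 0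
      obtain ⟨l, hl⟩ := fixed_mem hfree (hZ1 _) (hZf (tail u)) hfx
      by_cases hl1 : l.succ = 1
      · rw [← hl, tail_apply, hl1]
      · exact absurd (u'.injective ((hval _ hl1).symm.trans hl)) hl1
    refine DFunLike.ext _ _ fun l => ?_
    by_cases hl : l = 1
    · rw [hl]; exact h1
    · exact hval l hl
  obtain ⟨u, rfl⟩ := (Finite.injective_iff_surjective.1 hψinj) v
  exact ⟨_, hψ u⟩

end Two

section Three

/-- If the order of the stabiliser of `j` points is divisible by 3, every 3-cycle is induced. -/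
theorem exists_three {i : ℕ}
    (hfree : ∀ g : G, ∀ t : Fin (i + 3) ↪ α, g • t = t → g = 1)
    (htr : IsMultiplyPretransitive G α (i + 2)) (t₀ : Fin (i + 2) ↪ α)
    (hq : 3 ∣ Nat.card (stabilizer G t₀)) (v : Fin (i + 3) ↪ α) :
    ∃ g : G, g • v = pre (swap 0 1 * swap 1 2) v := by
  classical
  haveI := Fact.mk Nat.prime_three
  choose Z hZo hZf using exists_orderOf_fixing htr t₀ (p := 3) hq
  set e := Fintype.equivFin α with he
  let W : (Fin (i + 2) ↪ α) → G := fun S =>
    if e (S 0) < e (S 1) then Z S else (Z (pre (swap 0 1) S))⁻¹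
  have hWo : ∀ S, orderOf (W S) = 3 := by
    intro S; simp only [W]; split_ifs <;> simp [hZo, orderOf_inv]
  have hWf : ∀ S, W S • S = S := by
    intro S; simp only [W]; split_ifs with h
    · exact hZf S
    · rw [inv_smul_eq_iff]
      refine DFunLike.ext _ _ fun l => ?_
      have := (smul_eq_iff_forall _ _).1 (hZf (pre (swap 0 1) S)) (swap 0 1 l)
      simp only [pre_apply, swap_apply_self] at this
      exact this.symm
  have hW1 : ∀ S, W S ≠ 1 := fun S h => by
    have := hWo S
    rw [h, orderOf_one] at this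
    omega
  have hW3 : ∀ S, W S * (W S * W S) = 1 := fun S => by
    have := pow_orderOf_eq_one (W S)
    rwa [hWo, pow_three] at this
  have h01 : (0 : Fin (i + 2)) ≠ 1 := Fin.zero_ne_one
  have hWswap : ∀ S, W (pre (swap 0 1) S) = (W S)⁻¹ := by
    intro S
    have hne : e (S 0) ≠ e (S 1) := fun h => h01 (S.injective (e.injective h))
    simp only [W, pre_apply, swap_apply_left, swap_apply_right]
    rcases lt_or_gt_of_ne hne with h | h
    · rw [if_pos h, if_neg h.not_gt, pre_pre, swap_mul_self, pre_one]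
    · rw [if_pos h, if_neg h.not_gt, inv_inv]
  have h12 : (1 : Fin (i + 3)) ≠ 2 := by
    intro h; have := congrArg Fin.val h; simp [Nat.mod_eq_of_lt (show 2 < i + 3 by omega)] at this
  have h10 : (1 : Fin (i + 3)) ≠ 0 := by simp
  have h20 : (2 : Fin (i + 3)) ≠ 0 := by
    intro h; have := congrArg Fin.val h; simp [Nat.mod_eq_of_lt (show 2 < i + 3 by omega)] at this
  have hs1 : ((0 : Fin (i + 2)).succ : Fin (i + 3)) = 1 := Fin.succ_zero_eq_one
  have hs2 : ((1 : Fin (i + 2)).succ : Fin (i + 3)) = 2 := Fin.succ_one_eq_two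
  have hfix : ∀ (u : Fin (i + 3) ↪ α) (l : Fin (i + 3)), l ≠ 0 →
      W (tail u) • u l = u l := by
    intro u l hl
    obtain ⟨l, rfl⟩ := Fin.exists_succ_eq.2 hl
    exact (smul_eq_iff_forall _ _).1 (hWf (tail u)) l
  let f : (Fin (i + 3) ↪ α) → Fin (i + 3) → α := fun u l =>
    if l = 1 then W (tail u) • u 0
    else if l = 2 then W (tail u) • W (tail u) • u 0 else u l
  have hmove : ∀ u : Fin (i + 3) ↪ α, W (tail u) • u 0 ≠ u 0 := fun u =>
    not_fixed_head hfree (hW1 _) (hWf (tail u))
  have hnew1 : ∀ (u : Fin (i + 3) ↪ α) (l : Fin (i + 3)), W (tail u) • u 0 ≠ u l := by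
    intro u l h
    by_cases hl : l = 0
    · subst hl; exact hmove u h
    · rw [← hfix u l hl, smul_left_cancel_iff] at h
      exact hl (u.injective h).symm
  have hnew2 : ∀ (u : Fin (i + 3) ↪ α) (l : Fin (i + 3)),
      W (tail u) • W (tail u) • u 0 ≠ u l := by
    intro u l h
    by_cases hl : l = 0
    · subst hl
      have := congrArg (fun x => W (tail u) • x) h
      simp only [← mul_smul, hW3, one_smul] at this
      exact hmove u this.symm
    · rw [← hfix u l hl, smul_left_cancel_iff] at h
      exact hnew1 u l h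
  have hinj : ∀ u, Function.Injective (f u) := by
    intro u a b h
    simp only [f] at h
    split_ifs at h with ha hb hb' ha2 hb hb' hb hb'
    · rw [ha, hb]
    · rw [smul_left_cancel_iff] at h; exact absurd h.symm (hmove u)
    · exact absurd h (hnew1 u b)
    · rw [smul_left_cancel_iff] at h; exact absurd h (hmove u)
    · rw [ha2, hb']
    · exact absurd h (hnew2 u b)
    · exact absurd h.symm (hnew1 u a)
    · exact absurd h.symm (hnew2 u a)
    · exact u.injective h
  let ψ : (Fin (i + 3) ↪ α) → (Fin (i + 3) ↪ α) := fun u => ⟨f u, hinj u⟩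
  have hψ : ∀ u, W (tail u) • ψ u = pre (swap 0 1 * swap 1 2) (ψ u) := by
    intro u
    ext l
    change W (tail u) • f u l = f u ((swap (0 : Fin (i + 3)) 1) (swap 1 2 l))
    by_cases hl1 : l = 1
    · subst hl1
      rw [swap_apply_left, swap_apply_of_ne_of_ne h20 h12.symm]
      simp [f, h12.symm]
    · by_cases hl2 : l = 2
      · subst hl2
        rw [swap_apply_right, swap_apply_right]
        simp only [f, if_neg h12.symm, if_true, if_neg h10.symm, if_neg h20.symm]
        rw [← mul_smul, ← mul_smul, mul_assoc, hW3, one_smul]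
      · rw [swap_apply_of_ne_of_ne hl1 hl2]
        by_cases hl0 : l = 0
        · subst hl0
          rw [swap_apply_left]
          simp [f, h10.symm, h20.symm]
        · rw [swap_apply_of_ne_of_ne hl0 hl1]
          simp only [f, if_neg hl1, if_neg hl2]
          exact hfix u l hl0
  have hψinj : Function.Injective ψ := by
    intro u u' h
    have hz : W (tail u) = W (tail u') := by
      rw [← inv_mul_eq_one]
      apply hfree _ (ψ u)
      rw [mul_smul, h, hψ u', ← h, ← hψ u, inv_smul_smul]
    have hval : ∀ l, l ≠ 1 → l ≠ 2 → u l = u' l := by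
      intro l hl1 hl2
      have := congrArg (fun w : Fin (i + 3) ↪ α => w l) h
      simpa [ψ, f, hl1, hl2] using this
    have hpair : ∀ l : Fin (i + 3), l ≠ 0 → (l = 1 ∨ l = 2) → u' l = u 1 ∨ u' l = u 2 := by
      intro l hl0 hl12
      have hfx : W (tail u) • u' l = u' l := by rw [hz]; exact hfix u' l hl0
      obtain ⟨l', hl'⟩ := fixed_mem hfree (hW1 _) (hWf (tail u)) hfx
      rw [tail_apply] at hl'
      by_cases a1 : l'.succ = 1
      · exact Or.inl (by rw [← hl', a1])
      by_cases a2 : l'.succ = 2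
      · exact Or.inr (by rw [← hl', a2])
      exfalso
      rw [hval _ a1 a2] at hl'
      have := u'.injective hl'
      rcases hl12 with rfl | rfl
      · exact a1 this
      · exact a2 this
    have hp1 := hpair 1 h10 (Or.inl rfl)
    have hp2 := hpair 2 h20 (Or.inr rfl)
    have hne : u' 1 ≠ u' 2 := fun e => h12 (u'.injective e)
    rcases hp1 with e1 | e1
    · have e2 : u' 2 = u 2 := hp2.resolve_left fun e => hne (e1.trans e.symm)
      refine DFunLike.ext _ _ fun l => ?_
      by_cases a1 : l = 1
      · rw [a1, e1]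
      by_cases a2 : l = 2
      · rw [a2, e2]
      exact hval l a1 a2
    · have e2 : u' 2 = u 1 := hp2.resolve_right fun e => hne (e1.trans e.symm)
      have htail : tail u' = pre (swap 0 1) (tail u) := by
        refine DFunLike.ext _ _ fun l => ?_
        rw [pre_apply, tail_apply, tail_apply]
        by_cases a0 : l = 0
        · subst a0; rw [swap_apply_left, hs1, hs2, e1]
        by_cases a1 : l = 1
        · subst a1; rw [swap_apply_right, hs1, hs2, e2]
        rw [swap_apply_of_ne_of_ne a0 a1]
        refine (hval _ (fun e => a0 (Fin.succ_injective _ (e.trans hs1.symm))) fun e => a1 ?_).symm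
        exact Fin.succ_injective _ (e.trans hs2.symm)
      exfalso
      rw [htail, hWswap] at hz
      apply hW1 (tail u)
      have h2 : W (tail u) * W (tail u) = 1 := by
        conv_lhs => arg 2; rw [hz]
        exact mul_inv_cancel _
      have := hW3 (tail u)
      rwa [h2, mul_one] at this
  obtain ⟨u, rfl⟩ := (Finite.injective_iff_surjective.1 hψinj) v
  exact ⟨_, hψ u⟩

end Three

/-- The transpositions give every permutation. -/
theorem range_eq_top {i : ℕ}
    (hfree : ∀ g : G, ∀ t : Fin (i + 2) ↪ α, g • t = t → g = 1)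
    (htr : IsMultiplyPretransitive G α (i + 1)) (t₀ : Fin (i + 1) ↪ α)
    (hq : 2 ∣ Nat.card (stabilizer G t₀)) (t : Fin (i + 2) ↪ α) :
    (induced (G := G) t).range = ⊤ := by
  rw [eq_top_iff, ← Equiv.Perm.closure_isSwap, Subgroup.closure_le]
  rintro σ ⟨a, b, hab, rfl⟩
  obtain ⟨c, hc⟩ : ∃ c, c * swap 0 1 * c⁻¹ = swap a b :=
    isConj_iff.1 (Equiv.Perm.isConj_swap Fin.zero_ne_one hab)
  obtain ⟨g, hg⟩ := exists_swap hfree htr t₀ hq (pre c t)
  rw [SetLike.mem_coe, mem_range_induced]
  refine ⟨g, ?_⟩
  rw [smul_pre, pre_pre] at hg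
  have := congrArg (pre c⁻¹) hg
  rw [pre_pre, pre_pre, mul_inv_cancel, pre_one, hc] at this
  exact this

/-- The 3-cycles give every even permutation. -/
theorem alternating_le_range {i : ℕ}
    (hfree : ∀ g : G, ∀ t : Fin (i + 3) ↪ α, g • t = t → g = 1)
    (htr : IsMultiplyPretransitive G α (i + 2)) (t₀ : Fin (i + 2) ↪ α)
    (hq : 3 ∣ Nat.card (stabilizer G t₀)) (t : Fin (i + 3) ↪ α) :
    alternatingGroup (Fin (i + 3)) ≤ (induced (G := G) t).range := by
  have h12 : (1 : Fin (i + 3)) ≠ 2 := by
    intro h; have := congrArg Fin.val h; simp [Nat.mod_eq_of_lt (show 2 < i + 3 by omega)] at this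
  have h02 : (0 : Fin (i + 3)) ≠ 2 := by
    intro h; have := congrArg Fin.val h; simp [Nat.mod_eq_of_lt (show 2 < i + 3 by omega)] at this
  have hγ : (swap (0 : Fin (i + 3)) 1 * swap 1 2).IsThreeCycle := by
    rw [swap_comm (0 : Fin (i + 3)) 1]
    exact Equiv.Perm.isThreeCycle_swap_mul_swap_same (by simp) h12 h02
  rw [← Equiv.Perm.closure_three_cycles_eq_alternating, Subgroup.closure_le]
  intro σ (hσ : σ.IsThreeCycle)
  obtain ⟨c, hc⟩ : ∃ c, c * (swap 0 1 * swap 1 2) * c⁻¹ = σ :=
    isConj_iff.1 (Equiv.Perm.isConj_iff_cycleType_eq.2 (hγ.cycleType.trans hσ.cycleType.symm))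
  obtain ⟨g, hg⟩ := exists_three hfree htr t₀ hq (pre c t)
  rw [SetLike.mem_coe, mem_range_induced]
  refine ⟨g, ?_⟩
  rw [smul_pre, pre_pre] at hg
  have := congrArg (pre c⁻¹) hg
  rw [pre_pre, pre_pre, mul_inv_cancel, pre_one, hc] at this
  exact this

end Cfsg.Agent.LWCycles
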