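import Mathlib.GroupTheory.GroupAction.MultipleTransitivity
import Mathlib.GroupTheory.FixedPointFree
import Mathlib.GroupTheory.GroupAction.Quotient
import Mathlib.GroupTheory.Perm.Cycle.Type

/-!
Four-transitive groups in which only the identity fixes five points and the elements fixing four
points have odd order, prime to 3 unless the degree is even: no element other than the identity
fixes four points.
-/

set_option autoImplicit false
set_option linter.style.haveILetI false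

namespace Cfsg.Agent.LWFour

open MulAction

variable {G Ω : Type*} [Group G] [MulAction G Ω]

/-- The standing hypotheses. -/
structure Setup (G Ω : Type*) [Group G] [MulAction G Ω] : Prop where
  quad : ∀ {a b c d a' b' c' d' : Ω}, a ≠ b → a ≠ c → a ≠ d → b ≠ c → b ≠ d → c ≠ d →
    a' ≠ b' → a' ≠ c' → a' ≠ d' → b' ≠ c' → b' ≠ d' → c' ≠ d' →
    ∃ g : G, g • a = a' ∧ g • b = b' ∧ g • c = c' ∧ g • d = d'
  five : ∀ {a b c d e : Ω}, a ≠ b → a ≠ c → a ≠ d → a ≠ e → b ≠ c → b ≠ d → b ≠ e → c ≠ d →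
    c ≠ e → d ≠ e → ∀ g : G, g • a = a → g • b = b → g • c = c → g • d = d → g • e = e → g = 1
  four : ∀ {a b c d : Ω}, a ≠ b → a ≠ c → a ≠ d → b ≠ c → b ≠ d → c ≠ d →
    ∀ g : G, g • a = a → g • b = b → g • c = c → g • d = d →
      Odd (orderOf g) ∧ (¬ 3 ∣ orderOf g ∨ Even (Nat.card Ω))
  big : 6 ≤ Nat.card Ω

theorem card_fixed_modEq [Fintype Ω] [DecidableEq Ω] {p : ℕ} [Fact p.Prime] (g : G)
    (hg : g ^ p = 1) :
    Fintype.card Ω ≡ (Finset.univ.filter fun x : Ω => g • x = x).card [MOD p] := by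
  set f : Function.End Ω := fun x => g • x with hfdef
  have hf : ∀ m : ℕ, (f ^ m : Function.End Ω) = fun x => g ^ m • x := by
    intro m
    induction m with
    | zero => funext x; rw [pow_zero, pow_zero, one_smul]; rfl
    | succ m ih =>
      funext x
      rw [pow_succ, pow_succ, ih, mul_smul]
      rfl
  have h := Equiv.Perm.card_fixedPoints_modEq (f := f) (p := p)
    (n := 1) (by rw [pow_one, hf, hg]; funext x; rw [one_smul]; rfl)
  have e : Fintype.card f.fixedPoints = Fintype.card {x : Ω // g • x = x} :=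
    Fintype.card_congr (Equiv.subtypeEquivRight fun x => Iff.rfl)
  rw [e, Fintype.card_subtype] at h
  exact h

variable (hS : Setup G Ω)

include hS

theorem order_odd {a b c d : Ω} (hab : a ≠ b) (hac : a ≠ c) (had : a ≠ d) (hbc : b ≠ c)
    (hbd : b ≠ d) (hcd : c ≠ d) {g : G} (ga : g • a = a) (gb : g • b = b) (gc : g • c = c)
    (gd : g • d = d) : Odd (orderOf g) := by
  exact (hS.four hab hac had hbc hbd hcd g ga gb gc gd).1

theorem eq_one_of_sq {a b c d : Ω} (hab : a ≠ b) (hac : a ≠ c) (had : a ≠ d) (hbc : b ≠ c)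
    (hbd : b ≠ d) (hcd : c ≠ d) {g : G} (ga : g • a = a) (gb : g • b = b) (gc : g • c = c)
    (gd : g • d = d) (h2 : g * g = 1) : g = 1 := by
  obtain ⟨t, ht⟩ := order_odd hS hab hac had hbc hbd hcd ga gb gc gd
  have := pow_orderOf_eq_one g
  rw [ht, pow_succ, pow_mul, pow_two, h2, one_pow, one_mul] at this
  exact this

/-- The odd power of an element whose square fixes four points. -/
theorem exists_involution {a b c d : Ω} (hab : a ≠ b) (hac : a ≠ c) (had : a ≠ d) (hbc : b ≠ c)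
    (hbd : b ≠ d) (hcd : c ≠ d) {g : G} (ga : g • g • a = a) (gb : g • g • b = b)
    (gc : g • g • c = c) (gd : g • g • d = d) :
    ∃ z : G, z * z = 1 ∧ z • a = g • a ∧ z • b = g • b ∧ z • c = g • c ∧ z • d = g • d := by
  have hfix : ∀ x : Ω, g • g • x = x → ∀ t : ℕ, (g * g) ^ t • x = x := by
    intro x hx t
    induction t with
    | zero => simp
    | succ t ih => rw [pow_succ, mul_smul, mul_smul, hx, ih]
  obtain ⟨t, ht⟩ := order_odd hS hab hac had hbc hbd hcd (g := g * g) (by rw [mul_smul, ga])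
    (by rw [mul_smul, gb]) (by rw [mul_smul, gc]) (by rw [mul_smul, gd])
  have hpow : g ^ (2 * t + 1) = g * (g * g) ^ t := by rw [pow_succ', pow_mul, pow_two]
  refine ⟨g ^ (2 * t + 1), ?_, ?_, ?_, ?_, ?_⟩
  · rw [← pow_add, ← two_mul, pow_mul, pow_two, ← ht]
    exact pow_orderOf_eq_one _
  all_goals rw [hpow, mul_smul, hfix]
  all_goals assumption

/-- An involution moves two pairs. -/
theorem exists_two_cycles [Finite Ω] {a b c d : Ω} (hab : a ≠ b) (hcd : c ≠ d) {u : G}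
    (hu : u * u = 1) (ua : u • a = b) (ub : u • b = a) (uc : u • c = c) (ud : u • d = d) :
    ∃ g h : Ω, g ≠ h ∧ g ≠ a ∧ g ≠ b ∧ h ≠ a ∧ h ≠ b ∧ u • g = h ∧ u • h = g := by
  classical
  have hac : a ≠ c := fun e => by subst e; exact hab (uc.symm.trans ua)
  have had : a ≠ d := fun e => by subst e; exact hab (ud.symm.trans ua)
  have hbc : b ≠ c := fun e => by subst e; exact hab (ub.symm.trans uc)
  have hbd : b ≠ d := fun e => by subst e; exact hab (ub.symm.trans ud)
  by_contra hno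
  have hrest : ∀ x, x ≠ a → x ≠ b → u • x = x := by
    intro x hxa hxb
    by_contra hx
    refine hno ⟨x, u • x, Ne.symm hx, hxa, hxb, ?_, ?_, rfl, ?_⟩
    · intro e
      apply hxb
      have := congrArg (u • ·) e
      simp only [← mul_smul, hu, one_smul] at this
      rw [this, ua]
    · intro e
      apply hxa
      have := congrArg (u • ·) e
      simp only [← mul_smul, hu, one_smul] at this
      rw [this, ub]
    · rw [← mul_smul, hu, one_smul]
  haveI := Fintype.ofFinite Ω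
  obtain ⟨e, he⟩ : ∃ e, e ∉ ({a, b, c, d} : Finset Ω) := by
    by_contra h'
    push Not at h'
    have h1 : Fintype.card Ω ≤ ({a, b, c, d} : Finset Ω).card :=
      Finset.card_le_card fun x _ => h' x
    have h2 := (Finset.card_le_four (a := a) (b := b) (c := c) (d := d))
    have := hS.big
    rw [Nat.card_eq_fintype_card] at this
    omega
  obtain ⟨f, hf⟩ : ∃ f, f ∉ ({a, b, c, d, e} : Finset Ω) := by
    by_contra h'
    push Not at h'
    have h1 : Fintype.card Ω ≤ ({a, b, c, d, e} : Finset Ω).card :=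
      Finset.card_le_card fun x _ => h' x
    have h2 := (Finset.card_le_five (a := a) (b := b) (c := c) (d := d) (e := e))
    have := hS.big
    rw [Nat.card_eq_fintype_card] at this
    omega
  simp only [Finset.mem_insert, Finset.mem_singleton, not_or] at he hf
  have := eq_one_of_sq hS hcd (Ne.symm he.2.2.1) (Ne.symm hf.2.2.1) (Ne.symm he.2.2.2)
    (Ne.symm hf.2.2.2.1) (Ne.symm hf.2.2.2.2) uc ud (hrest e he.1 he.2.1) (hrest f hf.1 hf.2.1) hu
  rw [this, one_smul] at ua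
  exact hab ua

omit hS in
/-- A double transposition on four given points. -/
def IsDouble (z : G) (a b c d : Ω) : Prop :=
  z * z = 1 ∧ z • a = b ∧ z • b = a ∧ z • c = d ∧ z • d = c

theorem exists_double {a b c d : Ω} (hab : a ≠ b) (hac : a ≠ c) (had : a ≠ d) (hbc : b ≠ c)
    (hbd : b ≠ d) (hcd : c ≠ d) : ∃ z : G, IsDouble z a b c d := by
  obtain ⟨g, ga, gb, gc, gd⟩ := hS.quad (G := G) hab hac had hbc hbd hcd
    (Ne.symm hab) hbd hbc had hac (Ne.symm hcd)
  obtain ⟨z, h2, za, zb, zc, zd⟩ := exists_involution hS hab hac had hbc hbd hcd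
    (g := g) (by rw [ga, gb]) (by rw [gb, ga]) (by rw [gc, gd]) (by rw [gd, gc])
  exact ⟨z, h2, za.trans ga, zb.trans gb, zc.trans gc, zd.trans gd⟩

theorem double_conj {a b c d : Ω} (hab : a ≠ b) (hac : a ≠ c) (had : a ≠ d) (hbc : b ≠ c)
    (hbd : b ≠ d) (hcd : c ≠ d) {z w : G} (hz : IsDouble z a b c d) (hw : IsDouble w a b c d) :
    ∃ m : G, m * z * m⁻¹ = w := by
  obtain ⟨z2, za, zb, zc, zd⟩ := hz
  obtain ⟨w2, wa, wb, wc, wd⟩ := hw
  have zi : z⁻¹ = z := inv_eq_of_mul_eq_one_right z2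
  have wi : w⁻¹ = w := inv_eq_of_mul_eq_one_right w2
  obtain ⟨t, ht⟩ := order_odd hS hab hac had hbc hbd hcd (g := z * w)
    (by rw [mul_smul, wa, zb]) (by rw [mul_smul, wb, za]) (by rw [mul_smul, wc, zd])
    (by rw [mul_smul, wd, zc])
  set n := z * w with hn
  have hnt : n ^ (t + 1) * n ^ (t + 1) = n := by
    rw [← pow_add, show t + 1 + (t + 1) = (2 * t + 1) + 1 by omega, pow_succ, ← ht,
      pow_orderOf_eq_one, one_mul]
  have hzn : z * n * z⁻¹ = n⁻¹ := by
    rw [hn, mul_inv_rev, zi, wi]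
    calc z * (z * w) * z = (z * z) * (w * z) := by simp only [mul_assoc]
      _ = w * z := by rw [z2, one_mul]
  set m := n ^ (t + 1) with hm
  have hzm : z * m * z⁻¹ = m⁻¹ := by
    rw [hm, ← conj_pow, hzn, inv_pow]
  refine ⟨m⁻¹, ?_⟩
  rw [inv_inv]
  calc m⁻¹ * z * m = (z * m * z⁻¹) * z * m := by rw [hzm]
    _ = z * (m * m) := by simp [mul_assoc]
    _ = z * n := by rw [hnt]
    _ = w := by rw [hn, ← mul_assoc, z2, one_mul]

/-- A double transposition fixes some point. -/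
theorem double_fix [Finite Ω] {a b c d : Ω} (hab : a ≠ b) (hac : a ≠ c) (had : a ≠ d)
    (hbc : b ≠ c) (hbd : b ≠ d) (hcd : c ≠ d) {z : G} (hz : IsDouble z a b c d) :
    ∃ e : Ω, z • e = e := by
  obtain ⟨g, ga, gb, gc, gd⟩ := hS.quad (G := G) hab hac had hbc hbd hcd
    (Ne.symm hab) hbc hbd hac had hcd
  obtain ⟨u, u2, ua, ub, uc, ud⟩ := exists_involution hS hab hac had hbc hbd hcd
    (g := g) (by rw [ga, gb]) (by rw [gb, ga]) (by rw [gc, gc]) (by rw [gd, gd])
  rw [ga] at ua; rw [gb] at ub; rw [gc] at uc; rw [gd] at ud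
  obtain ⟨x, y, hxy, hxa, hxb, hya, hyb, ux, uy⟩ := exists_two_cycles hS hab hcd u2 ua ub uc ud
  obtain ⟨k, ka, kb, kx, ky⟩ := hS.quad (G := G) hab (Ne.symm hxa) (Ne.symm hya) (Ne.symm hxb)
    (Ne.symm hyb) hxy hab hac had hbc hbd hcd
  have hk : ∀ {p q p' q' : Ω}, k • p = p' → k • q = q' → u • p = q → (k * u * k⁻¹) • p' = q' := by
    intro p q p' q' hp hq hu
    rw [← hp, mul_smul, mul_smul, inv_smul_smul, hu, hq]
  have hd : IsDouble (k * u * k⁻¹) a b c d := by
    refine ⟨?_, hk ka kb ua, hk kb ka ub, hk kx ky ux, hk ky kx uy⟩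
    rw [show k * u * k⁻¹ * (k * u * k⁻¹) = k * (u * u) * k⁻¹ by simp [mul_assoc], u2, mul_one,
      mul_inv_cancel]
  obtain ⟨m, hm⟩ := double_conj hS hab hac had hbc hbd hcd hd hz
  refine ⟨(m * k) • c, ?_⟩
  rw [← hm]
  simp [mul_smul, uc]

/-- An element fixing four points and commuting with their double transposition is trivial. -/
theorem eq_one_of_commute_double [Finite Ω] {a b c d : Ω} (hab : a ≠ b) (hac : a ≠ c)
    (had : a ≠ d) (hbc : b ≠ c) (hbd : b ≠ d) (hcd : c ≠ d) {z : G} (hz : IsDouble z a b c d)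
    {n : G} (na : n • a = a) (nb : n • b = b) (nc : n • c = c) (nd : n • d = d)
    (hcomm : n * z = z * n) : n = 1 := by
  classical
  obtain ⟨e, he⟩ := double_fix hS hab hac had hbc hbd hcd hz
  obtain ⟨z2, za, zb, zc, zd⟩ := hz
  have hea : a ≠ e := fun h => by subst h; exact hab (he.symm.trans za)
  have heb : b ≠ e := fun h => by subst h; exact hab (zb.symm.trans he)
  have hec : c ≠ e := fun h => by subst h; exact hcd (he.symm.trans zc)
  have hed : d ≠ e := fun h => by subst h; exact hcd (zd.symm.trans he)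
  refine hS.five hab hac had hea hbc hbd heb hcd hec hed n na nb nc nd ?_
  haveI := Fintype.ofFinite Ω
  haveI := Fact.mk Nat.prime_two
  have hsub : ∀ y : Ω, y ∈ orbit (Subgroup.zpowers n) e → z • y = y := by
    rintro _ ⟨⟨w, hw⟩, rfl⟩
    have hcw : w * z = z * w := by
      obtain ⟨i, rfl⟩ := Subgroup.mem_zpowers_iff.1 hw
      exact ((show Commute n z from hcomm).zpow_left i).eq
    change z • w • e = w • e
    rw [← mul_smul, ← hcw, mul_smul, he]
  set Φ : Finset Ω := Finset.univ.filter (fun y => z • y = y) with hΦ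
  have hΦ3 : Φ.card ≤ 3 := by
    by_contra h4
    obtain ⟨s, hs, hs4⟩ := Finset.exists_subset_card_eq (show 4 ≤ Φ.card by omega)
    obtain ⟨p, q, r, w, hpq, hpr, hpw, hqr, hqw, hrw, rfl⟩ := Finset.card_eq_four.1 hs4
    have hfix : ∀ y ∈ ({p, q, r, w} : Finset Ω), z • y = y := fun y hy =>
      (Finset.mem_filter.1 (hs hy)).2
    have := eq_one_of_sq hS hpq hpr hpw hqr hqw hrw (hfix p (by simp)) (hfix q (by simp))
      (hfix r (by simp)) (hfix w (by simp)) z2
    rw [this, one_smul] at za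
    exact hab za
  have hleΦ : Nat.card (orbit (Subgroup.zpowers n) e) ≤ Φ.card := by
    rw [Nat.card_eq_card_toFinset]
    exact Finset.card_le_card fun y hy => Finset.mem_filter.2
      ⟨Finset.mem_univ y, hsub y (Set.mem_toFinset.1 hy)⟩
  have hle := hleΦ.trans hΦ3
  have hdvd : Nat.card (orbit (Subgroup.zpowers n) e) ∣ orderOf n := by
    rw [← Nat.card_zpowers]
    exact ⟨Nat.card (stabilizer (Subgroup.zpowers n) e), by
      rw [← Nat.card_prod]
      exact (Nat.card_congr (MulAction.orbitProdStabilizerEquivGroup _ e)).symm⟩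
  have hfour := hS.four hab hac had hbc hbd hcd n na nb nc nd
  have hpos : Nat.card (orbit (Subgroup.zpowers n) e) ≠ 0 :=
    Nat.card_ne_zero.2 ⟨⟨⟨e, mem_orbit_self e⟩⟩, inferInstance⟩
  have hone : Nat.card (orbit (Subgroup.zpowers n) e) = 1 := by
    have hodd : ¬ 2 ∣ Nat.card (orbit (Subgroup.zpowers n) e) := fun h2 =>
      Nat.not_even_iff_odd.2 hfour.1 (even_iff_two_dvd.2 (h2.trans hdvd))
    rcases hfour.2 with h3 | heven
    · have h3' : ¬ 3 ∣ Nat.card (orbit (Subgroup.zpowers n) e) := fun h => h3 (h.trans hdvd)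
      generalize Nat.card (orbit (Subgroup.zpowers n) e) = m at hle hodd h3' hpos
      omega
    · have hmod := card_fixed_modEq (Ω := Ω) (p := 2) z (by rw [pow_two, z2])
      rw [← hΦ, Nat.ModEq] at hmod
      rw [Nat.card_eq_fintype_card, Nat.even_iff] at heven
      generalize Nat.card (orbit (Subgroup.zpowers n) e) = m at hleΦ hodd hpos
      omega
  obtain ⟨hss, -⟩ := Nat.card_eq_one_iff_unique.1 hone
  exact congrArg Subtype.val (hss.elim
    (⟨n • e, ⟨⟨n, Subgroup.mem_zpowers n⟩, rfl⟩⟩ : orbit (Subgroup.zpowers n) e)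
    ⟨e, mem_orbit_self e⟩)

/-- A double transposition inverts the stabiliser of the four points. -/
theorem double_inverts [Finite G] [Finite Ω] {a b c d : Ω} (hab : a ≠ b) (hac : a ≠ c)
    (had : a ≠ d) (hbc : b ≠ c) (hbd : b ≠ d) (hcd : c ≠ d) {z : G} (hz : IsDouble z a b c d)
    {n : G} (hn : n ∈ stabilizer G a ⊓ stabilizer G b ⊓ stabilizer G c ⊓ stabilizer G d) :
    z * n * z⁻¹ = n⁻¹ := by
  set Q : Subgroup G := stabilizer G a ⊓ stabilizer G b ⊓ stabilizer G c ⊓ stabilizer G d with hQ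
  obtain ⟨z2, za, zb, zc, zd⟩ := id hz
  have zi : z⁻¹ = z := inv_eq_of_mul_eq_one_right z2
  have hstab : ∀ x : Q, z * (x : G) * z⁻¹ ∈ Q := by
    intro x
    have hx := x.2
    simp only [hQ, Subgroup.mem_inf, mem_stabilizer_iff] at hx ⊢
    obtain ⟨⟨⟨xa, xb⟩, xc⟩, xd⟩ := hx
    simp [mul_smul, zi, za, zb, zc, zd, xa, xb, xc, xd]
  let φ : Q →* Q :=
    { toFun := fun x => ⟨z * (x : G) * z⁻¹, hstab x⟩
      map_one' := by ext; simp
      map_mul' := fun x y => by ext; simp }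
  have hfpf : MonoidHom.FixedPointFree φ := by
    intro x hx
    have h : z * (x : G) * z⁻¹ = x := congrArg Subtype.val hx
    have hx' := x.2
    simp only [hQ, Subgroup.mem_inf, mem_stabilizer_iff] at hx'
    obtain ⟨⟨⟨xa, xb⟩, xc⟩, xd⟩ := hx'
    exact Subtype.ext (eq_one_of_commute_double hS hab hac had hbc hbd hcd hz xa xb xc xd
      (mul_inv_eq_iff_eq_mul.1 h).symm)
  have hinv : Function.Involutive φ := fun x => by
    apply Subtype.ext
    change z * (z * (x : G) * z⁻¹) * z⁻¹ = x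
    rw [zi]
    calc z * (z * (x : G) * z) * z = (z * z) * (x : G) * (z * z) := by simp only [mul_assoc]
      _ = x := by rw [z2, one_mul, mul_one]
  exact congrArg Subtype.val (congrFun (MonoidHom.FixedPointFree.coe_eq_inv_of_involutive hfpf hinv)
    ⟨n, hn⟩ :)

/-- Only the identity fixes four points. -/
theorem eq_one [Finite G] [Finite Ω] {a b c d : Ω} (hab : a ≠ b) (hac : a ≠ c) (had : a ≠ d)
    (hbc : b ≠ c) (hbd : b ≠ d) (hcd : c ≠ d) {n : G} (na : n • a = a) (nb : n • b = b)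
    (nc : n • c = c) (nd : n • d = d) : n = 1 := by
  set Q : Subgroup G := stabilizer G a ⊓ stabilizer G b ⊓ stabilizer G c ⊓ stabilizer G d with hQ
  obtain ⟨z₁, h₁⟩ := exists_double hS (G := G) hab hac had hbc hbd hcd
  obtain ⟨z₂, h₂⟩ := exists_double hS (G := G) hac hab had (Ne.symm hbc) hcd hbd
  obtain ⟨z₃, h₃⟩ := exists_double hS (G := G) had hab hac (Ne.symm hbd) (Ne.symm hcd) hbc
  have i₁ : ∀ x ∈ Q, z₁ * x * z₁⁻¹ = x⁻¹ := fun x hx =>
    double_inverts hS hab hac had hbc hbd hcd h₁ hx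
  have i₂ : ∀ x ∈ Q, z₂ * x * z₂⁻¹ = x⁻¹ := fun x hx =>
    double_inverts hS hac hab had (Ne.symm hbc) hcd hbd h₂ (by
      simp only [hQ, Subgroup.mem_inf] at hx ⊢
      exact ⟨⟨⟨hx.1.1.1, hx.1.2⟩, hx.1.1.2⟩, hx.2⟩)
  have i₃ : ∀ x ∈ Q, z₃ * x * z₃⁻¹ = x⁻¹ := fun x hx =>
    double_inverts hS had hab hac (Ne.symm hbd) (Ne.symm hcd) hbc h₃ (by
      simp only [hQ, Subgroup.mem_inf] at hx ⊢
      exact ⟨⟨⟨hx.1.1.1, hx.2⟩, hx.1.1.2⟩, hx.1.2⟩)
  have hnQ : n ∈ Q := by
    simp only [hQ, Subgroup.mem_inf, mem_stabilizer_iff]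
    exact ⟨⟨⟨na, nb⟩, nc⟩, nd⟩
  obtain ⟨-, a₁, b₁, c₁, d₁⟩ := h₁
  obtain ⟨-, a₂, c₂, b₂, d₂⟩ := h₂
  obtain ⟨q₃, a₃, d₃, b₃, c₃⟩ := h₃
  set m := z₃ * (z₁ * z₂) with hm
  have hmQ : m ∈ Q := by
    simp only [hQ, hm, Subgroup.mem_inf, mem_stabilizer_iff]
    simp [mul_smul, a₁, b₁, c₁, d₁, a₂, b₂, c₂, d₂, a₃, b₃, c₃, d₃]
  have hcomm : m * n * m⁻¹ = n := by
    have e := i₁ (n * m) (mul_mem hnQ hmQ)
    rw [show z₁ * (n * m) * z₁⁻¹ = (z₁ * n * z₁⁻¹) * (z₁ * m * z₁⁻¹) by simp [mul_assoc],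
      i₁ n hnQ, i₁ m hmQ, mul_inv_rev] at e
    have : m * n = n * m := by
      have := congrArg (·⁻¹) e
      simpa using this
    rw [this, mul_inv_cancel_right]
  have hA : (z₁ * z₂) * n * (z₁ * z₂)⁻¹ = n := by
    rw [show (z₁ * z₂) * n * (z₁ * z₂)⁻¹ = z₁ * (z₂ * n * z₂⁻¹) * z₁⁻¹ by simp [mul_assoc],
      i₂ n hnQ, i₁ _ (inv_mem hnQ), inv_inv]
  have hB : (z₁ * z₂) * n * (z₁ * z₂)⁻¹ = n⁻¹ := by
    have hw : z₁ * z₂ = z₃⁻¹ * m := by rw [hm, inv_mul_cancel_left]
    rw [hw, show z₃⁻¹ * m * n * (z₃⁻¹ * m)⁻¹ = z₃⁻¹ * (m * n * m⁻¹) * z₃ by simp [mul_assoc],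
      hcomm, inv_eq_of_mul_eq_one_right q₃]
    have := i₃ n hnQ
    rwa [inv_eq_of_mul_eq_one_right q₃] at this
  refine eq_one_of_sq hS hab hac had hbc hbd hcd na nb nc nd ?_
  rw [hA] at hB
  conv_lhs => arg 1; rw [hB]
  exact inv_mul_cancel n

end Cfsg.Agent.LWFour
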