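import Cfsg.Agent.Lib.Perm.SharpFour
import Cfsg.Agent.Lib.Perm.LWFour

/-!
In a sharply 4-transitive group of degree 11, and in a sharply 5-transitive group of degree 12,
some set of 5, respectively 6, points has every transposition induced on it.
-/

set_option autoImplicit false
set_option linter.style.haveILetI false
set_option linter.unusedSectionVars false

namespace Cfsg.Agent.LWEleven

open MulAction Cfsg.Agent.SharpFour

variable {G Ω : Type*} [Group G] [MulAction G Ω] [Fintype Ω] [DecidableEq Ω]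

/-- `g` exchanges `p, q` and fixes `r, s`. -/
def IsSw (g : G) (p q r s : Ω) : Prop := g • p = q ∧ g • q = p ∧ g • r = r ∧ g • s = s

theorem IsSw.comm {g : G} {p q r s : Ω} (h : IsSw g p q r s) : IsSw g p q s r :=
  ⟨h.1, h.2.1, h.2.2.2, h.2.2.1⟩

/-- Pairwise distinct. -/
def Dist (a b c d : Ω) : Prop := a ≠ b ∧ a ≠ c ∧ a ≠ d ∧ b ≠ c ∧ b ≠ d ∧ c ≠ d

theorem fixed_le (hS : SharpK G Ω 4) {g : G} (hg : g ≠ 1) :
    (Finset.univ.filter fun x : Ω => g • x = x).card ≤ 3 := by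
  by_contra h
  obtain ⟨s, hs, hs4⟩ := Finset.exists_subset_card_eq
    (show 4 ≤ (Finset.univ.filter fun x : Ω => g • x = x).card by omega)
  obtain ⟨p, q, r, w, hpq, hpr, hpw, hqr, hqw, hrw, rfl⟩ := Finset.card_eq_four.1 hs4
  have hfix : ∀ y ∈ ({p, q, r, w} : Finset Ω), g • y = y := fun y hy =>
    (Finset.mem_filter.1 (hs hy)).2
  exact hg (eq_one_quad hS hpq hpr hpw hqr hqw hrw (hfix p (by simp)) (hfix q (by simp))
    (hfix r (by simp)) (hfix w (by simp)))

theorem exists_sw (hS : SharpK G Ω 4) {a b c d : Ω} (h : Dist a b c d) :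
    ∃ g : G, IsSw g a b c d := by
  obtain ⟨hab, hac, had, hbc, hbd, hcd⟩ := h
  exact exists_quad hS hab hac had hbc hbd hcd hab.symm hbc hbd hac had hcd

theorem sw_sq (hS : SharpK G Ω 4) {a b c d : Ω} (h : Dist a b c d) {g : G}
    (hg : IsSw g a b c d) : g * g = 1 := by
  obtain ⟨hab, hac, had, hbc, hbd, hcd⟩ := h
  obtain ⟨g1, g2, g3, g4⟩ := hg
  exact eq_one_quad hS hab hac had hbc hbd hcd (by rw [mul_smul, g1, g2]) (by rw [mul_smul, g2, g1])
    (by rw [mul_smul, g3, g3]) (by rw [mul_smul, g4, g4])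

theorem sw_ne_one {a b c d : Ω} (h : Dist a b c d) {g : G} (hg : IsSw g a b c d) : g ≠ 1 :=
  fun e => h.1 (by rw [← hg.1, e, one_smul])

theorem third (hS : SharpK G Ω 4) (h11 : Fintype.card Ω = 11) {a b c d : Ω} (h : Dist a b c d)
    {g : G} (hg : IsSw g a b c d) :
    ∃ e : Ω, e ≠ a ∧ e ≠ b ∧ e ≠ c ∧ e ≠ d ∧ g • e = e ∧
      ∀ x, g • x = x → x = c ∨ x = d ∨ x = e := by
  classical
  haveI := Fact.mk Nat.prime_two
  set Φ := Finset.univ.filter fun x : Ω => g • x = x with hΦ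
  have hle : Φ.card ≤ 3 := fixed_le hS (sw_ne_one h hg)
  have hmod := LWFour.card_fixed_modEq (Ω := Ω) (p := 2) g (by rw [pow_two, sw_sq hS h hg])
  rw [h11, ← hΦ, Nat.ModEq] at hmod
  have hsub : ({c, d} : Finset Ω) ⊆ Φ := by
    intro x hx
    simp only [Finset.mem_insert, Finset.mem_singleton] at hx
    rcases hx with rfl | rfl <;> simp [hΦ, hg.2.2.1, hg.2.2.2]
  have h2 := Finset.card_le_card hsub
  rw [Finset.card_pair h.2.2.2.2.2] at h2
  have h1 : (Φ \ {c, d}).card = 1 := by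
    rw [Finset.card_sdiff_of_subset hsub, Finset.card_pair h.2.2.2.2.2]
    omega
  obtain ⟨e, he⟩ := Finset.card_eq_one.1 h1
  have hmem : e ∈ Φ \ {c, d} := he ▸ Finset.mem_singleton_self e
  simp only [Finset.mem_sdiff, Finset.mem_insert, Finset.mem_singleton, hΦ, Finset.mem_filter,
    Finset.mem_univ, true_and, not_or] at hmem
  refine ⟨e, fun k => h.1 ?_, fun k => h.1 ?_, hmem.2.1, hmem.2.2, hmem.1, fun x hx => ?_⟩
  · rw [k] at hmem; rw [← hg.1, hmem.1]
  · rw [k] at hmem; rw [← hg.2.1, hmem.1]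
  · by_cases hxc : x = c
    · exact Or.inl hxc
    by_cases hxd : x = d
    · exact Or.inr (Or.inl hxd)
    refine Or.inr (Or.inr (Finset.mem_singleton.1 (he ▸ ?_)))
    simp [hΦ, hx, hxc, hxd]

/-- Disjoint transpositions share the third fixed point. -/
theorem third_comm (hS : SharpK G Ω 4) (h11 : Fintype.card Ω = 11) {a b c d : Ω}
    (h : Dist a b c d) {u v : G} (hu : IsSw u a b c d) (hv : IsSw v c d a b) {e : Ω}
    (he : u • e = e) (hec : e ≠ c) (hed : e ≠ d) : v • e = e := by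
  obtain ⟨hab, hac, had, hbc, hbd, hcd⟩ := id h
  obtain ⟨u1, u2, u3, u4⟩ := id hu
  obtain ⟨v1, v2, v3, v4⟩ := id hv
  have huv : u * v = v * u := eq_quad hS hab hac had hbc hbd hcd
    (by rw [mul_smul, mul_smul, v3, u1, v4]) (by rw [mul_smul, mul_smul, v4, u2, v3])
    (by rw [mul_smul, mul_smul, v1, u3, v1, u4]) (by rw [mul_smul, mul_smul, v2, u4, v2, u3])
  have hfix : u • v • e = v • e := by rw [← mul_smul, huv, mul_smul, he]
  obtain ⟨e', -, -, -, -, -, he'⟩ := third hS h11 h hu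
  rcases he' _ hfix with k | k | k
  · exact absurd (smul_left_cancel v (k.trans v2.symm)) hed
  · exact absurd (smul_left_cancel v (k.trans v1.symm)) hec
  · rcases he' e he with k' | k' | k'
    · exact absurd k' hec
    · exact absurd k' hed
    · rw [k, k']

/-- Adjacent transpositions share the third fixed point. -/
theorem third_adj (hS : SharpK G Ω 4) (h11 : Fintype.card Ω = 11) {a b c d : Ω}
    (h : Dist a b c d) {u₁ u₂ : G} (h₁ : IsSw u₁ a b c d) (h₂ : IsSw u₂ a c b d) {e : Ω}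
    (he : u₁ • e = e) (hec : e ≠ c) (hed : e ≠ d) : u₂ • e = e := by
  classical
  haveI := Fact.mk Nat.prime_three
  obtain ⟨hab, hac, had, hbc, hbd, hcd⟩ := id h
  obtain ⟨e₁, -, -, -, -, -, he₁⟩ := third hS h11 h h₁
  obtain ⟨e₂, hea, -, heb, hedd, he₂fix, he₂⟩ :=
    third hS h11 (a := a) (b := c) (c := b) (d := d) ⟨hac, hab, had, hbc.symm, hcd, hbd⟩ h₂
  have hee : e = e₁ := ((he₁ e he).resolve_left hec).resolve_left hed
  by_contra hne
  have hu1 : u₁ * u₁ = 1 := sw_sq hS h h₁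
  have hu2 : u₂ * u₂ = 1 := sw_sq hS ⟨hac, hab, had, hbc.symm, hcd, hbd⟩ h₂
  obtain ⟨a1, b1, c1, d1⟩ := h₁
  obtain ⟨a2, c2, b2, d2⟩ := h₂
  set w := u₂ * u₁ with hw
  have wa : w • a = b := by rw [hw, mul_smul, a1, b2]
  have wb : w • b = c := by rw [hw, mul_smul, b1, a2]
  have wc : w • c = a := by rw [hw, mul_smul, c1, c2]
  have wd : w • d = d := by rw [hw, mul_smul, d1, d2]
  have hw3 : w ^ 3 = 1 := by
    refine eq_one_quad hS hab hac had hbc hbd hcd ?_ ?_ ?_ ?_ <;>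
      simp only [pow_succ, pow_zero, one_mul, mul_smul, wa, wb, wc, wd]
  have hw1 : w ≠ 1 := fun k => hab (by rw [← wa, k, one_smul])
  set Φ := Finset.univ.filter fun x : Ω => w • x = x with hΦ
  have hle : Φ.card ≤ 3 := fixed_le hS hw1
  have hmod := LWFour.card_fixed_modEq (Ω := Ω) (p := 3) w hw3
  rw [h11, ← hΦ, Nat.ModEq] at hmod
  obtain ⟨g, hg, hgd⟩ := Finset.exists_mem_ne (show 1 < Φ.card by omega) d
  have hgfix : w • g = g := (Finset.mem_filter.1 hg).2
  have hg12 : u₁ • g = u₂ • g := by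
    have k := congrArg (u₂ • ·) hgfix
    simp only [hw, ← mul_smul, ← mul_assoc, hu2, one_mul] at k
    exact k
  have hgmove : u₁ • g ≠ g := by
    intro k
    rcases he₁ g k with r | r | r
    · subst r
      rw [wc] at hgfix
      exact hac hgfix
    · exact hgd r
    · apply hne
      rw [hee, ← r, ← hg12, k]
  have hg' : u₁ • g ∈ Φ := by
    rw [hΦ, Finset.mem_filter]
    refine ⟨Finset.mem_univ _, ?_⟩
    rw [hw, mul_smul, ← mul_smul u₁ u₁, hu1, one_smul, hg12]
  have hg'd : u₁ • g ≠ d := fun k => hgd (smul_left_cancel u₁ (k.trans d1.symm))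
  have hsub : ({d, g, u₁ • g} : Finset Ω) ⊆ Φ := by
    intro x hx
    simp only [Finset.mem_insert, Finset.mem_singleton] at hx
    rcases hx with rfl | rfl | rfl
    · simp [hΦ, wd]
    · exact hg
    · exact hg'
  have h3 := Finset.card_le_card hsub
  rw [Finset.card_insert_of_notMem (by simp [Ne.symm hgd, Ne.symm hg'd]),
    Finset.card_pair (Ne.symm hgmove)] at h3
  omega

/-- Some element exchanges `p, q` and fixes `r, s, x`. -/
def Sw5 (G : Type*) [Group G] [MulAction G Ω] (p q r s x : Ω) : Prop :=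
  ∃ g : G, IsSw g p q r s ∧ g • x = x

/-- All six transpositions on four points, sharing the fifth one. -/
theorem six (hS : SharpK G Ω 4) (h11 : Fintype.card Ω = 11) {a b c d e : Ω} (h : Dist a b c d)
    {u : G} (hu : IsSw u a b c d) (he : u • e = e) (hec : e ≠ c) (hed : e ≠ d) :
    Sw5 G a b c d e ∧ Sw5 G a c b d e ∧ Sw5 G a d b c e ∧ Sw5 G b c a d e ∧ Sw5 G b d a c e ∧
      Sw5 G c d a b e := by
  obtain ⟨hab, hac, had, hbc, hbd, hcd⟩ := id h
  have hea : e ≠ a := fun k => hab (by subst k; rw [← hu.1, he])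
  have heb : e ≠ b := fun k => hab (by subst k; rw [← hu.2.1, he])
  obtain ⟨v, hv⟩ := exists_sw hS (a := c) (b := d) (c := a) (d := b)
    ⟨hcd, hac.symm, hbc.symm, had.symm, hbd.symm, hab⟩
  obtain ⟨s, hs⟩ := exists_sw hS (a := a) (b := c) (c := b) (d := d)
    ⟨hac, hab, had, hbc.symm, hcd, hbd⟩
  obtain ⟨s', hs'⟩ := exists_sw hS (a := b) (b := d) (c := a) (d := c)
    ⟨hbd, hab.symm, hbc, had.symm, hcd.symm, hac⟩
  obtain ⟨r, hr⟩ := exists_sw hS (a := a) (b := d) (c := b) (d := c)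
    ⟨had, hab, hac, hbd.symm, hcd.symm, hbc⟩
  obtain ⟨r', hr'⟩ := exists_sw hS (a := b) (b := c) (c := a) (d := d)
    ⟨hbc, hab.symm, hbd, hac.symm, hcd, had⟩
  have hve := third_comm hS h11 h hu hv he hec hed
  have hse := third_adj hS h11 h hu hs he hec hed
  have hs'e := third_comm hS h11 ⟨hac, hab, had, hbc.symm, hcd, hbd⟩ hs hs' hse heb hed
  have hre := third_adj hS h11 ⟨hab, had, hac, hbd, hbc, hcd.symm⟩ hu.comm hr he hed hec
  have hr'e := third_comm hS h11 ⟨had, hab, hac, hbd.symm, hcd.symm, hbc⟩ hr hr' hre heb hec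
  exact ⟨⟨u, hu, he⟩, ⟨s, hs, hse⟩, ⟨r, hr, hre⟩, ⟨r', hr', hr'e⟩, ⟨s', hs', hs'e⟩, ⟨v, hv, hve⟩⟩

/-- Every transposition of the five points is induced. -/
def AllSwaps (G : Type*) [Group G] [MulAction G Ω] {m : ℕ} (t : Fin m → Ω) : Prop :=
  ∀ i j : Fin m, ∃ g : G, ∀ l, g • t l = t (Equiv.swap i j l)

theorem AllSwaps.symm_aux {m : ℕ} {t : Fin m → Ω} {i j : Fin m}
    (h : ∃ g : G, ∀ l, g • t l = t (Equiv.swap i j l)) :
    ∃ g : G, ∀ l, g • t l = t (Equiv.swap j i l) := by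
  rwa [Equiv.swap_comm]

/-- A sharply 4-transitive group of degree 11 has a block of five points. -/
theorem exists_five (hS : SharpK G Ω 4) (h11 : Fintype.card Ω = 11) {a b c d : Ω}
    (h : Dist a b c d) :
    ∃ e : Ω, e ≠ a ∧ e ≠ b ∧ e ≠ c ∧ e ≠ d ∧ AllSwaps G ![a, b, c, d, e] := by
  obtain ⟨hab, hac, had, hbc, hbd, hcd⟩ := id h
  obtain ⟨u, hu⟩ := exists_sw hS h
  obtain ⟨e, hea, heb, hec, hed, he, -⟩ := third hS h11 h hu
  obtain ⟨⟨g01, k01, l01⟩, ⟨g02, k02, l02⟩, ⟨g03, k03, l03⟩, ⟨g12, k12, l12⟩, ⟨g13, k13, l13⟩,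
    ⟨g23, k23, l23⟩⟩ := six hS h11 h hu he hec hed
  -- transpositions moving the fifth point
  obtain ⟨-, -, -, -, -, ⟨g04, k04, l04⟩⟩ := six hS h11 (a := c) (b := d) (c := a) (d := e)
    (e := b) ⟨hcd, hac.symm, hec.symm, had.symm, hed.symm, hea.symm⟩ (u := g23)
    ⟨k23.1, k23.2.1, k23.2.2.1, l23⟩ k23.2.2.2 hab.symm heb.symm
  obtain ⟨-, -, -, -, -, ⟨g14, k14, l14⟩⟩ := six hS h11 (a := c) (b := d) (c := b) (d := e)
    (e := a) ⟨hcd, hbc.symm, hec.symm, hbd.symm, hed.symm, heb.symm⟩ (u := g23)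
    ⟨k23.1, k23.2.1, k23.2.2.2, l23⟩ k23.2.2.1 hab hea.symm
  obtain ⟨-, -, -, -, -, ⟨g24, k24, l24⟩⟩ := six hS h11 (a := a) (b := b) (c := c) (d := e)
    (e := d) ⟨hab, hac, hea.symm, hbc, heb.symm, hec.symm⟩ (u := g01)
    ⟨k01.1, k01.2.1, k01.2.2.1, l01⟩ k01.2.2.2 hcd.symm hed.symm
  obtain ⟨-, -, -, -, -, ⟨g34, k34, l34⟩⟩ := six hS h11 (a := a) (b := b) (c := d) (d := e)
    (e := c) ⟨hab, had, hea.symm, hbd, heb.symm, hed.symm⟩ (u := g01)
    ⟨k01.1, k01.2.1, k01.2.2.2, l01⟩ k01.2.2.1 hcd hec.symm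
  refine ⟨e, hea, heb, hec, hed, fun i j => ?_⟩
  obtain ⟨A01, B01, C01, D01⟩ := k01
  obtain ⟨A02, B02, C02, D02⟩ := k02
  obtain ⟨A03, B03, C03, D03⟩ := k03
  obtain ⟨A12, B12, C12, D12⟩ := k12
  obtain ⟨A13, B13, C13, D13⟩ := k13
  obtain ⟨A23, B23, C23, D23⟩ := k23
  obtain ⟨A04, B04, C04, D04⟩ := k04
  obtain ⟨A14, B14, C14, D14⟩ := k14
  obtain ⟨A24, B24, C24, D24⟩ := k24
  obtain ⟨A34, B34, C34, D34⟩ := k34
  wlog hij : i ≤ j generalizing i j with H
  · exact AllSwaps.symm_aux (H j i (le_of_not_ge hij))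
  fin_cases i <;> fin_cases j <;> first
    | exact absurd hij (by decide)
    | (refine ⟨1, fun l => ?_⟩; rw [Equiv.swap_self, Equiv.refl_apply, one_smul]; done)
    | (refine ⟨g01, fun l => ?_⟩; fin_cases l <;>
        simp [Equiv.swap_apply_def, A01, B01, C01, D01, l01]; done)
    | (refine ⟨g02, fun l => ?_⟩; fin_cases l <;>
        simp [Equiv.swap_apply_def, A02, B02, C02, D02, l02]; done)
    | (refine ⟨g03, fun l => ?_⟩; fin_cases l <;>
        simp [Equiv.swap_apply_def, A03, B03, C03, D03, l03]; done)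
    | (refine ⟨g12, fun l => ?_⟩; fin_cases l <;>
        simp [Equiv.swap_apply_def, A12, B12, C12, D12, l12]; done)
    | (refine ⟨g13, fun l => ?_⟩; fin_cases l <;>
        simp [Equiv.swap_apply_def, A13, B13, C13, D13, l13]; done)
    | (refine ⟨g23, fun l => ?_⟩; fin_cases l <;>
        simp [Equiv.swap_apply_def, A23, B23, C23, D23, l23]; done)
    | (refine ⟨g04, fun l => ?_⟩; fin_cases l <;>
        simp [Equiv.swap_apply_def, A04, B04, C04, D04, l04]; done)
    | (refine ⟨g14, fun l => ?_⟩; fin_cases l <;>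
        simp [Equiv.swap_apply_def, A14, B14, C14, D14, l14]; done)
    | (refine ⟨g24, fun l => ?_⟩; fin_cases l <;>
        simp [Equiv.swap_apply_def, A24, B24, C24, D24, l24]; done)
    | (refine ⟨g34, fun l => ?_⟩; fin_cases l <;>
        simp [Equiv.swap_apply_def, A34, B34, C34, D34, l34]; done)

theorem injective_five {a b c d e : Ω} (hab : a ≠ b) (hac : a ≠ c) (had : a ≠ d) (hae : a ≠ e)
    (hbc : b ≠ c) (hbd : b ≠ d) (hbe : b ≠ e) (hcd : c ≠ d) (hce : c ≠ e) (hde : d ≠ e) :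
    Function.Injective ![a, b, c, d, e] := by
  intro i j hij
  fin_cases i <;> fin_cases j <;> simp_all [eq_comm]

theorem injective_six {a b c d e f : Ω} (hab : a ≠ b) (hac : a ≠ c) (had : a ≠ d) (hae : a ≠ e)
    (haf : a ≠ f) (hbc : b ≠ c) (hbd : b ≠ d) (hbe : b ≠ e) (hbf : b ≠ f) (hcd : c ≠ d)
    (hce : c ≠ e) (hcf : c ≠ f) (hde : d ≠ e) (hdf : d ≠ f) (hef : e ≠ f) :
    Function.Injective ![a, b, c, d, e, f] := by
  intro i j hij
  fin_cases i <;> fin_cases j <;> simp_all [eq_comm]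

/-- A sharply 5-transitive group of degree 12 has a block of six points. -/
theorem exists_six [Finite G] (hS : SharpK G Ω 5) (h12 : Fintype.card Ω = 12) :
    ∃ t : Fin 6 ↪ Ω, AllSwaps G t := by
  classical
  haveI := hS.pretransitive (by rw [Nat.card_eq_fintype_card]; omega)
  obtain ⟨q⟩ : Nonempty (Fin 5 ↪ Ω) := Function.Embedding.nonempty_of_card_le (by simp [h12])
  set a := q 0 with ha
  set b := q 1 with hb
  set c := q 2 with hc
  set d := q 3 with hd
  set x := q 4 with hx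
  have dq : ∀ i j : Fin 5, i ≠ j → q i ≠ q j := fun i j h e => h (q.injective e)
  have hS4 : ∀ y : Ω, SharpK (stabilizer G y) (SubMulAction.ofStabilizer G y) 4 ∧
      Fintype.card (SubMulAction.ofStabilizer G y) = 11 := fun y => by
    refine ⟨hS.stab y, ?_⟩
    have := card_ofStabilizer (G := G) y
    rw [Nat.card_eq_fintype_card, Nat.card_eq_fintype_card] at this
    omega
  let inx : ∀ {y z : Ω}, z ≠ y → SubMulAction.ofStabilizer G y := fun {y z} h => ⟨z, h⟩
  have hne : ∀ {y z z' : Ω} (h : z ≠ y) (h' : z' ≠ y), z ≠ z' → inx h ≠ inx h' :=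
    fun h h' hzz e => hzz (congrArg Subtype.val e)
  have hax : a ≠ x := dq 0 4 (by decide)
  have hbx : b ≠ x := dq 1 4 (by decide)
  have hcx : c ≠ x := dq 2 4 (by decide)
  have hdx : d ≠ x := dq 3 4 (by decide)
  have hab : a ≠ b := dq 0 1 (by decide)
  have hac : a ≠ c := dq 0 2 (by decide)
  have had : a ≠ d := dq 0 3 (by decide)
  have hbc : b ≠ c := dq 1 2 (by decide)
  have hbd : b ≠ d := dq 1 3 (by decide)
  have hcd : c ≠ d := dq 2 3 (by decide)
  obtain ⟨⟨e, hex'⟩, hea, heb, hec, hed, hX⟩ := exists_five (hS4 x).1 (hS4 x).2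
    (a := inx hax) (b := inx hbx) (c := inx hcx) (d := inx hdx)
    ⟨hne _ _ hab, hne _ _ hac, hne _ _ had, hne _ _ hbc, hne _ _ hbd, hne _ _ hcd⟩
  obtain ⟨⟨f, hfa'⟩, hfx, hfb, hfc, hfd, hA⟩ := exists_five (hS4 a).1 (hS4 a).2
    (a := inx hax.symm) (b := inx hab.symm) (c := inx hac.symm) (d := inx had.symm)
    ⟨hne _ _ hbx.symm, hne _ _ hcx.symm, hne _ _ hdx.symm, hne _ _ hbc, hne _ _ hbd, hne _ _ hcd⟩
  have hex : e ≠ x := hex'
  have hfa : f ≠ a := hfa'
  have hea' : e ≠ a := fun k => hea (Subtype.ext k)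
  have heb' : e ≠ b := fun k => heb (Subtype.ext k)
  have hec' : e ≠ c := fun k => hec (Subtype.ext k)
  have hed' : e ≠ d := fun k => hed (Subtype.ext k)
  -- the transposition `(b c)` from both sides
  obtain ⟨g, hg⟩ := hX 1 2
  obtain ⟨g', hg'⟩ := hA 1 2
  have ga : (g : G) • a = a := congrArg Subtype.val (hg 0)
  have gb : (g : G) • b = c := congrArg Subtype.val (hg 1)
  have gc : (g : G) • c = b := congrArg Subtype.val (hg 2)
  have gd : (g : G) • d = d := congrArg Subtype.val (hg 3)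
  have ge : (g : G) • e = e := congrArg Subtype.val (hg 4)
  have gx : (g : G) • x = x := g.2
  have g'a : (g' : G) • a = a := g'.2
  have g'x : (g' : G) • x = x := congrArg Subtype.val (hg' 0)
  have g'b : (g' : G) • b = c := congrArg Subtype.val (hg' 1)
  have g'c : (g' : G) • c = b := congrArg Subtype.val (hg' 2)
  have g'd : (g' : G) • d = d := congrArg Subtype.val (hg' 3)
  have g'f : (g' : G) • f = f := congrArg Subtype.val (hg' 4)
  have hfive : ∀ (h : G) (s : Fin 5 ↪ Ω), (∀ i, h • s i = s i) → h = 1 := fun h s hs => by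
    rw [← Subgroup.mem_bot, ← hS.sharp s, mem_stabilizer_iff]
    exact DFunLike.ext _ _ hs
  have hgg : (g : G) = g' := by
    rw [← inv_mul_eq_one]
    refine hfive _ q fun i => ?_
    rw [mul_smul, inv_smul_eq_iff]
    fin_cases i
    exacts [g'a.trans ga.symm, g'b.trans gb.symm, g'c.trans gc.symm, g'd.trans gd.symm,
      g'x.trans gx.symm]
  have hfe : f = e := by
    by_contra hne'
    have k1 : f ≠ x := fun k => hfx (Subtype.ext k)
    have k2 : f ≠ d := fun k => hfd (Subtype.ext k)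
    have g1 : (g : G) = 1 := hfive _ ⟨![a, d, x, e, f],
      injective_five had hax hea'.symm hfa.symm hdx hed'.symm k2.symm hex.symm k1.symm
        (Ne.symm hne')⟩ (fun i => by
        fin_cases i
        exacts [ga, gd, gx, ge, hgg ▸ g'f])
    rw [g1, one_smul] at gb
    exact hbc gb
  subst hfe
  refine ⟨⟨![a, b, c, d, f, x], injective_six hab hac had hea'.symm hax hbc hbd heb'.symm hbx hcd
    hec'.symm hcx hed'.symm hdx hex⟩, ?_⟩
  set t : Fin 6 → Ω := ![a, b, c, d, f, x] with ht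
  have hin : ∀ i j : Fin 5, ∃ g : G, ∀ l, g • t l = t (Equiv.swap i.castSucc j.castSucc l) := by
    intro i j
    obtain ⟨g, hg⟩ := hX i j
    refine ⟨g, fun l => ?_⟩
    induction l using Fin.lastCases with
    | last =>
      rw [Equiv.swap_apply_of_ne_of_ne (Fin.castSucc_lt_last i).ne' (Fin.castSucc_lt_last j).ne']
      exact g.2
    | cast l =>
      rw [← (Fin.castSucc_injective _).map_swap i j l]
      have := congrArg Subtype.val (hg l)
      generalize Equiv.swap i j l = m at this ⊢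
      fin_cases l <;> fin_cases m <;> exact this
  let P : Fin 6 → Fin 6 → Prop := fun i j => ∃ g : G, ∀ l, g • t l = t (Equiv.swap i j l)
  have hsymm : ∀ {i j}, P i j → P j i := fun h => AllSwaps.symm_aux h
  have hout : ∀ (m : Fin 6) (n : Fin 5), (m = 1 ∧ n = 1) ∨ (m = 2 ∧ n = 2) ∨ (m = 3 ∧ n = 3) ∨
      (m = 4 ∧ n = 4) → P m 5 := by
    intro m n hmn
    obtain ⟨g, hg⟩ := hA n 0
    have g0 : (g : G) • a = a := g.2
    refine ⟨g, fun l => ?_⟩
    have h0 := congrArg Subtype.val (hg 0)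
    have h1 := congrArg Subtype.val (hg 1)
    have h2 := congrArg Subtype.val (hg 2)
    have h3 := congrArg Subtype.val (hg 3)
    have h4 := congrArg Subtype.val (hg 4)
    rcases hmn with ⟨rfl, rfl⟩ | ⟨rfl, rfl⟩ | ⟨rfl, rfl⟩ | ⟨rfl, rfl⟩ <;>
      fin_cases l <;> first | exact g0 | exact h0 | exact h1 | exact h2 | exact h3 | exact h4
  have h05 : P 0 5 := by
    obtain ⟨g, hg⟩ := hin 0 1
    obtain ⟨h, hh⟩ := hout 1 1 (Or.inl ⟨rfl, rfl⟩)
    refine ⟨g * h * g, fun l => ?_⟩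
    rw [mul_smul, mul_smul, hg, hh, hg]
    revert l
    intro l
    fin_cases l <;> rfl
  intro i j
  change P i j
  induction i using Fin.lastCases with
  | last =>
    induction j using Fin.lastCases with
    | last => exact ⟨1, fun l => by simp⟩
    | cast j =>
      fin_cases j
      exacts [hsymm h05, hsymm (hout 1 1 (Or.inl ⟨rfl, rfl⟩)),
        hsymm (hout 2 2 (Or.inr (Or.inl ⟨rfl, rfl⟩))),
        hsymm (hout 3 3 (Or.inr (Or.inr (Or.inl ⟨rfl, rfl⟩)))),
        hsymm (hout 4 4 (Or.inr (Or.inr (Or.inr ⟨rfl, rfl⟩))))]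
  | cast i =>
    induction j using Fin.lastCases with
    | last =>
      fin_cases i
      exacts [h05, hout 1 1 (Or.inl ⟨rfl, rfl⟩), hout 2 2 (Or.inr (Or.inl ⟨rfl, rfl⟩)),
        hout 3 3 (Or.inr (Or.inr (Or.inl ⟨rfl, rfl⟩))),
        hout 4 4 (Or.inr (Or.inr (Or.inr ⟨rfl, rfl⟩)))]
    | cast j => exact hin i j

end Cfsg.Agent.LWEleven
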