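import Cfsg.Agent.Lib.Perm.LWCycles
import Cfsg.Agent.Lib.Perm.LWFour
import Mathlib.GroupTheory.GroupAction.SubMulAction.OfFixingSubgroup

/-!
A `j`-transitive group, `j ≥ 4`, in which only the identity fixes `j + 1` points and the elements
fixing `j` points have odd order, prime to 3 unless `n - j` is even: only the identity fixes `j`.
-/

set_option autoImplicit false
set_option linter.style.haveILetI false
set_option linter.unusedSectionVars false

namespace Cfsg.Agent.LWLevel

open MulAction Cfsg.Agent.LWSign Cfsg.Agent.LWBasic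
open scoped Pointwise

attribute [local instance 2000] Function.Embedding.instMulAction

variable {α : Type*} [Fintype α] [DecidableEq α] {G : Subgroup (Equiv.Perm α)} {j : ℕ}

/-- Four-element tuples. -/
def quad {X : Type*} {a b c d : X} (hab : a ≠ b) (hac : a ≠ c) (had : a ≠ d) (hbc : b ≠ c)
    (hbd : b ≠ d) (hcd : c ≠ d) : Fin 4 ↪ X :=
  ⟨![a, b, c, d], by intro i j hij; fin_cases i <;> fin_cases j <;> simp_all⟩

/-- With at least four base points, only the identity fixes `j` points. -/
theorem eq_one (htr : IsMultiplyPretransitive G α j) (hj4 : 4 ≤ j)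
    (hn : j + 2 ≤ Fintype.card α)
    (hfree : ∀ g : G, ∀ s : Finset α, j + 1 ≤ s.card → (∀ x ∈ s, g • x = x) → g = 1)
    (t₀ : Fin j ↪ α)
    (hfour : ∀ g : G, ∀ s : Finset α, s.card = j → (∀ x ∈ s, g • x = x) →
      Odd (orderOf g) ∧ (¬ 3 ∣ orderOf g ∨ Even (Fintype.card α - (j - 4))))
    (g : G) (hg : g • t₀ = t₀) : g = 1 := by
  classical
  have hfix : ∀ i, g • t₀ i = t₀ i := (LWCycles.smul_eq_iff_forall g t₀).1 hg
  set U : Finset α := (Finset.univ.filter fun i : Fin j => (i : ℕ) < j - 4).map t₀ with hU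
  have hUcard : U.card = j - 4 := by
    rw [hU, Finset.card_map]
    exact (Fin.card_filter_val_lt).trans (by omega)
  set L := fixingSubgroup G (U : Set α) with hL
  let Ω := SubMulAction.ofFixingSubgroup G (U : Set α)
  haveI := htr
  have h4 : IsMultiplyPretransitive L Ω 4 :=
    SubMulAction.ofFixingSubgroup.isMultiplyPretransitive G (n := j) (U : Set α)
      (by rw [Set.ncard_coe_finset, hUcard]; omega)
  have hΩ : ∀ {x : Ω}, (x : α) ∉ U := fun {x} => x.2
  have mk5 : ∀ (s : Finset α), (∀ x ∈ s, x ∉ U) → ∀ g : L, (∀ x ∈ s, (g : G) • x = x) →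
      ∀ x ∈ U ∪ s, (g : G) • x = x := fun s _ g hs x hx => by
    rcases Finset.mem_union.1 hx with hx | hx
    · exact (mem_fixingSubgroup_iff G).1 g.2 x hx
    · exact hs x hx
  have hΩcard : Nat.card Ω = Fintype.card α - U.card := by
    rw [← Finset.card_compl, Nat.card_congr (Equiv.subtypeEquivRight (q := fun x => x ∈ Uᶜ)
      fun x => by
        change x ∈ (U : Set α)ᶜ ↔ _
        simp), Nat.card_eq_fintype_card, Fintype.card_coe]
  have hS : LWFour.Setup L Ω := by
    refine ⟨?_, ?_, ?_, ?_⟩
    · intro a b c d a' b' c' d' hab hac had hbc hbd hcd hab' hac' had' hbc' hbd' hcd'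
      obtain ⟨g, hg⟩ := h4.exists_smul_eq (quad hab hac had hbc hbd hcd)
        (quad hab' hac' had' hbc' hbd' hcd')
      exact ⟨g, congrArg (fun u : Fin 4 ↪ Ω => u 0) hg, congrArg (fun u : Fin 4 ↪ Ω => u 1) hg,
        congrArg (fun u : Fin 4 ↪ Ω => u 2) hg, congrArg (fun u : Fin 4 ↪ Ω => u 3) hg⟩
    · intro a b c d e hab hac had hae hbc hbd hbe hcd hce hde g ga gb gc gd ge
      apply Subtype.ext
      set s : Finset α := ({a, b, c, d, e} : Finset Ω).map ⟨_, Subtype.val_injective⟩ with hs
      have hsU : ∀ x ∈ s, x ∉ U := by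
        intro x hx
        obtain ⟨y, -, rfl⟩ := Finset.mem_map.1 hx
        exact hΩ
      refine hfree g (U ∪ s) ?_ (mk5 s hsU g fun x hx => ?_)
      · rw [Finset.card_union_of_disjoint (Finset.disjoint_right.2 hsU), hUcard, hs,
          Finset.card_map]
        rw [Finset.card_insert_of_notMem (by simp [hab, hac, had, hae]),
          Finset.card_insert_of_notMem (by simp [hbc, hbd, hbe]),
          Finset.card_insert_of_notMem (by simp [hcd, hce]), Finset.card_pair hde]
        omega
      · obtain ⟨y, hy, rfl⟩ := Finset.mem_map.1 hx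
        simp only [Finset.mem_insert, Finset.mem_singleton] at hy
        rcases hy with rfl | rfl | rfl | rfl | rfl
        exacts [congrArg Subtype.val ga, congrArg Subtype.val gb, congrArg Subtype.val gc,
          congrArg Subtype.val gd, congrArg Subtype.val ge]
    · intro a b c d hab hac had hbc hbd hcd g ga gb gc gd
      suffices hc : Odd (orderOf g) ∧
          (¬ 3 ∣ orderOf g ∨ Even (Fintype.card α - (j - 4))) by
        rwa [hΩcard, hUcard]
      rw [← Subgroup.orderOf_coe]
      set s : Finset α := ({a, b, c, d} : Finset Ω).map ⟨_, Subtype.val_injective⟩ with hs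
      have hsU : ∀ x ∈ s, x ∉ U := by
        intro x hx
        obtain ⟨y, -, rfl⟩ := Finset.mem_map.1 hx
        exact hΩ
      refine hfour g (U ∪ s) ?_ (mk5 s hsU g fun x hx => ?_)
      · rw [Finset.card_union_of_disjoint (Finset.disjoint_right.2 hsU), hUcard, hs,
          Finset.card_map]
        rw [Finset.card_insert_of_notMem (by simp [hab, hac, had]),
          Finset.card_insert_of_notMem (by simp [hbc, hbd]), Finset.card_pair hcd]
        omega
      · obtain ⟨y, hy, rfl⟩ := Finset.mem_map.1 hx
        simp only [Finset.mem_insert, Finset.mem_singleton] at hy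
        rcases hy with rfl | rfl | rfl | rfl
        exacts [congrArg Subtype.val ga, congrArg Subtype.val gb, congrArg Subtype.val gc,
          congrArg Subtype.val gd]
    · omega
  have hgL : g ∈ L := by
    rw [hL, mem_fixingSubgroup_iff]
    intro x hx
    obtain ⟨i, -, rfl⟩ := Finset.mem_map.1 hx
    exact hfix i
  have hout : ∀ i : Fin j, j - 4 ≤ (i : ℕ) → t₀ i ∈ Ω := by
    intro i hi hmem
    obtain ⟨i', hi', e⟩ := Finset.mem_map.1 hmem
    obtain rfl := t₀.injective e
    have := (Finset.mem_filter.1 hi').2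
    omega
  let idx : Fin 4 → Fin j := fun r => ⟨j - 4 + r, by omega⟩
  let pt : Fin 4 → Ω := fun r => ⟨t₀ (idx r), hout _ (Nat.le_add_right _ _)⟩
  have hpt : ∀ r s, r ≠ s → pt r ≠ pt s := fun r s hrs e => hrs (by
    have := congrArg Fin.val (t₀.injective (congrArg Subtype.val e))
    simp only [idx] at this
    exact Fin.ext (by omega))
  have hptfix : ∀ r, (⟨g, hgL⟩ : L) • pt r = pt r := fun r => Subtype.ext (hfix (idx r))
  exact congrArg Subtype.val (LWFour.eq_one hS (hpt 0 1 (by decide)) (hpt 0 2 (by decide))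
    (hpt 0 3 (by decide)) (hpt 1 2 (by decide)) (hpt 1 3 (by decide)) (hpt 2 3 (by decide))
    (hptfix 0) (hptfix 1) (hptfix 2) (hptfix 3) :)

end Cfsg.Agent.LWLevel
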