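import Cfsg.Agent.Lib.Perm.SharpFour

/-!
# Sharply k-transitive groups for k ≥ 5, and simplicity in degrees 11 and 12
-/

set_option autoImplicit false

namespace Cfsg.Agent.SharpFour

open MulAction

variable {G Ω : Type*} [Group G] [MulAction G Ω] [Finite G] [Finite Ω]

/-- The Sylow count in a faithful group of prime degree. -/
theorem prime_degree [FaithfulSMul G Ω] {p : ℕ} [Fact p.Prime] (hp : Nat.card Ω = p)
    (P : Sylow p G) (hdvd : p ∣ Nat.card G) :
    ∃ d, d ∣ p - 1 ∧ Nat.card G = p * d * Nat.card (Sylow p G) ∧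
      Nat.card (Subgroup.normalizer ((P : Subgroup G) : Set G)) = p * d ∧ Nat.card P = p := by
  classical
  have := Fintype.ofFinite Ω
  have hpos : 0 < p := (Fact.out : p.Prime).pos
  -- `p²` does not divide the group order
  have hGdvd : Nat.card G ∣ p.factorial := by
    rw [← hp, ← Nat.card_perm]
    exact Subgroup.card_dvd_of_injective (MulAction.toPermHom G Ω) toPerm_injective
  have hsq : ¬ p ^ 2 ∣ Nat.card G := fun h => by
    have h1 : p ^ 2 ∣ p.factorial := h.trans hGdvd
    rw [← Nat.mul_factorial_pred hpos.ne', sq] at h1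
    have h2 := (mul_dvd_mul_iff_left hpos.ne').1 h1
    have := (Fact.out : p.Prime).dvd_factorial.1 h2
    omega
  obtain ⟨j, hj⟩ := P.2.exists_card_eq
  have hP : Nat.card P = p := by
    have h1 : p ∣ Nat.card P := P.dvd_card_of_dvd_card hdvd
    have h2 : p ^ j ∣ Nat.card G := hj ▸ Subgroup.card_subgroup_dvd_card (P : Subgroup G)
    have h3 : j ≤ 1 := by
      by_contra h
      exact hsq (dvd_trans (pow_dvd_pow p (by omega)) h2)
    interval_cases j
    · rw [hj, pow_zero, Nat.dvd_one] at h1
      exact absurd h1 (Fact.out : p.Prime).ne_one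
    · rw [hj, pow_one]
  set N := Subgroup.normalizer ((P : Subgroup G) : Set G)
  -- `P` is regular
  obtain ⟨⟨g, hgP⟩, hg⟩ := (Subgroup.nontrivial_iff_exists_ne_one _).1
    (Finite.one_lt_card_iff_nontrivial.1 (by rw [hP]; exact (Fact.out : p.Prime).one_lt)) |>
      fun ⟨g, hgP, hg⟩ => (⟨⟨g, hgP⟩, hg⟩ : ∃ g : P, (g : G) ≠ 1)
  obtain ⟨a, ha⟩ : ∃ a : Ω, g • a ≠ a := by
    by_contra h
    push Not at h
    exact hg (eq_of_smul_eq_smul (α := Ω) fun x => by rw [h x, one_smul])
  have horb : Function.Bijective (fun x : (P : Subgroup G) => (x : G) • a) := by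
    have hst : stabilizer (P : Subgroup G) a = ⊥ := by
      have hd := Subgroup.card_subgroup_dvd_card (stabilizer (P : Subgroup G) a)
      rw [hP] at hd
      rcases (Fact.out : p.Prime).eq_one_or_self_of_dvd _ hd with h | h
      · exact Subgroup.eq_bot_of_card_eq _ h
      · exfalso
        have htop : stabilizer (P : Subgroup G) a = ⊤ := Subgroup.eq_top_of_card_eq _ (h.trans hP.symm)
        have : (⟨g, hgP⟩ : (P : Subgroup G)) ∈ stabilizer (P : Subgroup G) a := htop ▸ Subgroup.mem_top _
        exact ha this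
    have hinj : Function.Injective (fun x : (P : Subgroup G) => (x : G) • a) := fun x y e => by
      have : y⁻¹ * x ∈ stabilizer (P : Subgroup G) a := by
        rw [mem_stabilizer_iff, mul_smul, inv_smul_eq_iff]; exact e
      rw [hst, Subgroup.mem_bot, inv_mul_eq_one] at this
      exact this.symm
    exact (Nat.bijective_iff_injective_and_card _).2 ⟨hinj, hP.trans hp.symm⟩
  -- the stabiliser in the normaliser embeds in the automorphisms of `P`
  let A : Subgroup N := stabilizer N a
  let φ : A →* MulAut (P : Subgroup G) :=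
    (Subgroup.normalizerMonoidHom (P : Subgroup G)).comp A.subtype
  have hφ : Function.Injective φ := by
    rw [injective_iff_map_eq_one]
    intro x hx
    apply Subtype.ext; apply Subtype.ext
    refine eq_of_smul_eq_smul (α := Ω) fun b => ?_
    obtain ⟨y, rfl⟩ := horb.2 b
    have h := congrArg (fun e : MulAut (P : Subgroup G) => ((e y : (P : Subgroup G)) : G)) hx
    have h' : ((x : N) : G) * (y : G) * ((x : N) : G)⁻¹ = y := h
    have hxa : ((x : N) : G) • a = a := mem_stabilizer_iff.1 x.2
    show ((x : N) : G) • (y : G) • a = (1 : G) • (y : G) • a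
    rw [one_smul, smul_smul, mul_inv_eq_iff_eq_mul.1 h', mul_smul, hxa]
  have hcyc : IsCyclic (P : Subgroup G) := isCyclic_of_prime_card hP
  have hA : Nat.card A ∣ p - 1 := by
    have h := Subgroup.card_dvd_of_injective φ hφ
    rwa [IsCyclic.card_mulAut, hP, Nat.totient_prime (Fact.out : p.Prime)] at h
  have hNtr : IsPretransitive N Ω := ⟨fun b c => by
    obtain ⟨x, rfl⟩ := horb.2 b
    obtain ⟨y, rfl⟩ := horb.2 c
    refine ⟨⟨(y : G) * (x : G)⁻¹, Subgroup.le_normalizer ((P : Subgroup G).mul_mem y.2
      ((P : Subgroup G).inv_mem x.2))⟩, ?_⟩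
    show ((y : G) * (x : G)⁻¹) • (x : G) • a = (y : G) • a
    rw [smul_smul, inv_mul_cancel_right]⟩
  have hN : Nat.card N = p * Nat.card A := by
    rw [← A.card_mul_index, index_stabilizer_of_transitive, hp, mul_comm]
  refine ⟨Nat.card A, hA, ?_, hN, hP⟩
  rw [← hN, P.card_eq_index_normalizer]
  exact (Subgroup.card_mul_index N).symm

/-- No sharply 6-transitive group has degree 13. -/
theorem not_six_thirteen (hS : SharpK G Ω 6) (h13 : Nat.card Ω = 13) : False := by
  have hcard := hS.card_eq (by omega)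
  rw [h13] at hcard
  have : FaithfulSMul G Ω := faithful_of_sharp hS (by omega)
  have : Fact (Nat.Prime 13) := ⟨by norm_num⟩
  obtain ⟨P⟩ : Nonempty (Sylow 13 G) := inferInstance
  obtain ⟨d, hd, hG, -, -⟩ := prime_degree h13 P (by rw [hcard]; decide)
  have hmod : Nat.card (Sylow 13 G) % 13 = 1 := card_sylow_modEq_one 13 G
  have h : d * Nat.card (Sylow 13 G) = 95040 := by
    rw [hG, show Nat.descFactorial 13 6 = 13 * 95040 by decide, mul_assoc] at hcard
    omega
  have hd' : d ∈ Nat.divisors 12 := Nat.mem_divisors.2 ⟨hd, by norm_num⟩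
  rw [show Nat.divisors 12 = {1, 2, 3, 4, 6, 12} by decide] at hd'
  simp only [Finset.mem_insert, Finset.mem_singleton] at hd'
  rcases hd' with rfl | rfl | rfl | rfl | rfl | rfl <;> omega
where
  faithful_of_sharp {k : ℕ} (hS : SharpK G Ω k) (hn : k ≤ Nat.card Ω) : FaithfulSMul G Ω := by
    refine ⟨fun {g g'} h => ?_⟩
    classical
    have := Fintype.ofFinite Ω
    obtain ⟨x⟩ : Nonempty (Fin k ↪ Ω) := Function.Embedding.nonempty_of_card_le (by
      rw [Fintype.card_fin, ← Nat.card_eq_fintype_card]; exact hn)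
    have : g'⁻¹ * g ∈ stabilizer G x := by
      rw [mem_stabilizer_iff]
      ext i
      rw [Function.Embedding.smul_apply, mul_smul, h, inv_smul_smul]
    rw [hS.sharp, Subgroup.mem_bot, inv_mul_eq_one] at this
    exact this.symm

/-- The degree of a sharply `k`-transitive group, `k ≥ 4`. -/
theorem degree_high : ∀ (k : ℕ) {G : Type*} {Ω : Type*} [Group G] [MulAction G Ω] [Finite G]
    [Finite Ω], SharpK G Ω k → 4 ≤ k → k ≤ Nat.card Ω →
    Nat.card Ω = k ∨ Nat.card Ω = k + 1 ∨ Nat.card Ω = k + 2 ∨ (k ≤ 5 ∧ Nat.card Ω = k + 7) := by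
  intro k
  induction k with
  | zero => intros; omega
  | succ k ih =>
    intro G Ω _ _ _ _ hS hk hn
    by_cases h4 : k + 1 = 4
    · obtain rfl : k = 3 := by omega
      classical
      have := Fintype.ofFinite Ω
      have hne : Nonempty (Fin 4 ↪ Ω) := Function.Embedding.nonempty_of_card_le (by
        rw [Fintype.card_fin, ← Nat.card_eq_fintype_card]; omega)
      rcases (degree_four hS hne).2 with h | h | h | h <;> omega
    have := hS.pretransitive hn
    obtain ⟨a⟩ : Nonempty Ω := (Nat.card_pos_iff.1 (by omega)).1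
    have hc := card_ofStabilizer (G := G) a
    have h := ih (hS.stab a) (by omega) (by omega)
    rcases h with h | h | h | ⟨hk5, h⟩
    · omega
    · omega
    · omega
    · refine Or.inr (Or.inr (Or.inr ⟨?_, by omega⟩))
      by_contra hk6
      obtain rfl : k = 5 := by omega
      exact not_six_thirteen hS (by omega)

/-- A nontrivial normal subgroup of a doubly transitive group is transitive. -/
theorem normal_transitive [FaithfulSMul G Ω] (h2 : IsMultiplyPretransitive G Ω 2) (N : Subgroup G)
    [hN : N.Normal] (hne : N ≠ ⊥) : IsPretransitive N Ω := by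
  obtain ⟨n, hn, hn1⟩ := (Subgroup.ne_bot_iff_exists_ne_one.1 hne) |>
    fun ⟨⟨n, hn⟩, h⟩ => (⟨n, hn, fun e => h (Subtype.ext e)⟩ : ∃ n ∈ N, n ≠ 1)
  obtain ⟨a, ha⟩ : ∃ a : Ω, n • a ≠ a := by
    by_contra h
    push Not at h
    exact hn1 (eq_of_smul_eq_smul (α := Ω) fun x => by rw [h x, one_smul])
  have key : ∀ x y : Ω, x ≠ y → ∃ m ∈ N, m • x = y := by
    intro x y hxy
    obtain ⟨g, g1, g2⟩ := (is_two_pretransitive_iff.1 h2) ha.symm hxy
    refine ⟨g * n * g⁻¹, hN.conj_mem n hn g, ?_⟩
    rw [mul_smul, mul_smul, ← g1, inv_smul_smul, g2]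
  refine ⟨fun x y => ?_⟩
  by_cases e : x = y
  · exact ⟨1, by rw [one_smul, e]⟩
  · obtain ⟨m, hm, h⟩ := key x y e
    exact ⟨⟨m, hm⟩, h⟩

/-- A sharply 4-transitive group of degree 11 is simple of order 7920. -/
theorem eleven (hS : SharpK G Ω 4) (h11 : Nat.card Ω = 11) :
    IsSimpleGroup G ∧ Nat.card G = 7920 := by
  have hcard : Nat.card G = 7920 := by rw [hS.card_eq (by omega), h11]; rfl
  refine ⟨?_, hcard⟩
  have : FaithfulSMul G Ω := not_six_thirteen.faithful_of_sharp hS (by omega)
  have : Fact (Nat.Prime 11) := ⟨by norm_num⟩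
  have h2 : IsMultiplyPretransitive G Ω 2 := by
    have := hS.trans
    exact isMultiplyPretransitive_of_le (n := 4) (by omega) (by omega)
  have : Nontrivial G := Finite.one_lt_card_iff_nontrivial.1 (by omega)
  refine ⟨fun N hN => ?_⟩
  by_cases hne : N = ⊥
  · exact Or.inl hne
  refine Or.inr ?_
  have htr := normal_transitive h2 N hne
  obtain ⟨a⟩ : Nonempty Ω := (Nat.card_pos_iff.1 (by omega)).1
  have h11N : 11 ∣ Nat.card N := by
    rw [← (stabilizer N a).card_mul_index, index_stabilizer_of_transitive, h11]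
    exact dvd_mul_left 11 _
  obtain ⟨P⟩ : Nonempty (Sylow 11 G) := inferInstance
  obtain ⟨d, hd, hG, hNP, -⟩ := prime_degree h11 P (by rw [hcard]; norm_num)
  -- the normaliser of a Sylow subgroup has order 55
  have hd5 : d = 5 := by
    have hmod : Nat.card (Sylow 11 G) % 11 = 1 := card_sylow_modEq_one 11 G
    have h : d * Nat.card (Sylow 11 G) = 720 := by rw [hcard, mul_assoc] at hG; omega
    have hd' : d ∈ Nat.divisors 10 := Nat.mem_divisors.2 ⟨hd, by norm_num⟩
    rw [show Nat.divisors 10 = {1, 2, 5, 10} by decide] at hd'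
    simp only [Finset.mem_insert, Finset.mem_singleton] at hd'
    rcases hd' with rfl | rfl | rfl | rfl <;> omega
  obtain ⟨Q⟩ : Nonempty (Sylow 11 N) := inferInstance
  obtain ⟨d', hd', hN', hNQ, hQcard⟩ := prime_degree (G := N) h11 Q h11N
  have hidx : N.index = 1 ∨ N.index = 5 := by
    have hfr := Sylow.normalizer_sup_eq_top (N := N) Q
    let R : Subgroup G := (Q : Subgroup N).map N.subtype
    have hRcard : Nat.card R = 11 :=
      (Nat.card_congr (Subgroup.equivMapOfInjective _ _ N.subtype_injective).toEquiv).symm.trans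
        hQcard
    obtain ⟨R', hR'⟩ := (IsPGroup.of_card (p := 11) (n := 1) (G := R) (by rw [hRcard]; norm_num))
      |>.exists_le_sylow
    have hR'card : Nat.card R' = 11 := by
      obtain ⟨d'', -, -, -, h⟩ := prime_degree h11 R' (by rw [hcard]; norm_num)
      exact h
    have heq : R = R' := Subgroup.eq_of_le_of_card_ge hR' (le_of_eq (hR'card.trans hRcard.symm))
    obtain ⟨d'', hd'', hG'', hNR, -⟩ := prime_degree h11 R' (by rw [hcard]; norm_num)
    have hd''5 : d'' = 5 := by
      have : 11 * d * Nat.card (Sylow 11 G) = 11 * d'' * Nat.card (Sylow 11 G) := hG.symm.trans hG''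
      have hpos : 0 < Nat.card (Sylow 11 G) := Nat.card_pos
      have := Nat.eq_of_mul_eq_mul_right hpos this
      omega
    -- Frattini
    set M := Subgroup.normalizer (R : Set G)
    have hMcard : Nat.card M = 55 := by
      have : M = Subgroup.normalizer ((R' : Subgroup G) : Set G) := by rw [← heq]
      rw [this, hNR, hd''5]
    have hdvd : N.index ∣ 55 := by
      have h := Subgroup.relIndex_dvd_card N M
      rw [hMcard] at h
      have hsup : M ⊔ N = ⊤ := hfr
      have h2 : N.relIndex M = N.index := by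
        rw [← Subgroup.relIndex_sup_right, hsup, Subgroup.relIndex_top_right]
      rwa [h2] at h
    have h11i : ¬ 11 ∣ N.index := fun h => by
      have := N.card_mul_index
      have : 11 * 11 ∣ 7920 := hcard ▸ this ▸ mul_dvd_mul h11N h
      norm_num at this
    have : N.index ∈ Nat.divisors 55 := Nat.mem_divisors.2 ⟨hdvd, by norm_num⟩
    rw [show Nat.divisors 55 = {1, 5, 11, 55} by decide] at this
    simp only [Finset.mem_insert, Finset.mem_singleton] at this
    rcases this with h | h | h | h <;> [exact Or.inl h; exact Or.inr h; (exfalso; rw [h] at h11i);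
      (exfalso; rw [h] at h11i)] <;> norm_num at h11i
  rcases hidx with h | h
  · exact Subgroup.index_eq_one.1 h
  exfalso
  have hNcard : Nat.card N = 1584 := by
    have := N.card_mul_index
    rw [h, hcard] at this
    omega
  -- the Sylow subgroup of `N` is self-normalising
  have hd1 : d' = 1 := by
    have hmod : Nat.card (Sylow 11 N) % 11 = 1 := card_sylow_modEq_one 11 N
    have hn : d' * Nat.card (Sylow 11 N) = 144 := by rw [hNcard, mul_assoc] at hN'; omega
    have hmem : d' ∈ Nat.divisors 10 := Nat.mem_divisors.2 ⟨hd', by norm_num⟩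
    rw [show Nat.divisors 10 = {1, 2, 5, 10} by decide] at hmem
    simp only [Finset.mem_insert, Finset.mem_singleton] at hmem
    rcases hmem with rfl | rfl | rfl | rfl <;> omega
  have hnc : Subgroup.normalizer ((Q : Subgroup N) : Set N) ≤ Subgroup.centralizer ((Q : Subgroup N) : Set N) := by
    have heq : (Q : Subgroup N) = Subgroup.normalizer ((Q : Subgroup N) : Set N) :=
      Subgroup.eq_of_le_of_card_ge Subgroup.le_normalizer (by rw [hNQ, hd1, hQcard])
    rw [← heq]
    have := isCyclic_of_prime_card hQcard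
    intro x hx
    refine Subgroup.mem_centralizer_iff.2 fun y hy => ?_
    exact congrArg Subtype.val
      (IsCyclic.isMulCommutative.is_comm.comm (⟨y, hy⟩ : (Q : Subgroup N)) ⟨x, hx⟩)
  let τ := MonoidHom.transferSylow Q hnc
  have hcompl := MonoidHom.ker_transferSylow_isComplement' Q hnc
  have hKcard : Nat.card τ.ker = 144 := by
    have := hcompl.card_mul_card
    rw [hQcard, hNcard] at this
    change Nat.card τ.ker * 11 = 1584 at this
    omega
  let K : Subgroup G := τ.ker.map N.subtype
  have hKcard' : Nat.card K = 144 :=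
    (Nat.card_congr (Subgroup.equivMapOfInjective _ _ N.subtype_injective).toEquiv).symm.trans hKcard
  have hτidx : τ.ker.index = 11 := by
    have := τ.ker.card_mul_index
    rw [hKcard, hNcard] at this
    omega
  have hKn : K.Normal := ⟨by
    rintro _ ⟨x, hx, rfl⟩ g
    let y : N := ⟨g * x * g⁻¹, hN.conj_mem x x.2 g⟩
    refine ⟨y, ?_, rfl⟩
    have hxo : (x : G) ^ 144 = 1 := by
      have := pow_card_eq_one' (x := (⟨x, hx⟩ : τ.ker))
      rw [hKcard] at this
      simpa using congrArg (fun z : τ.ker => ((z : N) : G)) this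
    have hy : y ^ 144 = 1 := Subtype.ext (by
      show (g * (x : G) * g⁻¹) ^ 144 = 1
      rw [conj_pow, hxo, mul_one, mul_inv_cancel])
    have h11' : y ^ 11 ∈ τ.ker := by
      have := Subgroup.pow_index_mem τ.ker y
      rwa [hτidx] at this
    have : y = (y ^ 144) * ((y ^ 11) ^ 13)⁻¹ := by group
    rw [this, hy, one_mul]
    exact τ.ker.inv_mem (τ.ker.pow_mem h11' 13)⟩
  have hKne : K ≠ ⊥ := fun e => by rw [e, Subgroup.card_bot] at hKcard'; omega
  have := normal_transitive h2 K hKne
  have h11K : 11 ∣ Nat.card K := by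
    rw [← (stabilizer K a).card_mul_index, index_stabilizer_of_transitive, h11]
    exact dvd_mul_left 11 _
  rw [hKcard'] at h11K
  norm_num at h11K

/-- A sharply 5-transitive group of degree 12 is simple of order 95040. -/
theorem twelve (hS : SharpK G Ω 5) (h12 : Nat.card Ω = 12) :
    IsSimpleGroup G ∧ Nat.card G = 95040 := by
  have hcard : Nat.card G = 95040 := by rw [hS.card_eq (by omega), h12]; rfl
  refine ⟨?_, hcard⟩
  have : FaithfulSMul G Ω := not_six_thirteen.faithful_of_sharp hS (by omega)
  have h2 : IsMultiplyPretransitive G Ω 2 := by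
    have := hS.trans
    exact isMultiplyPretransitive_of_le (n := 5) (by omega) (by omega)
  have := hS.pretransitive (by omega)
  obtain ⟨a⟩ : Nonempty Ω := (Nat.card_pos_iff.1 (by omega)).1
  have hA := hS.stab a
  have hAc : Nat.card (SubMulAction.ofStabilizer G a) = 11 := by
    have := card_ofStabilizer (G := G) a; omega
  obtain ⟨hsimp, -⟩ := eleven hA hAc
  have : Nontrivial G := Finite.one_lt_card_iff_nontrivial.1 (by omega)
  refine ⟨fun N hN => ?_⟩
  by_cases hne : N = ⊥
  · exact Or.inl hne
  refine Or.inr ?_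
  have htr := normal_transitive h2 N hne
  rcases hsimp.eq_bot_or_eq_top_of_normal (N.subgroupOf (stabilizer G a))
    ⟨fun n hn x => hN.conj_mem n hn x⟩ with hb | ht
  · -- a regular normal subgroup of order 12
    exfalso
    have hreg : ∀ n ∈ N, n • a = a → n = 1 := fun n hn hna => by
      have : (⟨n, hna⟩ : stabilizer G a) ∈ N.subgroupOf (stabilizer G a) := hn
      rw [hb, Subgroup.mem_bot] at this
      exact congrArg Subtype.val this
    have hstab : stabilizer N a = ⊥ := (Subgroup.eq_bot_iff_forall _).2 fun x hx =>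
      Subtype.ext (hreg x x.2 hx)
    have hN12 : Nat.card N = 12 := by
      rw [← (stabilizer N a).card_mul_index, index_stabilizer_of_transitive, hstab, h12,
        Subgroup.card_bot, one_mul]
    have hord : ∀ q, q.Prime → q ∣ Nat.card N → ∃ n ∈ N, orderOf n = q := fun q hq hqd => by
      have : Fact q.Prime := ⟨hq⟩
      obtain ⟨n, hn⟩ := exists_prime_orderOf_dvd_card' q hqd
      exact ⟨n, n.2, by rwa [Subgroup.orderOf_coe]⟩
    obtain ⟨x, hx, hxo⟩ := hord 2 Nat.prime_two (by rw [hN12]; norm_num)
    obtain ⟨y, hy, hyo⟩ := hord 3 Nat.prime_three (by rw [hN12]; norm_num)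
    have hxa : x • a ≠ a := fun e => by
      rw [hreg x hx e, orderOf_one] at hxo; omega
    have hya : y • a ≠ a := fun e => by
      rw [hreg y hy e, orderOf_one] at hyo; omega
    obtain ⟨g, g1, g2⟩ := (is_two_pretransitive_iff.1 h2) hxa.symm hya.symm
    have hc : y⁻¹ * (g * x * g⁻¹) = 1 := by
      refine hreg _ (N.mul_mem (N.inv_mem hy) (hN.conj_mem x hx g)) ?_
      rw [mul_smul, mul_smul, mul_smul, show g⁻¹ • a = a from inv_smul_eq_iff.2 g1.symm, g2,
        inv_smul_smul]
    have := (MulAut.conj g).orderOf_eq x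
    rw [MulAut.conj_apply, ← inv_mul_eq_one.1 hc, hxo, hyo] at this
    omega
  · rw [eq_top_iff]
    intro g _
    obtain ⟨⟨n, hn⟩, hna⟩ := htr.exists_smul_eq a (g • a)
    have hna' : n • a = g • a := hna
    have hmem : n⁻¹ * g ∈ stabilizer G a := by
      rw [mem_stabilizer_iff, mul_smul, ← hna', inv_smul_smul]
    have : n⁻¹ * g ∈ N := by
      have h' : (⟨_, hmem⟩ : stabilizer G a) ∈ N.subgroupOf (stabilizer G a) := ht ▸ Subgroup.mem_top _
      exact h'
    simpa using N.mul_mem hn this

end Cfsg.Agent.SharpFour
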