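import Cfsg.Agent.Lib.Perm.LWReduce
import Cfsg.Agent.Lib.Perm.LWLevel
import Cfsg.Agent.Lib.Perm.LWEleven
import Cfsg.Agent.Lib.Perm.SharpHigh

/-!
A `k`-transitive group with `4 ≤ k < n` induces all even permutations on some `(k+1)`-set.
-/

set_option autoImplicit false
set_option linter.style.haveILetI false
set_option linter.unusedSectionVars false

namespace Cfsg.Agent.LWExtend

open MulAction Cfsg.Agent.LWSign Cfsg.Agent.LWBasic

attribute [local instance 2000] Function.Embedding.instMulAction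

universe u

variable {α : Type u} [Fintype α] [DecidableEq α] {G : Subgroup (Equiv.Perm α)}

/-- Only the identity fixes `m` points. -/
def FreeAbove (G : Subgroup (Equiv.Perm α)) (m : ℕ) : Prop :=
  ∀ g : G, ∀ s : Finset α, m ≤ s.card → (∀ x ∈ s, g • x = x) → g = 1

/-- A maximal `r`-subgroup with more than `j` fixed points, when there is one. -/
theorem exists_maximal {j : ℕ} (h : ¬ FreeAbove G (j + 1)) :
    ∃ r : ℕ, r.Prime ∧ ∃ (M : Subgroup G) (F : Finset α), IsPGroup r M ∧
      (∀ x, x ∈ F ↔ ∀ m ∈ M, m • x = x) ∧ j < F.card ∧ F.card < Fintype.card α ∧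
      ∀ M' : Subgroup G, IsPGroup r M' → M < M' →
        ∀ s : Finset α, (∀ x ∈ s, ∀ m ∈ M', m • x = x) → s.card ≤ j := by
  classical
  simp only [FreeAbove, not_forall] at h
  obtain ⟨g, s, hs, hg, hg1⟩ := h
  set r := (orderOf g).minFac with hr
  have hrp : r.Prime := Nat.minFac_prime (fun e => hg1 (orderOf_eq_one_iff.1 e))
  haveI := Fact.mk hrp
  set z := g ^ (orderOf g / r) with hz
  have hzo : orderOf z = r := orderOf_pow_orderOf_div (orderOf_pos g).ne' (Nat.minFac_dvd _)
  have hzfix : ∀ m ∈ Subgroup.zpowers z, ∀ x ∈ s, m • x = x := by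
    intro m hm x hx
    have : z ∈ stabilizer G x := pow_mem (mem_stabilizer_iff.2 (hg x hx)) _
    exact mem_stabilizer_iff.1 ((Subgroup.zpowers_le.2 this) hm)
  haveI := Fintype.ofFinite (Subgroup G)
  obtain ⟨M, hM, hmax⟩ := Finset.exists_max_image
    (Finset.univ.filter fun K : Subgroup G => IsPGroup r K ∧ r ≤ Nat.card K ∧
      ∃ s : Finset α, j + 1 ≤ s.card ∧ ∀ x ∈ s, ∀ m ∈ K, m • x = x)
    (fun K => Nat.card K)
    ⟨Subgroup.zpowers z, Finset.mem_filter.2 ⟨Finset.mem_univ _,
      IsPGroup.of_card (n := 1) (by rw [Nat.card_zpowers, hzo, pow_one]),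
      by rw [Nat.card_zpowers, hzo], s, hs, fun x hx m hm => hzfix m hm x hx⟩⟩
  obtain ⟨-, hMp, hMc, s', hs', hMfix⟩ := Finset.mem_filter.1 hM
  refine ⟨r, hrp, M, Finset.univ.filter (fun x => ∀ m ∈ M, m • x = x), hMp,
    fun x => by simp, ?_, ?_, ?_⟩
  · refine lt_of_lt_of_le hs' (Finset.card_le_card fun x hx => ?_)
    exact Finset.mem_filter.2 ⟨Finset.mem_univ x, hMfix x hx⟩
  · rw [← Finset.card_univ]
    refine Finset.card_lt_card (Finset.filter_ssubset.2 ?_)
    haveI : Nontrivial M := Finite.one_lt_card_iff_nontrivial.1 (lt_of_lt_of_le hrp.one_lt hMc)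
    obtain ⟨m, hm⟩ := exists_ne (1 : M)
    refine Classical.byContradiction fun hall => hm (Subtype.ext (Subtype.ext (Equiv.ext fun x => ?_)))
    simp only [not_exists, not_and, not_not] at hall
    exact hall x (Finset.mem_univ x) m m.2
  · intro M' hM' hlt t ht
    by_contra hj
    have h2 : Nat.card M < Nat.card M' := by
      refine lt_of_le_of_ne (Subgroup.card_le_of_le hlt.le) fun e => hlt.ne ?_
      exact Subgroup.eq_of_le_of_card_ge hlt.le e.ge
    have := hmax M' (Finset.mem_filter.2 ⟨Finset.mem_univ _, hM', hMc.trans h2.le, t,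
      by omega, ht⟩)
    omega

/-- All even permutations extend, in the presence of the alternating group. -/
theorem exists_extend {i : ℕ} (hA : alternatingGroup α ≤ G) (t : Fin i ↪ α)
    (π : Equiv.Perm (Fin i)) (hπ : π ∈ alternatingGroup (Fin i)) : ∃ g : G, g • t = pre π t := by
  classical
  refine ⟨⟨π.extendDomain (Equiv.ofInjective t t.injective), hA ?_⟩, DFunLike.ext _ _ fun l => ?_⟩
  · rw [Equiv.Perm.mem_alternatingGroup] at hπ ⊢
    rwa [Equiv.Perm.sign_extendDomain]
  · exact Equiv.Perm.extendDomain_apply_image π (Equiv.ofInjective t t.injective) l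

theorem range_top_of_swaps {i : ℕ} (t : Fin i ↪ α) (h : LWEleven.AllSwaps G t) :
    (induced (G := G) t).range = ⊤ := by
  rw [eq_top_iff, ← Equiv.Perm.closure_isSwap, Subgroup.closure_le]
  rintro σ ⟨a, b, -, rfl⟩
  obtain ⟨g, hg⟩ := h a b
  exact (mem_range_induced t _).2 ⟨g, DFunLike.ext _ _ hg⟩

theorem card_stab_dvd {k : ℕ} (hG : IsMultiplyPretransitive G α k) (t₀ : Fin k ↪ α) {g : G}
    {s : Finset α} (hs : s.card = k) (hg : ∀ x ∈ s, g • x = x) :
    orderOf g ∣ Nat.card (stabilizer G t₀) := by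
  obtain ⟨S, hS⟩ := Function.Embedding.exists_of_card_eq_finset (α := Fin k) (s := s)
    (by rw [Fintype.card_fin, hs])
  have hgS : g ∈ stabilizer G S := by
    rw [mem_stabilizer_iff, LWCycles.smul_eq_iff_forall]
    exact fun l => hg _ (hS ▸ Finset.mem_map_of_mem S (Finset.mem_univ l))
  have h1 := card_eq_desc_mul hG S
  rw [card_eq_desc_mul hG t₀] at h1
  rw [Nat.eq_of_mul_eq_mul_left (Nat.descFactorial_pos.2 (by
    simpa using Fintype.card_le_of_embedding t₀)) h1]
  have := orderOf_dvd_natCard (⟨g, hgS⟩ : stabilizer G S)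
  rwa [← Subgroup.orderOf_coe] at this

theorem sharp_of_eq_one {k : ℕ} (hG : IsMultiplyPretransitive G α k) (t₀ : Fin k ↪ α)
    (h : Nat.card (stabilizer G t₀) = 1) : SharpFour.SharpK G α k := by
  refine ⟨hG, fun x => Subgroup.eq_bot_of_card_eq _ ?_⟩
  have h1 := card_eq_desc_mul hG x
  rw [card_eq_desc_mul hG t₀, h] at h1
  exact (Nat.eq_of_mul_eq_mul_left (Nat.descFactorial_pos.2 (by
    simpa using Fintype.card_le_of_embedding t₀)) h1).symm

theorem exists_alternating : ∀ (n : ℕ) {α : Type u} [Fintype α] [DecidableEq α]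
    (G : Subgroup (Equiv.Perm α)) (k : ℕ), Fintype.card α = n → 4 ≤ k → k < n →
    IsMultiplyPretransitive G α k →
    ∃ t : Fin (k + 1) ↪ α, ∀ π ∈ alternatingGroup (Fin (k + 1)),
      ∃ g : G, g • t = pre π t := by
  intro n
  induction n using Nat.strong_induction_on with
  | _ n ih =>
  intro α _ _ G k hn hk hkn hG
  classical
  by_cases hfree : FreeAbove G (k + 1)
  swap
  · obtain ⟨r, hr, M, F, hM, hF, hjF, hFn, hmax⟩ := exists_maximal hfree
    haveI := Fact.mk hr
    have htr := LWReduce.normalizer_transitive hG (by omega) M hM F hF hjF hmax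
    obtain ⟨t, ht⟩ := ih F.card (hn ▸ hFn) _ k (Fintype.card_coe F) hk hjF htr
    refine ⟨t.trans (Function.Embedding.subtype _), fun π hπ => ?_⟩
    obtain ⟨⟨σ, m, rfl⟩, hg⟩ := ht π hπ
    refine ⟨m, DFunLike.ext _ _ fun l => ?_⟩
    exact congrArg (fun u : Fin (k + 1) ↪ ↥F => (u l : α)) hg
  obtain ⟨i, rfl⟩ : ∃ i, k = i + 2 := ⟨k - 2, by omega⟩
  obtain ⟨t₀⟩ : Nonempty (Fin (i + 2) ↪ α) :=
    Function.Embedding.nonempty_of_card_le (by simp; omega)
  obtain ⟨t⟩ : Nonempty (Fin (i + 2 + 1) ↪ α) :=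
    Function.Embedding.nonempty_of_card_le (by simp; omega)
  have hfree' : ∀ g : G, ∀ u : Fin (i + 2 + 1) ↪ α, g • u = u → g = 1 := fun g u hu =>
    hfree g (Finset.univ.map u) (by simp) fun x hx => by
      obtain ⟨l, -, rfl⟩ := Finset.mem_map.1 hx
      exact (LWCycles.smul_eq_iff_forall g u).1 hu l
  by_cases h2 : 2 ∣ Nat.card (stabilizer G t₀)
  · refine ⟨t, fun π _ => (mem_range_induced t π).1 ?_⟩
    rw [LWCycles.range_eq_top (i := i + 1) hfree' hG t₀ h2 t]
    exact Subgroup.mem_top π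
  by_cases h3 : 3 ∣ Nat.card (stabilizer G t₀)
  · exact ⟨t, fun π hπ =>
      (mem_range_induced t π).1 (LWCycles.alternating_le_range (i := i) hfree' hG t₀ h3 t hπ)⟩
  by_cases hn2 : n ≤ i + 2 + 2
  · have hA : alternatingGroup α ≤ G := by
      refine IsMultiplyPretransitive.alternatingGroup_le α G ?_
      haveI := hG
      exact isMultiplyPretransitive_of_le (n := i + 2)
        (by rw [Nat.card_eq_fintype_card]; omega) (by rw [Nat.card_eq_fintype_card]; omega)
    exact ⟨t, fun π hπ => exists_extend hA t π hπ⟩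
  have hone : Nat.card (stabilizer G t₀) = 1 := by
    rw [Nat.card_eq_one_iff_unique]
    refine ⟨⟨fun a b => ?_⟩, ⟨1⟩⟩
    have key : ∀ c : stabilizer G t₀, c = 1 := fun c => Subtype.ext
      (LWLevel.eq_one hG hk (by omega) hfree t₀ (fun g s hs hg => by
        have hd := card_stab_dvd hG t₀ hs hg
        exact ⟨Nat.not_even_iff_odd.1 fun he => h2 (he.two_dvd.trans hd),
          Or.inl fun h => h3 (h.trans hd)⟩) c c.2)
    rw [key a, key b]
  have hS := sharp_of_eq_one hG t₀ hone
  rcases SharpFour.degree_high (i + 2) hS hk (by rw [Nat.card_eq_fintype_card]; omega) with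
    e | e | e | ⟨hi5, e⟩ <;> rw [Nat.card_eq_fintype_card, hn] at e
  · omega
  · omega
  · omega
  obtain hi | hi : i = 2 ∨ i = 3 := by omega
  · subst hi
    have d : ∀ a b : Fin 4, a ≠ b → t₀ a ≠ t₀ b := fun a b h e => h (t₀.injective e)
    obtain ⟨x, h0, h1, h2', h3', hx⟩ := LWEleven.exists_five hS (by omega) (a := t₀ 0) (b := t₀ 1)
      (c := t₀ 2) (d := t₀ 3)
      ⟨d 0 1 (by decide), d 0 2 (by decide), d 0 3 (by decide), d 1 2 (by decide), d 1 3 (by decide),
        d 2 3 (by decide)⟩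
    let T : Fin 5 ↪ α := ⟨_, LWEleven.injective_five (d 0 1 (by decide)) (d 0 2 (by decide))
      (d 0 3 (by decide)) h0.symm (d 1 2 (by decide)) (d 1 3 (by decide)) h1.symm (d 2 3 (by decide))
      h2'.symm h3'.symm⟩
    refine ⟨T, fun π _ => (mem_range_induced T π).1 ?_⟩
    rw [range_top_of_swaps T hx]
    exact Subgroup.mem_top π
  · subst hi
    obtain ⟨T, hT⟩ := LWEleven.exists_six hS (by omega)
    refine ⟨T, fun π _ => (mem_range_induced T π).1 ?_⟩
    rw [range_top_of_swaps T hT]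
    exact Subgroup.mem_top π

end Cfsg.Agent.LWExtend
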