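import Cfsg.Agent.Lib.Perm.LWBasic
import Cfsg.Agent.Lib.Perm.Sharp
import Mathlib.GroupTheory.Sylow

/-!
The two small configurations excluded in the Livingstone–Wagner analysis.
-/

set_option autoImplicit false
set_option linter.style.haveILetI false
set_option linter.unusedSectionVars false

namespace Cfsg.Agent.LWSmall

open MulAction Cfsg.Agent.LWSign Cfsg.Agent.LWBasic

attribute [local instance 2000] Function.Embedding.instMulAction

variable {α : Type*} [Fintype α] [DecidableEq α] {G : Subgroup (Equiv.Perm α)}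

/-- Two-element tuples. -/
def pair (x y : α) (h : x ≠ y) : Fin 2 ↪ α :=
  ⟨![x, y], by intro i j hij; fin_cases i <;> fin_cases j <;> simp_all⟩

/-- No sharply 3-transitive group of degree 7. -/
theorem no_seven (htr : IsMultiplyPretransitive G α 3) (hn : Fintype.card α = 7)
    (hfree : ∀ g : G, ∀ s : Finset α, 3 ≤ s.card → (∀ x ∈ s, g • x = x) → g = 1) : False := by
  obtain ⟨a⟩ : Nonempty α := Fintype.card_pos_iff.1 (by omega)
  haveI := htr
  haveI : IsPretransitive G α := by
    rw [← is_one_pretransitive_iff]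
    exact isMultiplyPretransitive_of_le (n := 3) (by omega) (by rw [Nat.card_eq_fintype_card]; omega)
  have h2 : IsMultiplyPretransitive (stabilizer G a) (SubMulAction.ofStabilizer G a) 2 :=
    SubMulAction.ofStabilizer.isMultiplyPretransitive.1 htr
  have hc : Nat.card (SubMulAction.ofStabilizer G a) = 6 := by
    have : Nat.card (SubMulAction.ofStabilizer G a) + 1 = Nat.card α := by
      haveI := Fintype.ofFinite α
      rw [← Nat.card_congr (Equiv.optionSubtypeNe a), Finite.card_option]
      congr 1
    rw [Nat.card_eq_fintype_card (α := α), hn] at this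
    omega
  obtain ⟨p, j, N, hp, -, hcard, -⟩ := PermSharp.exists_regular_normal h2 (by omega)
    (fun g x y hxy hx hy => by
      apply Subtype.ext
      refine hfree g {a, (x : α), (y : α)} ?_ ?_
      · rw [Finset.card_insert_of_notMem, Finset.card_pair (fun e => hxy (Subtype.ext e))]
        simp only [Finset.mem_insert, Finset.mem_singleton, not_or]
        exact ⟨fun e => x.2 e.symm, fun e => y.2 e.symm⟩
      · intro z hz
        simp only [Finset.mem_insert, Finset.mem_singleton] at hz
        rcases hz with rfl | rfl | rfl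
        · exact g.2
        · exact congrArg Subtype.val hx
        · exact congrArg Subtype.val hy)
  rw [hc] at hcard
  have h2p := (Nat.prime_dvd_prime_iff_eq Nat.prime_two hp).1
    (Nat.prime_two.dvd_of_dvd_pow (show 2 ∣ p ^ j by omega))
  have h3p := (Nat.prime_dvd_prime_iff_eq Nat.prime_three hp).1
    (Nat.prime_three.dvd_of_dvd_pow (show 3 ∣ p ^ j by omega))
  omega

/-- No 3-transitive group of degree 24 with three-point stabilisers semiregular of order 7. -/
theorem no_twenty_four (htr : IsMultiplyPretransitive G α 3) (hn : Fintype.card α = 24)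
    (hfree : ∀ g : G, ∀ s : Finset α, 4 ≤ s.card → (∀ x ∈ s, g • x = x) → g = 1)
    (t : Fin 3 ↪ α) (hq : Nat.card (stabilizer G t) = 7) : False := by
  haveI := htr
  haveI h2 : IsMultiplyPretransitive G α 2 :=
    isMultiplyPretransitive_of_le (n := 3) (by omega) (by rw [Nat.card_eq_fintype_card]; omega)
  set x := t 0 with hx
  set y := t 1 with hy
  set z := t 2 with hz
  have hxy : x ≠ y := fun e => absurd (t.injective e) (by decide)
  have hxz : x ≠ z := fun e => absurd (t.injective e) (by decide)
  have hyz : y ≠ z := fun e => absurd (t.injective e) (by decide)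
  set L : Subgroup G := stabilizer G (pair x y hxy) with hL
  have hLcard : Nat.card L = 154 := by
    have h3 := card_eq_desc_mul htr t
    have h2' := card_eq_desc_mul h2 (pair x y hxy)
    rw [h3, hn, hq, ← hL] at h2'
    norm_num [Nat.descFactorial] at h2'
    omega
  have memL : ∀ g : G, g ∈ L ↔ g • x = x ∧ g • y = y := by
    intro g
    rw [hL, mem_stabilizer_iff]
    constructor
    · intro h
      exact ⟨congrArg (fun u : Fin 2 ↪ α => u 0) h, congrArg (fun u : Fin 2 ↪ α => u 1) h⟩
    · rintro ⟨ha, hb⟩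
      ext i
      fin_cases i
      · exact ha
      · exact hb
  haveI := Fact.mk (show Nat.Prime 7 by decide)
  haveI := Fact.mk (show Nat.Prime 11 by decide)
  obtain ⟨τ₀, hτ⟩ := exists_prime_orderOf_dvd_card' (G := stabilizer G t) 7 (by rw [hq])
  have hτfix : ∀ i, (τ₀ : G) • t i = t i := fun i =>
    congrArg (fun u : Fin 3 ↪ α => u i) τ₀.2
  set τ : L := ⟨τ₀, (memL _).2 ⟨hτfix 0, hτfix 1⟩⟩ with hτdef
  obtain ⟨σ, hσ⟩ := exists_prime_orderOf_dvd_card' (G := L) 11 (by rw [hLcard]; norm_num)
  have hPcard : Nat.card (Subgroup.zpowers σ) = 11 := by rw [Nat.card_zpowers, hσ]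
  have hindex : (Subgroup.zpowers σ).index = 14 := by
    have := (Subgroup.zpowers σ).card_mul_index
    rw [hPcard, hLcard] at this
    omega
  let P : Sylow 11 L := (IsPGroup.of_card (n := 1) (by rw [hPcard, pow_one]) :
    IsPGroup 11 (Subgroup.zpowers σ)).toSylow (by rw [hindex]; norm_num)
  haveI hN : (Subgroup.zpowers σ).Normal := by
    have h1 : Nat.card (Sylow 11 L) ≡ 1 [MOD 11] := card_sylow_modEq_one 11 L
    have h2 : Nat.card (Sylow 11 L) ∣ 14 := hindex ▸ P.card_dvd_index
    have h3 : Nat.card (Sylow 11 L) ≤ 14 := Nat.le_of_dvd (by norm_num) h2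
    have h4 : Nat.card (Sylow 11 L) = 1 := by
      generalize Nat.card (Sylow 11 L) = m at h1 h2 h3
      interval_cases m <;> simp_all [Nat.ModEq]
    haveI := (Nat.card_eq_one_iff_unique.1 h4).1
    exact Sylow.normal_of_subsingleton P
  obtain ⟨i, hi⟩ : ∃ i : ℕ, σ ^ i = τ * σ * τ⁻¹ :=
    Submonoid.mem_powers_iff _ _ |>.1 (mem_powers_iff_mem_zpowers.2
      (hN.conj_mem σ (Subgroup.mem_zpowers σ) τ))
  have hpow : ∀ m : ℕ, τ ^ m * σ * (τ ^ m)⁻¹ = σ ^ i ^ m := by
    intro m
    induction m with
    | zero => simp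
    | succ m ih =>
      rw [pow_succ', mul_inv_rev, show τ * τ ^ m * σ * ((τ ^ m)⁻¹ * τ⁻¹) =
        τ * (τ ^ m * σ * (τ ^ m)⁻¹) * τ⁻¹ by simp [mul_assoc], ih, ← conj_pow, ← hi,
        ← pow_mul, pow_succ']
  have h7 : τ ^ 7 = 1 := by
    apply Subtype.ext
    rw [SubmonoidClass.coe_pow]
    change (τ₀ : G) ^ 7 = 1
    rw [← SubmonoidClass.coe_pow, ← hτ, pow_orderOf_eq_one]
    rfl
  have h17 := hpow 7
  rw [h7, one_mul, inv_one, mul_one] at h17
  nth_rewrite 1 [← pow_one σ] at h17
  rw [pow_eq_pow_iff_modEq, hσ] at h17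
  have hi1 : i % 11 = 1 := by
    have key : ∀ k, k < 11 → k ^ 7 % 11 = 1 → k = 1 := by decide
    refine key _ (Nat.mod_lt _ (by norm_num)) ?_
    rw [← Nat.pow_mod]
    exact h17.symm
  have hcomm : τ * σ = σ * τ := by
    rw [← pow_mod_orderOf, hσ, hi1, pow_one] at hi
    conv_rhs => rw [hi]
    rw [inv_mul_cancel_right]
  have hσL := (memL _).1 σ.2
  set w := (σ : G) • z with hw
  have hτw : (τ₀ : G) • w = w := by
    have h : (τ₀ : G) * (σ : G) = (σ : G) * (τ₀ : G) := congrArg Subtype.val hcomm
    rw [hw, ← mul_smul, h, mul_smul, hz, hτfix 2]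
  have hwz : w = z := by
    by_contra hne
    have hwx : w ≠ x := fun e => by
      apply hxz
      rw [hw] at e
      exact (smul_left_cancel (σ : G) (e.trans hσL.1.symm)).symm
    have hwy : w ≠ y := fun e => by
      apply hyz
      rw [hw] at e
      exact (smul_left_cancel (σ : G) (e.trans hσL.2.symm)).symm
    have h := hfree τ₀ {w, x, y, z} (by
      rw [Finset.card_insert_of_notMem (by simp [hwx, hwy, hne]),
        Finset.card_insert_of_notMem (by simp [hxy, hxz]), Finset.card_pair hyz]) (by
      intro v hv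
      simp only [Finset.mem_insert, Finset.mem_singleton] at hv
      rcases hv with rfl | rfl | rfl | rfl
      · exact hτw
      · exact hτfix 0
      · exact hτfix 1
      · exact hτfix 2)
    have : orderOf τ₀ = 1 := by rw [orderOf_eq_one_iff]; exact Subtype.ext h
    omega
  have hσt : (σ : G) ∈ stabilizer G t := by
    rw [mem_stabilizer_iff]
    ext i
    fin_cases i
    · exact hσL.1
    · exact hσL.2
    · exact hwz
  have hdvd := orderOf_dvd_natCard (⟨(σ : G), hσt⟩ : stabilizer G t)
  rw [← Subgroup.orderOf_coe, Subgroup.orderOf_coe σ, hσ, hq] at hdvd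
  norm_num at hdvd

end Cfsg.Agent.LWSmall
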