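import Cfsg.Agent.Lib.Perm.LWCycles
import Cfsg.Agent.Lib.Perm.LWLevel
import Cfsg.Agent.Lib.Perm.LWSmall
import Cfsg.Agent.Lib.Perm.SharpHigh
import Cfsg.Agent.S0744
import Cfsg.Agent.S0713
import Mathlib.GroupTheory.GroupAction.SubMulAction.OfFixingSubgroup

/-!
Groups of degree `n > j + 2` that are `j`- but not `(j+1)`-transitive and `(j+1)`- and
`(j+2)`-homogeneous (Livingstone–Wagner).
-/

set_option autoImplicit false
set_option linter.style.haveILetI false
set_option linter.unusedSectionVars false

namespace Cfsg.Agent.LWMain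

open MulAction Cfsg.Agent.LWSign Cfsg.Agent.LWBasic
open scoped Nat Pointwise

attribute [local instance 2000] Function.Embedding.instMulAction

variable {α : Type*} [Fintype α] [DecidableEq α] {G : Subgroup (Equiv.Perm α)} {j : ℕ}

/-- The standing hypotheses. -/
structure Hyp (G : Subgroup (Equiv.Perm α)) (j : ℕ) : Prop where
  hj : 1 ≤ j
  hn : j + 2 < Fintype.card α
  htr : IsMultiplyPretransitive G α j
  hnot : ¬ IsMultiplyPretransitive G α (j + 1)
  hh1 : IsPretransitive G (Set.powersetCard α (j + 1))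
  hh2 : IsPretransitive G (Set.powersetCard α (j + 2))

theorem exists_tuple {i : ℕ} (hi : i ≤ Fintype.card α) : Nonempty (Fin i ↪ α) :=
  Function.Embedding.nonempty_of_card_le (by simpa using hi)

theorem key_q {m q : ℕ} (hm : m ≤ 24) (hq : q ≤ 14) (hm3 : 3 ≤ m) (hq5 : 5 ≤ q)
    (h1 : m ∣ 24) (h2 : m * (m * q - 1) ∣ 120) (h3 : ¬ 2 ∣ q) (h4 : ¬ 3 ∣ q) : m = 3 ∧ q = 7 := by
  have key : ∀ m : Fin 25, ∀ q : Fin 15, 3 ≤ m.1 → 5 ≤ q.1 → 24 % m.1 = 0 →
      120 % (m.1 * (m.1 * q.1 - 1)) = 0 → q.1 % 2 ≠ 0 → q.1 % 3 ≠ 0 → m.1 = 3 ∧ q.1 = 7 := by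
    decide +kernel
  exact key ⟨m, by omega⟩ ⟨q, by omega⟩ hm3 hq5 (Nat.mod_eq_zero_of_dvd h1)
    (Nat.mod_eq_zero_of_dvd h2) (fun e => h3 (Nat.dvd_of_mod_eq_zero e))
    (fun e => h4 (Nat.dvd_of_mod_eq_zero e))

namespace Hyp

variable (h : Hyp G j)
include h

theorem free_set (g : G) (s : Finset α) (hs : j + 1 ≤ s.card) (hg : ∀ x ∈ s, g • x = x) :
    g = 1 := by
  obtain ⟨s', hsub, hs'⟩ := Finset.exists_subset_card_eq hs
  have hn := h.hn
  obtain ⟨sk, -, hsk⟩ := Finset.exists_subset_card_eq (s := (Finset.univ : Finset α)) (n := j + 2)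
    (by rw [Finset.card_univ]; omega)
  set l := Nat.card (fixingSubgroup G (s' : Set α)) with hl
  have hle : ¬ 1 < l := fun hl1 => h.hnot <| by
    have := S0744.result G (k := j + 2) (by omega) (by omega) l
      (Nat.card (fixingSubgroup G (sk : Set α))) hl1
      (fun t ht => conj_fixing h.hh1 t s' (by omega) hs')
      (fun t ht => conj_fixing h.hh2 t sk ht hsk)
    simpa using this
  have hmem : g ∈ fixingSubgroup G (s' : Set α) :=
    (mem_fixingSubgroup_iff G).2 fun x hx => hg x (hsub hx)
  by_contra hg1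
  haveI : Nontrivial (fixingSubgroup G (s' : Set α)) :=
    ⟨⟨⟨g, hmem⟩, 1, fun e => hg1 (congrArg Subtype.val e)⟩⟩
  exact hle Finite.one_lt_card

theorem free (g : G) (t : Fin (j + 1) ↪ α) (ht : g • t = t) : g = 1 :=
  h.free_set g (Finset.univ.map t) (by simp) fun x hx => by
    obtain ⟨l, -, rfl⟩ := Finset.mem_map.1 hx
    exact congrArg (fun u : Fin (j + 1) ↪ α => u l) ht

/-- The index of the group induced on a `(j+1)`-set. -/
theorem index_mul_card (t₀ : Fin j ↪ α) (t₁ : Fin (j + 1) ↪ α) :
    (induced (G := G) t₁).range.index * Nat.card (stabilizer G t₀) = Fintype.card α - j := by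
  have e1 := card_eq_choose_mul h.hh1 t₁
  have e2 := card_eq_desc_mul h.htr t₀
  have e3 : (induced (G := G) t₁).range.index * Nat.card (stabSet G t₁) = (j + 1)! := by
    rw [← card_range_induced t₁ (fun g => h.free g t₁), Subgroup.index_mul_card,
      Nat.card_eq_fintype_card, Fintype.card_perm, Fintype.card_fin]
  have e4 := Nat.descFactorial_eq_factorial_mul_choose (Fintype.card α) (j + 1)
  rw [Nat.descFactorial_succ, ← e3] at e4
  have hn := h.hn
  have hpos : 0 < (Fintype.card α).descFactorial j := Nat.descFactorial_pos.2 (by omega)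
  apply Nat.eq_of_mul_eq_mul_left hpos
  calc _ = (induced (G := G) t₁).range.index *
        ((Fintype.card α).descFactorial j * Nat.card (stabilizer G t₀)) := by ring
    _ = (induced (G := G) t₁).range.index *
        ((Fintype.card α).choose (j + 1) * Nat.card (stabSet G t₁)) := by rw [← e2, ← e1]
    _ = _ := by rw [mul_comm ((Fintype.card α).descFactorial j), e4]; ring

/-- The group induced on a `(j+2)`-set. -/
theorem index_mul_mul_card (t₁ : Fin (j + 1) ↪ α) (t₂ : Fin (j + 2) ↪ α) :
    (induced (G := G) t₁).range.index * (Fintype.card α - (j + 1)) * Nat.card (stabSet G t₂) =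
      (j + 2)! := by
  have e1 := card_eq_choose_mul h.hh1 t₁
  have e2 := card_eq_choose_mul h.hh2 t₂
  have e3 : (induced (G := G) t₁).range.index * Nat.card (stabSet G t₁) = (j + 1)! := by
    rw [← card_range_induced t₁ (fun g => h.free g t₁), Subgroup.index_mul_card,
      Nat.card_eq_fintype_card, Fintype.card_perm, Fintype.card_fin]
  have e4 : (Fintype.card α).choose (j + 2) * (j + 2) =
      (Fintype.card α).choose (j + 1) * (Fintype.card α - (j + 1)) :=
    Nat.choose_succ_right_eq _ _
  have hn := h.hn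
  apply Nat.eq_of_mul_eq_mul_left (Nat.choose_pos (show j + 1 ≤ Fintype.card α by omega))
  calc _ = (induced (G := G) t₁).range.index * ((Fintype.card α).choose (j + 1) *
        (Fintype.card α - (j + 1))) * Nat.card (stabSet G t₂) := by ring
    _ = (induced (G := G) t₁).range.index * (j + 2) *
        ((Fintype.card α).choose (j + 2) * Nat.card (stabSet G t₂)) := by rw [← e4]; ring
    _ = (induced (G := G) t₁).range.index * (j + 2) *
        ((Fintype.card α).choose (j + 1) * Nat.card (stabSet G t₁)) := by rw [← e2, ← e1]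
    _ = _ := by rw [show (j + 2)! = (j + 2) * (j + 1)! from Nat.factorial_succ _, ← e3]; ring

theorem two_le_index (t₁ : Fin (j + 1) ↪ α) : 2 ≤ (induced (G := G) t₁).range.index := by
  have h0 : (induced (G := G) t₁).range.index ≠ 0 := Subgroup.index_ne_zero_of_finite
  by_contra hlt
  have htop : (induced (G := G) t₁).range = ⊤ := Subgroup.index_eq_one.1 (by omega)
  refine h.hnot ⟨fun u w => ?_⟩
  have key : ∀ v : Fin (j + 1) ↪ α, ∃ g : G, g • t₁ = v := by
    intro v
    obtain ⟨g, π, hg⟩ := exists_smul_pre h.hh1 t₁ v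
    obtain ⟨g', hg'⟩ := (mem_range_induced t₁ π).1 (htop ▸ Subgroup.mem_top π)
    exact ⟨g * g', by rw [mul_smul, hg', hg]⟩
  obtain ⟨gu, hu⟩ := key u
  obtain ⟨gw, hw⟩ := key w
  exact ⟨gw * gu⁻¹, by rw [← hu, mul_smul, inv_smul_smul, hw]⟩

/-- The case of two orbits on `(j+1)`-tuples. -/
theorem index_two (t₁ : Fin (j + 1) ↪ α) (hm : (induced (G := G) t₁).range.index = 2) :
    Fintype.card α = 9 ∧ j = 3 ∧ Nat.card G = 1512 := by
  classical
  have hn := h.hn
  have hj := h.hj
  have hH : (induced (G := G) t₁).range = alternatingGroup (Fin (j + 1)) :=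
    Equiv.Perm.eq_alternatingGroup_of_index_eq_two hm
  have hdec : ∀ w : Fin (j + 1) ↪ α, ∃ g : G, ∃ π, w = g • pre π t₁ :=
    exists_smul_pre h.hh1 t₁
  let χ : (Fin (j + 1) ↪ α) → ℤ := fun u => if u ∈ orbit G t₁ then 1 else -1
  have hχ : ∀ (g : G) (π : Equiv.Perm (Fin (j + 1))),
      χ (g • pre π t₁) = (Equiv.Perm.sign π : ℤ) := by
    intro g π
    rcases Int.units_eq_one_or (Equiv.Perm.sign π) with hs | hs
    · obtain ⟨g', hg'⟩ := (mem_range_induced t₁ π).1 (hH ▸ Equiv.Perm.mem_alternatingGroup.2 hs)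
      simp only [χ]
      rw [if_pos ⟨g * g', (mul_smul g g' t₁).trans (by rw [hg'])⟩, hs, Units.val_one]
    · simp only [χ]
      rw [if_neg, hs, Units.val_neg, Units.val_one]
      rintro ⟨g', hg'⟩
      have hmem : π ∈ (induced (G := G) t₁).range :=
        (mem_range_induced t₁ π).2 ⟨g⁻¹ * g', by
          rw [mul_smul, show g' • t₁ = g • pre π t₁ from hg', inv_smul_smul]⟩
      rw [hH, Equiv.Perm.mem_alternatingGroup, hs] at hmem
      exact absurd hmem (by decide)
  let C : Cochain G α j :=
    { χ := χ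
      sq := fun u => by simp only [χ]; split_ifs <;> simp
      inv := fun g u => by
        obtain ⟨g', π, rfl⟩ := hdec u
        rw [← mul_smul, hχ, hχ]
      perm := fun σ u => by
        obtain ⟨g, π, rfl⟩ := hdec u
        rw [← smul_pre, pre_pre, hχ, hχ, map_mul, mul_comm, Units.val_mul] }
  obtain ⟨t₂⟩ := exists_tuple (α := α) (i := j + 2) (by omega)
  have hmom := moment C hj h.htr (by omega) (homog_pre h.hh2) t₂
  have hs0 : total C t₂ ≠ 0 := by
    intro h0
    rw [h0] at hmom
    simp only [ne_eq, OfNat.ofNat_ne_zero, not_false_eq_true, zero_pow, zero_mul] at hmom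
    rcases mul_eq_zero.1 hmom.symm with h1 | h1 <;> omega
  obtain ⟨a, b, hab, habs, hbound⟩ := card_induced_le C hj t₂ hs0
  rw [habs] at hmom
  have hfree2 : ∀ g : G, g • t₂ = t₂ → g = 1 := fun g hg => h.free g (tail t₂) (by
    rw [smul_tail, hg])
  have hcard : Nat.card {π : Equiv.Perm (Fin (j + 2)) // ∃ g : G, g • t₂ = pre π t₂} =
      Nat.card (stabSet G t₂) := by
    rw [← card_range_induced t₂ hfree2]
    exact Nat.card_congr (Equiv.subtypeEquivRight fun π => (mem_range_induced t₂ π).symm)
  rw [hcard] at hbound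
  have e := h.index_mul_mul_card t₁ t₂
  rw [hm] at e
  have hch : (j + 2).choose a ≤ Fintype.card α - (j + 2) + 1 := by
    have h2 := Nat.choose_mul_factorial_mul_factorial (show a ≤ j + 2 by omega)
    rw [show j + 2 - a = b by omega, mul_assoc] at h2
    have hpos : 0 < a ! * b ! := Nat.mul_pos a.factorial_pos b.factorial_pos
    refine Nat.le_of_mul_le_mul_right ?_ hpos
    rw [h2, ← e, show Fintype.card α - (j + 2) + 1 = Fintype.card α - (j + 1) by omega,
      mul_comm 2, mul_assoc]
    exact Nat.mul_le_mul_left _ hbound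
  have e1 := card_eq_choose_mul h.hh1 t₁
  have e3 : 2 * Nat.card (stabSet G t₁) = (j + 1)! := by
    rw [← hm, ← card_range_induced t₁ (fun g => h.free g t₁), Subgroup.index_mul_card,
      Nat.card_eq_fintype_card, Fintype.card_perm, Fintype.card_fin]
  rcases LWSign.arith (k := j + 2) (n := Fintype.card α) (by omega) hn hab (by
      push_cast
      rw [show ((j : ℤ) + 2 - 1) = (j : ℤ) + 1 by ring]
      exact hmom) hch with ⟨hk, hn9⟩ | ⟨hk, hn27⟩
  · obtain rfl : j = 3 := by omega
    refine ⟨hn9, rfl, ?_⟩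
    rw [e1, hn9]
    change 2 * _ = 24 at e3
    have : Nat.card (stabSet G t₁) = 12 := by omega
    rw [this]
    rfl
  · exfalso
    obtain rfl : j = 5 := by omega
    have hG : Nat.card G = 296010 * 360 := by
      rw [e1, hn27]
      change 2 * _ = 720 at e3
      have : Nat.card (stabSet G t₁) = 360 := by omega
      rw [this]
      rfl
    haveI := Fact.mk (show Nat.Prime 23 by decide)
    obtain ⟨g, hg⟩ := exists_prime_orderOf_dvd_card' (G := G) 23 (by rw [hG]; norm_num)
    have hg' : orderOf (g : Equiv.Perm α) = 23 := by rw [Subgroup.orderOf_coe, hg]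
    have hcyc : (g : Equiv.Perm α).IsCycle :=
      Equiv.Perm.isCycle_of_prime_order' (by rw [hg']; decide) (by rw [hg', hn27]; norm_num)
    haveI := h.htr
    haveI h2 : IsMultiplyPretransitive G α 2 :=
      isMultiplyPretransitive_of_le (n := 5) (by omega) (by rw [Nat.card_eq_fintype_card]; omega)
    have hA := S0713.result G (isPreprimitive_of_is_two_pretransitive h2) (p := 23) (by decide)
      (by omega) (by omega) hcyc (by rw [← hcyc.orderOf, hg']) g.2
    haveI := alternatingGroup.isMultiplyPretransitive α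
    haveI h6 : IsMultiplyPretransitive (alternatingGroup α) α 6 :=
      isMultiplyPretransitive_of_le (n := Nat.card α - 2)
        (by rw [Nat.card_eq_fintype_card]; omega) (by omega)
    refine h.hnot ⟨fun u w => ?_⟩
    obtain ⟨g', hg''⟩ := MulAction.exists_smul_eq (alternatingGroup α) u w
    refine ⟨⟨g', hA g'.2⟩, DFunLike.ext _ _ fun l => ?_⟩
    exact congrArg (fun v : Fin 6 ↪ α => v l) hg''

/-- With at least four base points, only the identity fixes `j` points. -/
theorem eq_one_of_coprime (hj4 : 4 ≤ j) (t₀ : Fin j ↪ α)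
    (hcop : ∀ g : G, ∀ s : Finset α, s.card = j → (∀ x ∈ s, g • x = x) →
      Nat.Coprime (orderOf g) 6) (g : G) (hg : g • t₀ = t₀) : g = 1 :=
  LWLevel.eq_one h.htr hj4 h.hn.le h.free_set t₀
    (fun g s hs hfix => by
      have hc := hcop g s hs hfix
      have hno : ∀ p : ℕ, 2 ≤ p → p ∣ 6 → ¬ p ∣ orderOf g := fun p hp h6 hd => by
        have := Nat.le_of_dvd Nat.one_pos (hc ▸ Nat.dvd_gcd hd h6)
        omega
      exact ⟨Nat.not_even_iff_odd.1 fun he => hno 2 le_rfl (by norm_num) he.two_dvd,
        Or.inl (hno 3 (by norm_num) (by norm_num))⟩) g hg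

/-- The classification. -/
theorem classify :
    (Fintype.card α = 5 ∧ j = 2 ∧ Nat.card G = 20) ∨
    (Fintype.card α = 6 ∧ j = 3 ∧ Nat.card G = 120) ∨
    (Fintype.card α = 9 ∧ j = 3 ∧ (Nat.card G = 504 ∨ Nat.card G = 1512)) := by
  classical
  have hn := h.hn
  have hj := h.hj
  obtain ⟨t₀⟩ := exists_tuple (α := α) (i := j) (by omega)
  obtain ⟨t₁⟩ := exists_tuple (α := α) (i := j + 1) (by omega)
  obtain ⟨t₂⟩ := exists_tuple (α := α) (i := j + 2) (by omega)
  have hq := h.index_mul_card t₀ t₁
  have hA := h.index_mul_mul_card t₁ t₂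
  have hm := h.two_le_index t₁
  have hG := card_eq_desc_mul h.htr t₀
  have hdvd : (induced (G := G) t₁).range.index ∣ (j + 1)! := by
    have := Subgroup.index_dvd_card (induced (G := G) t₁).range
    rwa [Nat.card_eq_fintype_card, Fintype.card_perm, Fintype.card_fin] at this
  rcases eq_or_lt_of_le hm with hm2 | hm3
  · obtain ⟨a, b, c⟩ := h.index_two t₁ hm2.symm
    exact Or.inr (Or.inr ⟨a, b, Or.inr c⟩)
  obtain ⟨i, rfl⟩ : ∃ i, j = i + 2 := by
    refine ⟨j - 2, ?_⟩
    by_contra hne
    obtain rfl : j = 1 := by omega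
    have := Nat.le_of_dvd (by norm_num [Nat.factorial]) hdvd
    norm_num [Nat.factorial] at this
    omega
  set m := (induced (G := G) t₁).range.index with hmdef
  set q := Nat.card (stabilizer G t₀) with hqdef
  have hq2 : ¬ 2 ∣ q := fun hd => by
    have := LWCycles.range_eq_top (i := i + 1) h.free h.htr t₀ hd t₁
    rw [hmdef, this, Subgroup.index_top] at hm3
    omega
  have hq3 : ¬ 3 ∣ q := fun hd => by
    have := Subgroup.index_dvd_of_le
      (LWCycles.alternating_le_range (i := i) h.free h.htr t₀ hd t₁)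
    rw [alternatingGroup.index_eq_two, ← hmdef] at this
    have := Nat.le_of_dvd (by norm_num) this
    omega
  have hqpos : 0 < q := Nat.card_pos
  have hcop : ∀ g : G, ∀ s : Finset α, s.card = i + 2 → (∀ x ∈ s, g • x = x) →
      Nat.Coprime (orderOf g) 6 := by
    intro g s hs hgs
    obtain ⟨S, hS⟩ := Function.Embedding.exists_of_card_eq_finset (α := Fin (i + 2))
      (s := s) (by rw [Fintype.card_fin, hs])
    have hgS : g ∈ stabilizer G S := by
      rw [mem_stabilizer_iff, LWCycles.smul_eq_iff_forall]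
      exact fun l => hgs _ (hS ▸ Finset.mem_map_of_mem S (Finset.mem_univ l))
    have hd : orderOf g ∣ q := by
      have h1 := card_eq_desc_mul h.htr S
      rw [hG] at h1
      rw [Nat.eq_of_mul_eq_mul_left (Nat.descFactorial_pos.2 (by omega)) h1]
      have := orderOf_dvd_natCard (⟨g, hgS⟩ : stabilizer G S)
      rwa [← Subgroup.orderOf_coe] at this
    have h6 : Nat.Coprime q 6 := by
      rw [show (6 : ℕ) = 2 * 3 from rfl, Nat.coprime_mul_iff_right]
      exact ⟨((Nat.Prime.coprime_iff_not_dvd Nat.prime_two).2 hq2).symm,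
        ((Nat.Prime.coprime_iff_not_dvd Nat.prime_three).2 hq3).symm⟩
    exact h6.coprime_dvd_left hd
  have harith : m * (m * q - 1) * Nat.card (stabSet G t₂) = (i + 2 + 2)! := by
    rw [← hA, hq]
    congr 2
  have hdd : m * (m * q - 1) ∣ (i + 2 + 2)! := ⟨_, harith.symm⟩
  clear_value m q
  by_cases hq1 : q = 1
  · rw [hq1, mul_one] at hq hdd
    rw [hq1, mul_one] at hG
    rcases Nat.lt_or_ge i 2 with hi | hi
    · interval_cases i
      · have hm6 : m ≤ 6 := Nat.le_of_dvd (by norm_num [Nat.factorial]) (by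
          simpa [Nat.factorial] using hdvd)
        have key : ∀ m, m ≤ 6 → 3 ≤ m → m ∣ 6 → m * (m - 1) ∣ 24 → m = 3 := by decide
        have := key m hm6 hm3 (by simpa [Nat.factorial] using hdvd)
          (by simpa [Nat.factorial] using hdd)
        refine Or.inl ⟨by omega, rfl, ?_⟩
        rw [hG, show Fintype.card α = 5 by omega]
        rfl
      · have hm24 : m ≤ 24 := Nat.le_of_dvd (by norm_num [Nat.factorial]) (by
          simpa [Nat.factorial] using hdvd)
        have key : ∀ m, m ≤ 24 → 3 ≤ m → m ∣ 24 → m * (m - 1) ∣ 120 →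
            m = 3 ∨ m = 4 ∨ m = 6 := by decide
        rcases key m hm24 hm3 (by simpa [Nat.factorial] using hdvd)
          (by simpa [Nat.factorial] using hdd) with h' | h' | h'
        · refine Or.inr (Or.inl ⟨by omega, rfl, ?_⟩)
          rw [hG, show Fintype.card α = 6 by omega]
          rfl
        · exfalso
          refine LWSmall.no_seven h.htr (by omega) fun g s hs hgs => ?_
          obtain ⟨s', hsub, hs'⟩ := Finset.exists_subset_card_eq hs
          obtain ⟨S, hS⟩ := Function.Embedding.exists_of_card_eq_finset (α := Fin 3)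
            (s := s') (by rw [Fintype.card_fin, hs'])
          have h1 := card_eq_desc_mul h.htr S
          rw [hG] at h1
          have hone : Nat.card (stabilizer G S) = 1 := by
            have hp : 0 < (Fintype.card α).descFactorial 3 := Nat.descFactorial_pos.2 (by omega)
            exact (Nat.eq_of_mul_eq_mul_left hp (by simpa using h1)).symm
          have hgS : g ∈ stabilizer G S := by
            rw [mem_stabilizer_iff, LWCycles.smul_eq_iff_forall]
            exact fun l => hgs _ (hsub (hS ▸ Finset.mem_map_of_mem S (Finset.mem_univ l)))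
          exact congrArg Subtype.val ((Nat.card_eq_one_iff_unique.1 hone).1.elim
            (⟨g, hgS⟩ : stabilizer G S) 1)
        · refine Or.inr (Or.inr ⟨by omega, rfl, Or.inl ?_⟩)
          rw [hG, show Fintype.card α = 9 by omega]
          rfl
    · exfalso
      have hS : SharpFour.SharpK G α (i + 2) := by
        refine ⟨h.htr, fun x => ?_⟩
        have h1 := card_eq_desc_mul h.htr x
        rw [hG] at h1
        refine Subgroup.eq_bot_of_card_eq _ ?_
        have hp : 0 < (Fintype.card α).descFactorial (i + 2) :=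
          Nat.descFactorial_pos.2 (by omega)
        exact (Nat.eq_of_mul_eq_mul_left hp (by simpa using h1)).symm
      rcases SharpFour.degree_high (i + 2) hS (by omega)
        (by rw [Nat.card_eq_fintype_card]; omega) with e | e | e | ⟨hi5, e⟩ <;>
        rw [Nat.card_eq_fintype_card] at e
      · omega
      · omega
      · omega
      · have h7 : m = 7 := by omega
        have hi3 : i ≤ 3 := by omega
        rw [h7] at hdvd
        interval_cases i <;> norm_num [Nat.factorial] at hdvd
  · exfalso
    have hq5 : 5 ≤ q := by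
      by_contra hlt
      interval_cases q <;> omega
    rcases Nat.lt_or_ge i 2 with hi | hi
    · have hle := Nat.le_of_dvd (Nat.factorial_pos _) hdd
      interval_cases i
      · norm_num [Nat.factorial] at hle
        have h15 : 15 ≤ m * q := by
          calc 15 = 3 * 5 := rfl
            _ ≤ m * q := Nat.mul_le_mul hm3 hq5
        have : 3 * 14 ≤ m * (m * q - 1) := Nat.mul_le_mul hm3 (by omega)
        omega
      · norm_num [Nat.factorial] at hle
        have hm24 : m ≤ 24 := Nat.le_of_dvd (by norm_num [Nat.factorial]) (by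
          simpa [Nat.factorial] using hdvd)
        have h1 : 3 * (3 * q - 1) ≤ m * (m * q - 1) :=
          Nat.mul_le_mul hm3 (Nat.sub_le_sub_right (Nat.mul_le_mul_right q hm3) 1)
        have hq14 : q ≤ 14 := by omega
        obtain ⟨hm', hq'⟩ := key_q hm24 hq14 hm3 hq5 (by simpa [Nat.factorial] using hdvd)
          (by simpa [Nat.factorial] using hdd) hq2 hq3
        rw [hm', hq'] at hq
        exact LWSmall.no_twenty_four h.htr (by omega)
          (fun g s hs hgs => h.free_set g s hs hgs) t₀ (hqdef ▸ hq')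
    · refine hq1 ?_
      rw [hqdef, Nat.card_eq_one_iff_unique]
      refine ⟨⟨fun a b => ?_⟩, ⟨1⟩⟩
      have key : ∀ c : stabilizer G t₀, c = 1 := fun c =>
        Subtype.ext (h.eq_one_of_coprime (by omega) t₀ hcop c c.2)
      rw [key a, key b]

end Hyp

end Cfsg.Agent.LWMain
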