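import Cfsg.Agent.Lib.Perm.LWBasic
import Cfsg.Agent.S0743
import Mathlib.GroupTheory.Sylow
import Mathlib.GroupTheory.Nilpotent

/-!
The group induced by the normaliser of an `r`-subgroup on its fixed points: it is `j`-transitive
when the subgroup is maximal among the `r`-subgroups fixing more than `j` points (Witt, Gleason).
-/

set_option autoImplicit false
set_option linter.style.haveILetI false
set_option linter.unusedSectionVars false

namespace Cfsg.Agent.LWReduce

open MulAction Cfsg.Agent.LWSign Cfsg.Agent.LWBasic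

attribute [local instance 2000] Function.Embedding.instMulAction

theorem exists_sylow_of {G : Type*} [Group G] [Finite G] {p : ℕ} [Fact p.Prime] (H M : Subgroup G)
    (hM : IsPGroup p M) (hMH : M ≤ H) :
    ∃ P : Subgroup G, P ≤ H ∧ M ≤ P ∧ IsPGroup p P ∧
      Nat.card P = p ^ (Nat.card H).factorization p := by
  have hM' : IsPGroup p (M.subgroupOf H) :=
    hM.of_equiv (Subgroup.subgroupOfEquivOfLe hMH).symm
  obtain ⟨Q, hQ⟩ := hM'.exists_le_sylow
  refine ⟨(Q : Subgroup H).map H.subtype, Subgroup.map_subtype_le _, ?_, ?_, ?_⟩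
  · intro x hx
    exact ⟨⟨x, hMH hx⟩, hQ hx, rfl⟩
  · exact Q.isPGroup'.map _
  · rw [← Q.card_eq_multiplicity]
    exact (Nat.card_congr
      (Subgroup.equivMapOfInjective _ _ H.subtype_injective).toEquiv).symm

theorem exists_conj_of_card {G : Type*} [Group G] [Finite G] {p : ℕ} [Fact p.Prime]
    {H P P' : Subgroup G} (hP : P ≤ H) (hP' : P' ≤ H)
    (hc : Nat.card P = p ^ (Nat.card H).factorization p)
    (hc' : Nat.card P' = p ^ (Nat.card H).factorization p) :
    ∃ h ∈ H, P.map (MulAut.conj h).toMonoidHom = P' := by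
  have e := fun (K : Subgroup G) (hK : K ≤ H) =>
    Nat.card_congr (Subgroup.subgroupOfEquivOfLe hK).toEquiv
  let Q : Sylow p H := Sylow.ofCard (P.subgroupOf H) (by rw [e P hP, hc])
  let Q' : Sylow p H := Sylow.ofCard (P'.subgroupOf H) (by rw [e P' hP', hc'])
  obtain ⟨h, hh⟩ := MulAction.exists_smul_eq H Q Q'
  refine ⟨h, h.2, ?_⟩
  refine Subgroup.eq_of_le_of_card_ge ?_ ?_
  · rintro _ ⟨x, hx, rfl⟩
    have hmem : h * ⟨x, hP hx⟩ * h⁻¹ ∈ (Q' : Subgroup H) := by
      rw [← hh]
      exact ⟨⟨x, hP hx⟩, hx, rfl⟩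
    exact hmem
  · rw [Subgroup.card_map_of_injective (MulEquiv.injective _), hc, hc']

variable {α : Type*} [Fintype α] [DecidableEq α] {G : Subgroup (Equiv.Perm α)}

theorem mem_iff_smul_mem (M : Subgroup G) (F : Finset α)
    (hF : ∀ x, x ∈ F ↔ ∀ m ∈ M, m • x = x) {g : G}
    (hg : g ∈ Subgroup.normalizer (M : Set G)) (x : α) :
    (g : Equiv.Perm α) x ∈ F ↔ x ∈ F := by
  rw [show (g : Equiv.Perm α) x = g • x from rfl, hF, hF]
  constructor
  · intro h m hm
    have := h _ ((Subgroup.mem_normalizer_iff.1 hg m).1 hm)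
    rwa [mul_smul, mul_smul, inv_smul_smul, smul_left_cancel_iff] at this
  · intro h m hm
    have := h (g⁻¹ * m * g) ((Subgroup.mem_normalizer_iff.1 hg _).2 (by simpa [mul_assoc] using hm))
    rwa [mul_smul, mul_smul, inv_smul_eq_iff] at this

/-- The action of the normaliser on the fixed points. -/
def onFixed (M : Subgroup G) (F : Finset α) (hF : ∀ x, x ∈ F ↔ ∀ m ∈ M, m • x = x) :
    Subgroup.normalizer (M : Set G) →* Equiv.Perm ↥F where
  toFun g := ((g : G) : Equiv.Perm α).subtypePerm (fun x => mem_iff_smul_mem M F hF g.2 x)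
  map_one' := by ext x; rfl
  map_mul' g h := by ext x; rfl

theorem onFixed_apply (M : Subgroup G) (F : Finset α) (hF : ∀ x, x ∈ F ↔ ∀ m ∈ M, m • x = x)
    (g : Subgroup.normalizer (M : Set G)) (x : ↥F) :
    (onFixed M F hF g x : α) = (g : G) • (x : α) := rfl

/-- Witt and Gleason. -/
theorem normalizer_transitive {j r : ℕ} [hr : Fact r.Prime] (htr : IsMultiplyPretransitive G α j)
    (hj : 1 ≤ j) (M : Subgroup G) (hM : IsPGroup r M) (F : Finset α)
    (hF : ∀ x, x ∈ F ↔ ∀ m ∈ M, m • x = x) (hcard : j < F.card)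
    (hmax : ∀ M' : Subgroup G, IsPGroup r M' → M < M' →
      ∀ s : Finset α, (∀ x ∈ s, ∀ m ∈ M', m • x = x) → s.card ≤ j) :
    IsMultiplyPretransitive (onFixed M F hF).range ↥F j := by
  classical
  set q := fun t : Fin j ↪ α => Nat.card (stabilizer G t) with hq
  have hconst : ∀ t t' : Fin j ↪ α, q t = q t' := by
    intro t t'
    have h1 := card_eq_desc_mul htr t
    rw [card_eq_desc_mul htr t'] at h1
    refine (Nat.eq_of_mul_eq_mul_left (Nat.descFactorial_pos.2 ?_) h1).symm
    simpa using Fintype.card_le_of_embedding t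
  have hle : ∀ t : Fin j ↪ ↥F, M ≤ stabilizer G (t.trans (Function.Embedding.subtype _)) := by
    intro t m hm
    rw [mem_stabilizer_iff]
    exact DFunLike.ext _ _ fun l => (hF _).1 (t l).2 m hm
  by_cases hW : ∀ t : Fin j ↪ ↥F,
      Nat.card M = r ^ (q (t.trans (Function.Embedding.subtype _))).factorization r
  · refine ⟨fun t t' => ?_⟩
    set T := t.trans (Function.Embedding.subtype _) with hT
    set T' := t'.trans (Function.Embedding.subtype _) with hT'
    haveI := htr
    obtain ⟨g, hg⟩ := MulAction.exists_smul_eq G T T'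
    have hle' : M.map (MulAut.conj g).toMonoidHom ≤ stabilizer G T' := by
      rintro _ ⟨m, hm, rfl⟩
      have hmT := hle t hm
      rw [mem_stabilizer_iff] at hmT ⊢
      change (g * m * g⁻¹) • T' = T'
      rw [← hg, mul_smul, mul_smul, inv_smul_smul, hmT]
    obtain ⟨h, hh, hconj⟩ := exists_conj_of_card hle' (hle t')
      (by rw [Subgroup.card_map_of_injective (MulEquiv.injective _)]; exact hW t') (hW t')
    have hn : h * g ∈ Subgroup.normalizer (M : Set G) := by
      have key : M.map (MulAut.conj (h * g)).toMonoidHom = M := by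
        rw [map_mul]
        conv_rhs => rw [← hconj]
        rw [Subgroup.map_map]
        rfl
      rw [Subgroup.mem_normalizer_iff]
      intro x
      constructor
      · intro hx
        rw [← key]
        exact ⟨x, hx, rfl⟩
      · intro hx
        rw [← key] at hx
        obtain ⟨y, hy, hxy⟩ := hx
        have : y = x := (MulAut.conj (h * g)).injective hxy
        exact this ▸ hy
    refine ⟨⟨onFixed M F hF ⟨h * g, hn⟩, ⟨_, rfl⟩⟩, DFunLike.ext _ _ fun l => Subtype.ext ?_⟩
    change (h * g) • ((t l : α)) = (t' l : α)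
    have h1 : g • T l = T' l := congrArg (fun u : Fin j ↪ α => u l) hg
    have h2 : h • T' l = T' l := congrArg (fun u : Fin j ↪ α => u l) (mem_stabilizer_iff.1 hh)
    exact (mul_smul h g _).trans ((congrArg (h • ·) h1).trans h2)
  · push Not at hW
    obtain ⟨t₀, ht₀⟩ := hW
    refine S0743.result (onFixed M F hF).range hr.out hj (by rwa [Fintype.card_coe]) fun s hs => ?_
    obtain ⟨t, ht⟩ := Function.Embedding.exists_of_card_eq_finset (α := Fin j) (s := s)
      (by rw [Fintype.card_fin, hs])
    set T := t.trans (Function.Embedding.subtype (· ∈ F)) with hT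
    obtain ⟨P, hPH, hMP, hP, hPc⟩ := exists_sylow_of (p := r) (stabilizer G T) M hM (hle t)
    have hlt : M < P := by
      refine lt_of_le_of_ne hMP fun e => ht₀ ?_
      rw [hconst _ T, e]
      exact hPc
    haveI : Group.IsNilpotent P := hP.isNilpotent
    have hK : M.subgroupOf P < ⊤ := by
      rw [lt_top_iff_ne_top, Ne, Subgroup.subgroupOf_eq_top]
      exact not_le_of_gt hlt
    obtain ⟨y, hy, hyM⟩ := SetLike.exists_of_lt (normalizerCondition_of_isNilpotent _ hK)
    have hyN : (y : G) ∈ Subgroup.normalizer (M : Set G) := by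
      rw [Subgroup.mem_normalizer_iff]
      intro x
      by_cases hx : x ∈ P
      · exact Subgroup.mem_normalizer_iff.1 hy ⟨x, hx⟩
      · refine iff_of_false (fun k => hx (hMP k)) fun k => hx ?_
        have := mul_mem (mul_mem (inv_mem y.2) (hMP k)) y.2
        simpa [mul_assoc] using this
    set M1 := P ⊓ Subgroup.normalizer (M : Set G) with hM1
    have hMM1 : M < M1 :=
      lt_of_le_of_ne (le_inf hMP Subgroup.le_normalizer) fun e => hyM (by
        rw [Subgroup.mem_subgroupOf, e]; exact ⟨y.2, hyN⟩)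
    refine ⟨(M1.subgroupOf (Subgroup.normalizer (M : Set G))).map (onFixed M F hF).rangeRestrict,
      ((hP.to_le inf_le_left).of_equiv (Subgroup.subgroupOfEquivOfLe inf_le_right).symm).map _, ?_⟩
    have hfixT : ∀ l, ∀ m ∈ M1, (m : G) • (t l : α) = t l := fun l m hm =>
      congrArg (fun u : Fin j ↪ α => u l) (mem_stabilizer_iff.1 (hPH hm.1))
    ext x
    simp only [mem_fixedPoints, Finset.mem_coe]
    constructor
    · intro hx
      by_contra hxs
      have hbig := hmax M1 (hP.to_le inf_le_left) hMM1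
        (insert (x : α) (s.map (Function.Embedding.subtype _))) (fun z hz m hm => by
          rcases Finset.mem_insert.1 hz with rfl | hz
          · exact congrArg Subtype.val (hx ⟨_, Subgroup.mem_map_of_mem _
              (show (⟨m, hm.2⟩ : Subgroup.normalizer (M : Set G)) ∈ M1.subgroupOf _ from hm)⟩)
          · obtain ⟨w, hw, rfl⟩ := Finset.mem_map.1 hz
            rw [← ht] at hw
            obtain ⟨l, -, rfl⟩ := Finset.mem_map.1 hw
            exact hfixT l m hm)
      rw [Finset.card_insert_of_notMem (fun k => hxs (by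
        obtain ⟨w, hw, e⟩ := Finset.mem_map.1 k
        exact Subtype.ext e ▸ hw)), Finset.card_map, hs] at hbig
      omega
    · rintro hx ⟨_, g, hg, rfl⟩
      rw [← ht] at hx
      obtain ⟨l, -, rfl⟩ := Finset.mem_map.1 hx
      exact Subtype.ext (hfixT l g hg)

end Cfsg.Agent.LWReduce
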