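import Mathlib.GroupTheory.GroupAction.MultipleTransitivity
import Mathlib.GroupTheory.Perm.Fin
import Mathlib.GroupTheory.Perm.DomMulAct
import Mathlib.Algebra.BigOperators.Ring.Finset
import Mathlib.Data.Fintype.CardEmbedding
import Mathlib.Tactic.LinearCombination
import Mathlib.Tactic.Linarith
import Mathlib.Tactic.IntervalCases

/-!
An invariant sign function on `(k-1)`-tuples of a `k`-homogeneous group: a second moment identity
and a bound on the setwise stabiliser of a `k`-set.
-/

set_option autoImplicit false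
set_option linter.style.haveILetI false
set_option linter.unusedSectionVars false

namespace Cfsg.Agent.LWSign

open MulAction Finset
open scoped Nat

variable {G α : Type*} [Group G] [MulAction G α]

/-- The tuple `t` precomposed with a permutation of the indices. -/
def pre {i : ℕ} (π : Equiv.Perm (Fin i)) (t : Fin i ↪ α) : Fin i ↪ α := π.toEmbedding.trans t

@[simp] theorem pre_apply {i : ℕ} (π : Equiv.Perm (Fin i)) (t : Fin i ↪ α) (x : Fin i) :
    pre π t x = t (π x) := rfl

theorem pre_pre {i : ℕ} (π σ : Equiv.Perm (Fin i)) (t : Fin i ↪ α) :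
    pre π (pre σ t) = pre (σ * π) t := by
  ext x; rfl

@[simp] theorem pre_one {i : ℕ} (t : Fin i ↪ α) : pre 1 t = t := by ext x; rfl

theorem smul_pre {i : ℕ} (g : G) (π : Equiv.Perm (Fin i)) (t : Fin i ↪ α) :
    g • pre π t = pre π (g • t) := by
  ext x; rfl

theorem pre_injective {i : ℕ} (t : Fin i ↪ α) {π σ : Equiv.Perm (Fin i)}
    (h : pre π t = pre σ t) : π = σ :=
  Equiv.ext fun x => t.injective (congrArg (fun u : Fin i ↪ α => u x) h)

/-- Precomposition as a bijection on tuples. -/
def preEquiv {i : ℕ} (π : Equiv.Perm (Fin i)) : (Fin i ↪ α) ≃ (Fin i ↪ α) where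
  toFun := pre π
  invFun := pre π⁻¹
  left_inv t := by rw [pre_pre, mul_inv_cancel, pre_one]
  right_inv t := by rw [pre_pre, inv_mul_cancel, pre_one]

/-- Forget the first entry. -/
def tail {i : ℕ} (t : Fin (i + 1) ↪ α) : Fin i ↪ α := (Fin.succEmb i).trans t

@[simp] theorem tail_apply {i : ℕ} (t : Fin (i + 1) ↪ α) (x : Fin i) : tail t x = t x.succ := rfl

theorem smul_tail {i : ℕ} (g : G) (t : Fin (i + 1) ↪ α) : g • tail t = tail (g • t) := by
  ext x; rfl

/-- Prepend an entry. -/
def cons {i : ℕ} (S : Fin i ↪ α) (x : α) (hx : x ∉ Set.range S) : Fin (i + 1) ↪ α :=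
  (Equiv.embeddingFinSucc i α).symm ⟨S, ⟨x, hx⟩⟩

@[simp] theorem cons_zero {i : ℕ} (S : Fin i ↪ α) (x : α) (hx : x ∉ Set.range S) :
    cons S x hx 0 = x := by
  rw [cons, Equiv.coe_embeddingFinSucc_symm]; rfl

@[simp] theorem cons_succ {i : ℕ} (S : Fin i ↪ α) (x : α) (hx : x ∉ Set.range S) (l : Fin i) :
    cons S x hx l.succ = S l := by
  rw [cons, Equiv.coe_embeddingFinSucc_symm]; rfl

/-- An invariant alternating sign on `(j+1)`-tuples. -/
structure Cochain (G α : Type*) [Group G] [MulAction G α] (j : ℕ) where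
  χ : (Fin (j + 1) ↪ α) → ℤ
  sq : ∀ u, χ u * χ u = 1
  inv : ∀ (g : G) u, χ (g • u) = χ u
  perm : ∀ π u, χ (pre π u) = (Equiv.Perm.sign π : ℤ) * χ u

variable {j : ℕ} (C : Cochain G α j)

/-- The `i`th face value of a `(j+2)`-tuple. -/
def term (i : Fin (j + 2)) (t : Fin (j + 2) ↪ α) : ℤ :=
  (Equiv.Perm.sign (Equiv.swap 0 i) : ℤ) * C.χ (tail (pre (Equiv.swap 0 i) t))

theorem term_sq (i : Fin (j + 2)) (t : Fin (j + 2) ↪ α) : term C i t * term C i t = 1 := by
  rw [term, mul_mul_mul_comm, C.sq, mul_one, ← Units.val_mul, Int.units_mul_self, Units.val_one]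

theorem term_eq (i : Fin (j + 2)) (t : Fin (j + 2) ↪ α) : term C i t = 1 ∨ term C i t = -1 :=
  mul_self_eq_one_iff.1 (term_sq C i t)

theorem term_smul (g : G) (i : Fin (j + 2)) (t : Fin (j + 2) ↪ α) :
    term C i (g • t) = term C i t := by
  rw [term, term, ← smul_pre, ← smul_tail, C.inv]

theorem chi_tail_fix (ρ : Equiv.Perm (Fin (j + 2))) (hρ : ρ 0 = 0) (t : Fin (j + 2) ↪ α) :
    C.χ (tail (pre ρ t)) = (Equiv.Perm.sign ρ : ℤ) * C.χ (tail t) := by
  obtain ⟨⟨p, σ⟩, rfl⟩ : ∃ pσ, ρ = Equiv.Perm.decomposeFin.symm pσ :=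
    ⟨_, (Equiv.symm_apply_apply _ ρ).symm⟩
  rw [Equiv.Perm.decomposeFin_symm_apply_zero] at hρ
  subst hρ
  have h : tail (pre (Equiv.Perm.decomposeFin.symm ((0 : Fin (j + 2)), σ)) t) = pre σ (tail t) := by
    ext x
    simp [Equiv.Perm.decomposeFin_symm_apply_succ]
  rw [h, C.perm, Equiv.Perm.decomposeFin.symm_sign, if_pos rfl, one_mul]

theorem term_pre (π : Equiv.Perm (Fin (j + 2))) (i : Fin (j + 2)) (t : Fin (j + 2) ↪ α) :
    term C i (pre π t) = (Equiv.Perm.sign π : ℤ) * term C (π i) t := by
  set ρ := Equiv.swap 0 (π i) * π * Equiv.swap 0 i with hρ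
  have hρ0 : ρ 0 = 0 := by simp [hρ]
  have h1 : pre (Equiv.swap 0 i) (pre π t) = pre ρ (pre (Equiv.swap 0 (π i)) t) := by
    rw [pre_pre, pre_pre, hρ, ← mul_assoc, ← mul_assoc, Equiv.swap_mul_self, one_mul]
  rw [term, term, h1, chi_tail_fix C ρ hρ0]
  have hsign : (Equiv.Perm.sign (Equiv.swap 0 i) : ℤ) * (Equiv.Perm.sign ρ : ℤ) =
      (Equiv.Perm.sign π : ℤ) * (Equiv.Perm.sign (Equiv.swap 0 (π i)) : ℤ) := by
    rw [← Units.val_mul, ← Units.val_mul, hρ, map_mul, map_mul]
    congr 1
    rw [mul_comm (Equiv.Perm.sign (Equiv.swap 0 (π i))) (Equiv.Perm.sign π), mul_comm,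
      mul_assoc, Int.units_mul_self, mul_one]
  rw [← mul_assoc, hsign, mul_assoc]

/-- The coboundary. -/
def total (t : Fin (j + 2) ↪ α) : ℤ := ∑ i, term C i t

theorem total_smul (g : G) (t : Fin (j + 2) ↪ α) : total C (g • t) = total C t :=
  Finset.sum_congr rfl fun i _ => term_smul C g i t

theorem total_pre (π : Equiv.Perm (Fin (j + 2))) (t : Fin (j + 2) ↪ α) :
    total C (pre π t) = (Equiv.Perm.sign π : ℤ) * total C t := by
  rw [total, total, Finset.mul_sum]
  simp only [term_pre]
  exact Equiv.sum_comp π (fun i => (Equiv.Perm.sign π : ℤ) * term C i t)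

section Moment

variable [Fintype α] [DecidableEq α]

/-- The value of the sign on the tuple with `x` prepended, zero if there is none. -/
noncomputable def ins (S : Fin j ↪ α) (x : α) : ℤ := by
  classical
  exact if h : x ∉ Set.range S then C.χ (cons S x h) else 0

theorem ins_eq (S : Fin j ↪ α) (x : α) (h : x ∉ Set.range S) : ins C S x = C.χ (cons S x h) := by
  classical
  rw [ins, dif_pos h]

theorem ins_of_mem (S : Fin j ↪ α) (x : α) (h : x ∈ Set.range S) : ins C S x = 0 := by
  classical
  rw [ins, dif_neg (not_not.2 h)]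

theorem sum_chi_eq_zero (hj : 1 ≤ j) : ∑ u : Fin (j + 1) ↪ α, C.χ u = 0 := by
  set τ : Equiv.Perm (Fin (j + 1)) := Equiv.swap 0 (Fin.last j) with hτ
  have hne : (0 : Fin (j + 1)) ≠ Fin.last j := by
    intro h
    have := congrArg Fin.val h
    simp at this
    omega
  have h := Equiv.sum_comp (preEquiv τ) C.χ
  simp only [preEquiv, Equiv.coe_fn_mk, C.perm, hτ, Equiv.Perm.sign_swap hne, Units.val_neg,
    Units.val_one, neg_mul, one_mul, Finset.sum_neg_distrib] at h
  omega

theorem sum_ins_eq_zero (hj : 1 ≤ j) (htr : IsMultiplyPretransitive G α j) (S : Fin j ↪ α) :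
    ∑ x : α, ins C S x = 0 := by
  classical
  set W : (Fin j ↪ α) → ℤ := fun S => ∑ x : α, ins C S x with hW
  have hinv : ∀ (g : G) S, W (g • S) = W S := by
    intro g S
    simp only [hW]
    rw [← Equiv.sum_comp (MulAction.toPerm g)]
    refine Finset.sum_congr rfl fun x _ => ?_
    simp only [MulAction.toPerm_apply]
    by_cases hx : x ∈ Set.range S
    · obtain ⟨l, rfl⟩ := hx
      rw [ins_of_mem C S _ ⟨l, rfl⟩, ins_of_mem C (g • S) (g • S l) ⟨l, rfl⟩]
    · have hx' : g • x ∉ Set.range (g • S : Fin j ↪ α) := by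
        rintro ⟨l, hl⟩
        exact hx ⟨l, smul_left_cancel g hl⟩
      rw [ins_eq C S x hx, ins_eq C _ _ hx', ← C.inv g (cons S x hx)]
      congr 1
      ext l
      induction l using Fin.cases with
      | zero => simp [Function.Embedding.smul_apply]
      | succ l => simp [Function.Embedding.smul_apply]
  have hconst : ∀ S', W S' = W S := by
    intro S'
    haveI := htr
    obtain ⟨g, hg⟩ := MulAction.exists_smul_eq G S S'
    rw [← hg, hinv]
  have hcons : ∑ S' : Fin j ↪ α, W S' = ∑ u : Fin (j + 1) ↪ α, C.χ u := by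
    rw [← Equiv.sum_comp (Equiv.embeddingFinSucc j α).symm C.χ, Fintype.sum_sigma]
    refine Finset.sum_congr rfl fun S' _ => ?_
    simp only [hW]
    rw [← Fintype.sum_subtype_add_sum_subtype (fun x => x ∉ Set.range S') (ins C S'),
      Finset.sum_eq_zero (s := Finset.univ)
        (f := fun x : {x // ¬ x ∉ Set.range S'} => ins C S' x) fun x _ =>
          ins_of_mem C S' _ (not_not.1 x.2), add_zero]
    exact Finset.sum_congr rfl fun x _ => ins_eq C S' _ x.2
  rw [sum_chi_eq_zero C hj, Finset.sum_congr rfl fun S' _ => hconst S', Finset.sum_const,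
    nsmul_eq_mul, mul_eq_zero] at hcons
  rcases hcons with h | h
  · rw [Nat.cast_eq_zero, Finset.card_eq_zero, Finset.univ_eq_empty_iff] at h
    exact (h.false S).elim
  · exact h

theorem term_zero (t : Fin (j + 2) ↪ α) : term C 0 t = C.χ (tail t) := by
  simp [term, ← Equiv.Perm.one_def]

theorem cross_zero_one (hj : 1 ≤ j) (htr : IsMultiplyPretransitive G α j) :
    ∑ t : Fin (j + 2) ↪ α, term C 0 t * term C 1 t = Fintype.card (Fin (j + 1) ↪ α) := by
  classical
  rw [← Equiv.sum_comp (Equiv.embeddingFinSucc (j + 1) α).symm, Fintype.sum_sigma,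
    ← Finset.card_univ, Finset.card_eq_sum_ones, Nat.cast_sum, Nat.cast_one]
  refine Finset.sum_congr rfl fun u _ => ?_
  have hpt : ∀ x : {x // x ∉ Set.range u},
      term C 0 ((Equiv.embeddingFinSucc (j + 1) α).symm ⟨u, x⟩) *
        term C 1 ((Equiv.embeddingFinSucc (j + 1) α).symm ⟨u, x⟩) =
      -(C.χ u * ins C (tail u) x) := by
    rintro ⟨x, hx⟩
    have hxS : x ∉ Set.range (tail u) := fun ⟨l, hl⟩ => hx ⟨l.succ, hl⟩
    change term C 0 (cons u x hx) * term C 1 (cons u x hx) = _
    have h0 : tail (cons u x hx) = u := by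
      ext l; simp
    have h1 : tail (pre (Equiv.swap 0 1) (cons u x hx)) = cons (tail u) x hxS := by
      ext l
      induction l using Fin.cases with
      | zero => simp
      | succ l =>
        have hne : (l.succ.succ : Fin (j + 2)) ≠ 1 := by
          intro h
          have := congrArg Fin.val h
          simp at this
        simp [Equiv.swap_apply_of_ne_of_ne (Fin.succ_ne_zero _) hne]
    rw [term_zero, h0, term, Equiv.Perm.sign_swap Fin.zero_ne_one, h1, ins_eq C _ _ hxS]
    simp
  rw [Finset.sum_congr rfl fun x _ => hpt x, Finset.sum_neg_distrib, ← Finset.mul_sum]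
  have hu0 : u 0 ∉ Set.range (tail u) := by
    rintro ⟨l, hl⟩
    exact Fin.succ_ne_zero l (u.injective hl)
  have hchi : ins C (tail u) (u 0) = C.χ u := by
    rw [ins_eq C _ _ hu0]
    congr 1
    ext l
    induction l using Fin.cases <;> simp
  have hs : ∑ x : {x // x ∉ Set.range u}, ins C (tail u) x = - C.χ u := by
    rw [← Finset.sum_subtype (Finset.univ.filter fun x => x ∉ Set.range u) (by simp)
      (ins C (tail u)), Finset.sum_filter]
    have hcase : ∀ x, (if x ∉ Set.range u then ins C (tail u) x else 0) =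
        ins C (tail u) x - (if x = u 0 then C.χ u else 0) := by
      intro x
      by_cases hx : x ∈ Set.range u
      · obtain ⟨l, rfl⟩ := hx
        rw [if_neg (not_not.2 ⟨l, rfl⟩)]
        induction l using Fin.cases with
        | zero => rw [if_pos rfl, hchi, sub_self]
        | succ l =>
          rw [if_neg (fun h => Fin.succ_ne_zero l (u.injective h)),
            ins_of_mem C _ (u l.succ) ⟨l, rfl⟩, sub_zero]
      · rw [if_pos hx, if_neg (fun h => hx ⟨0, h.symm⟩), sub_zero]
    rw [Finset.sum_congr rfl fun x _ => hcase x, Finset.sum_sub_distrib,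
      sum_ins_eq_zero C hj htr, Finset.sum_ite_eq', if_pos (Finset.mem_univ _), zero_sub]
  rw [hs, mul_neg, neg_neg, C.sq]

theorem cross (hj : 1 ≤ j) (htr : IsMultiplyPretransitive G α j) {a b : Fin (j + 2)}
    (hab : a ≠ b) :
    ∑ t : Fin (j + 2) ↪ α, term C a t * term C b t = Fintype.card (Fin (j + 1) ↪ α) := by
  set b' := Equiv.swap 0 a b with hb'
  have hb0 : b' ≠ 0 := by
    intro h
    apply hab
    rw [hb', Equiv.swap_apply_eq_iff, Equiv.swap_apply_left] at h
    exact h.symm
  set π := Equiv.swap 0 a * Equiv.swap 1 b' with hπ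
  have h0 : π 0 = a := by
    simp [hπ, Equiv.swap_apply_of_ne_of_ne Fin.zero_ne_one hb0.symm]
  have h1 : π 1 = b := by simp [hπ, hb']
  rw [← cross_zero_one C hj htr, ← Equiv.sum_comp (preEquiv π) fun t => term C 0 t * term C 1 t]
  refine Finset.sum_congr rfl fun t _ => ?_
  simp only [preEquiv, Equiv.coe_fn_mk, term_pre, h0, h1]
  rw [mul_mul_mul_comm, ← Units.val_mul, Int.units_mul_self, Units.val_one, one_mul]

/-- The second moment identity. -/
theorem moment (hj : 1 ≤ j) (htr : IsMultiplyPretransitive G α j)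
    (hn : j + 2 ≤ Fintype.card α)
    (hhom : ∀ t t' : Fin (j + 2) ↪ α, ∃ g : G, ∃ π, g • t = pre π t') (t₀ : Fin (j + 2) ↪ α) :
    (total C t₀) ^ 2 * ((Fintype.card α : ℤ) - (j + 1)) =
      ((j : ℤ) + 2) * (Fintype.card α : ℤ) := by
  have hsq : ∀ t, total C t * total C t = total C t₀ ^ 2 := by
    intro t
    obtain ⟨g, π, h⟩ := hhom t t₀
    rw [← total_smul C g t, h, total_pre, pow_two, mul_mul_mul_comm, ← Units.val_mul,
      Int.units_mul_self, Units.val_one, one_mul]
  set T2 : ℤ := (Fintype.card (Fin (j + 2) ↪ α) : ℤ) with hT2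
  set T1 : ℤ := (Fintype.card (Fin (j + 1) ↪ α) : ℤ) with hT1
  have h1 : ∑ t : Fin (j + 2) ↪ α, total C t * total C t = T2 * total C t₀ ^ 2 := by
    rw [Finset.sum_congr rfl fun t _ => hsq t, Finset.sum_const, nsmul_eq_mul, hT2,
      Finset.card_univ]
  have h2 : ∑ t : Fin (j + 2) ↪ α, total C t * total C t =
      ((j : ℤ) + 2) * ((j + 2) * T1 + (T2 - T1)) := by
    simp only [total, Finset.sum_mul_sum]
    rw [Finset.sum_comm]
    have hrow : ∀ a : Fin (j + 2), ∑ t : Fin (j + 2) ↪ α, ∑ b, term C a t * term C b t =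
        ((j : ℤ) + 2) * T1 + (T2 - T1) := by
      intro a
      rw [Finset.sum_comm]
      have : ∀ b, ∑ t : Fin (j + 2) ↪ α, term C a t * term C b t =
          T1 + (if a = b then T2 - T1 else 0) := by
        intro b
        split_ifs with h
        · subst h
          simp [term_sq, hT2]
        · rw [cross C hj htr h, add_zero]
      rw [Finset.sum_congr rfl fun b _ => this b, Finset.sum_add_distrib, Finset.sum_const,
        Finset.sum_ite_eq, if_pos (Finset.mem_univ _), Finset.card_univ, Fintype.card_fin,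
        nsmul_eq_mul]
      push_cast
      ring
    rw [Finset.sum_congr rfl fun a _ => hrow a, Finset.sum_const, Finset.card_univ,
      Fintype.card_fin, nsmul_eq_mul]
    push_cast
    ring
  have hd : T2 = ((Fintype.card α : ℤ) - (j + 1)) * T1 := by
    rw [hT2, hT1, Fintype.card_embedding_eq, Fintype.card_embedding_eq, Fintype.card_fin,
      Fintype.card_fin, Nat.descFactorial_succ]
    push_cast [Nat.cast_sub (show j + 1 ≤ Fintype.card α by omega)]
    ring
  have hT1pos : T1 ≠ 0 := by
    rw [hT1, Fintype.card_embedding_eq, Fintype.card_fin]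
    exact_mod_cast (Nat.descFactorial_pos.2 (by omega : j + 1 ≤ Fintype.card α)).ne'
  rw [h1, hd] at h2
  apply mul_left_cancel₀ hT1pos
  linear_combination h2

/-- The colour classes of the faces bound the permutations induced on a tuple. -/
theorem card_induced_le (hj : 1 ≤ j) (t₀ : Fin (j + 2) ↪ α) (h0 : total C t₀ ≠ 0) :
    ∃ a b : ℕ, a + b = j + 2 ∧ total C t₀ ^ 2 = ((a : ℤ) - b) ^ 2 ∧
      2 * Nat.card {π : Equiv.Perm (Fin (j + 2)) // ∃ g : G, g • t₀ = pre π t₀} ≤ a ! * b ! := by
  classical
  set c : Fin (j + 2) → Bool := fun i => decide (term C i t₀ = 1) with hc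
  refine ⟨Fintype.card {i // c i = true}, Fintype.card {i // c i = false}, ?_, ?_, ?_⟩
  · have h := Fintype.card_subtype_compl (fun i => c i = true)
    have h' : Fintype.card {i // c i = false} = Fintype.card {i // ¬ c i = true} :=
      Fintype.card_congr (Equiv.subtypeEquivRight fun i => by simp)
    have := Fintype.card_subtype_le (fun i => c i = true)
    rw [Fintype.card_fin] at h this
    omega
  · congr 1
    rw [Fintype.card_subtype, Fintype.card_subtype, Finset.card_filter, Finset.card_filter,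
      Nat.cast_sum, Nat.cast_sum, ← Finset.sum_sub_distrib, total]
    refine Finset.sum_congr rfl fun i _ => ?_
    rcases term_eq C i t₀ with h | h <;> simp [hc, h]
  · obtain ⟨p, q, hpq, hcpq⟩ := Fintype.exists_ne_map_eq_of_card_lt c (by simp; omega)
    set τ := Equiv.swap p q with hτ
    have hcτ : ∀ i, c (τ i) = c i := by
      intro i
      rw [hτ]
      rcases eq_or_ne i p with rfl | hp
      · rw [Equiv.swap_apply_left, hcpq]
      · rcases eq_or_ne i q with rfl | hq
        · rw [Equiv.swap_apply_right, hcpq]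
        · rw [Equiv.swap_apply_of_ne_of_ne hp hq]
    set P : Finset (Equiv.Perm (Fin (j + 2))) := Finset.univ.filter fun π => c ∘ π = c with hP
    have hPcard : P.card = (Fintype.card {i // c i = true})! * (Fintype.card {i // c i = false})! := by
      rw [hP, ← Fintype.card_subtype, DomMulAct.stabilizer_card, Fintype.prod_bool]
    set I : Finset (Equiv.Perm (Fin (j + 2))) :=
      Finset.univ.filter fun π => ∃ g : G, g • t₀ = pre π t₀ with hI
    have hkey : ∀ π ∈ I, c ∘ π = c ∧ Equiv.Perm.sign π = 1 := by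
      intro π hπ
      obtain ⟨g, hg⟩ := (Finset.mem_filter.1 hπ).2
      have h := congrArg (total C) hg
      rw [total_smul, total_pre] at h
      have hs : Equiv.Perm.sign π = 1 := by
        rcases Int.units_eq_one_or (Equiv.Perm.sign π) with h1 | h1
        · exact h1
        · rw [h1] at h; push_cast at h; omega
      refine ⟨funext fun i => ?_, hs⟩
      have h' := congrArg (term C i) hg
      rw [term_smul, term_pre, hs, Units.val_one, one_mul] at h'
      simp [hc, h']
    have hdisj : Disjoint I (I.image (· * τ)) := by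
      rw [Finset.disjoint_left]
      intro π hπ hπ'
      obtain ⟨σ, hσ, rfl⟩ := Finset.mem_image.1 hπ'
      have h := (hkey _ hπ).2
      rw [map_mul, (hkey _ hσ).2, hτ, Equiv.Perm.sign_swap hpq] at h
      exact absurd h (by decide)
    have hsub : I ∪ I.image (· * τ) ⊆ P := by
      intro π hπ
      rw [hP, Finset.mem_filter]
      refine ⟨Finset.mem_univ _, ?_⟩
      rcases Finset.mem_union.1 hπ with h | h
      · exact (hkey _ h).1
      · obtain ⟨σ, hσ, rfl⟩ := Finset.mem_image.1 h
        funext i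
        simp only [Function.comp_apply, Equiv.Perm.mul_apply]
        rw [congrFun (hkey _ hσ).1 (τ i) |> fun h => (show c (σ (τ i)) = c (τ i) from h), hcτ]
    have hle := Finset.card_le_card hsub
    rw [Finset.card_union_of_disjoint hdisj,
      Finset.card_image_of_injective _ (mul_left_injective τ), hPcard] at hle
    rw [Nat.card_eq_fintype_card, Fintype.card_subtype, two_mul]
    exact hle

end Moment

/-- A lower bound for binomial coefficients. -/
theorem choose_three_le {k b : ℕ} (h3 : 3 ≤ b) (hb : 2 * b ≤ k) : k.choose 3 ≤ k.choose b := by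
  induction b, h3 using Nat.le_induction with
  | base => exact le_rfl
  | succ b hb3 ih =>
    exact (ih (by omega)).trans (Nat.choose_le_succ_of_lt_half_left (by omega))

/-- The arithmetic of the sign case. -/
theorem arith {k n a b : ℕ} (hk : 3 ≤ k) (hkn : k < n) (hab : a + b = k)
    (hs : ((a : ℤ) - b) ^ 2 * ((n : ℤ) - (k - 1)) = (k : ℤ) * n)
    (hch : k.choose a ≤ n - k + 1) : (k = 5 ∧ n = 9) ∨ (k = 7 ∧ n = 27) := by
  wlog hba : b ≤ a generalizing a b with H
  · exact H (a := b) (b := a) (by omega) (by rw [← hs]; ring) (by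
      rwa [← Nat.choose_symm (by omega : b ≤ k), show k - b = a by omega]) (by omega)
  set e : ℕ := n - k + 1 with he
  have hen : (n : ℤ) - ((k : ℤ) - 1) = e := by omega
  rw [hen] at hs
  have hne : (n : ℤ) = e + k - 1 := by omega
  rw [hne] at hs
  obtain ⟨d, hd⟩ : ∃ d, a = b + d := ⟨a - b, by omega⟩
  have hs' : (d : ℤ) ^ 2 * e = k * (e + k - 1) := by
    rw [← hs, hd]; push_cast; ring
  have hsymm : k.choose a = k.choose b := Nat.choose_symm_of_eq_add hab.symm
  rw [hsymm] at hch
  rcases Nat.lt_or_ge k 9 with hk9 | hk9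
  · have hb4 : b ≤ 4 := by omega
    interval_cases k <;> interval_cases b <;>
      (have hd9 : d ≤ 8 := by omega) <;> interval_cases d <;> (try omega) <;>
      norm_num [Nat.choose] at hch hs' ⊢ <;> omega
  · exfalso
    have hC2 : k.choose 2 * 2 = k * (k - 1) := by
      rw [Nat.choose_two_right]
      exact Nat.div_two_mul_two_of_even (Nat.even_mul_pred_self k)
    have he2 : 2 ≤ e := by omega
    rcases Nat.lt_or_ge b 3 with hb3 | hb3
    · interval_cases b
      · obtain rfl : k = d := by omega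
        have hpos : (0 : ℤ) < (k : ℤ) * (k - 1) := mul_pos (by omega) (by omega)
        have : (e : ℤ) * ((k : ℤ) * (k - 1)) = 1 * ((k : ℤ) * (k - 1)) := by linear_combination hs'
        have := mul_right_cancel₀ hpos.ne' this
        omega
      · obtain rfl : k = d + 2 := by omega
        rw [Nat.choose_one_right] at hch
        push_cast at hs'
        have h1 : ((e : ℤ) * ((d : ℤ) - 2)) * ((d : ℤ) + 1) = ((d : ℤ) + 2) * ((d : ℤ) + 1) := by
          linear_combination hs'
        have h2 := mul_right_cancel₀ (by omega : (d : ℤ) + 1 ≠ 0) h1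
        have h3 : ((d : ℤ) + 2) * 2 ≤ (e : ℤ) * ((d : ℤ) - 2) :=
          mul_le_mul (by omega) (by omega) (by norm_num) (by omega)
        omega
      · obtain rfl : k = d + 4 := by omega
        zify [show 1 ≤ d + 4 by omega] at hC2 hch
        push_cast at hs' hC2
        have hd5 : (5 : ℤ) ≤ d := by omega
        have h3 : (0 : ℤ) < (d : ℤ) ^ 2 - d - 6 := by nlinarith
        have h4 : (0 : ℤ) < (e : ℤ) * ((d : ℤ) ^ 2 - d - 6) := mul_pos (by omega) h3
        nlinarith
    · have hC3 : k.choose 3 * 3 = k.choose 2 * (k - 2) := Nat.choose_succ_right_eq k 2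
      have hle := choose_three_le (k := k) hb3 (by omega)
      zify [show 1 ≤ k by omega, show 2 ≤ k by omega] at hC2 hC3 hch hle
      have he1 : (k.choose 3 : ℤ) ≤ e := le_trans hle hch
      have hk7 : (7 : ℤ) ≤ (k : ℤ) - 2 := by omega
      have hpos : (0 : ℤ) < (k : ℤ) * ((k : ℤ) - 1) := mul_pos (by omega) (by omega)
      have hbig : 6 * (e : ℤ) ≥ 7 * ((k : ℤ) * ((k : ℤ) - 1)) := by
        have := mul_le_mul_of_nonneg_left hk7 hpos.le
        nlinarith
      have heq : (e : ℤ) * ((d : ℤ) ^ 2 - k) = (k : ℤ) * ((k : ℤ) - 1) := by linear_combination hs'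
      rcases le_or_gt ((d : ℤ) ^ 2 - k) 0 with hd1 | hd1
      · have := mul_nonpos_of_nonneg_of_nonpos (show (0 : ℤ) ≤ e by omega) hd1
        omega
      · have := le_mul_of_one_le_right (show (0 : ℤ) ≤ e by omega) (show (1 : ℤ) ≤ (d : ℤ) ^ 2 - k by omega)
        omega

end Cfsg.Agent.LWSign
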