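import Mathlib.GroupTheory.Index
import Mathlib.LinearAlgebra.Matrix.GeneralLinearGroup.Defs
import Mathlib.LinearAlgebra.Matrix.Notation
import Mathlib.Data.ZMod.Basic
import Mathlib.Tactic.FinCases

/-! Certificates for subgroups of `GL(2, p)` acting regularly on non-zero vectors. -/

set_option autoImplicit false
set_option linter.style.haveILetI false

namespace Cfsg.Agent.NearFieldCert

/-- A matrix, row by row, with natural entries. -/
abbrev Code := ℕ × ℕ × ℕ × ℕ

variable {p : ℕ}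

def toM (p : ℕ) (x : Code) : Matrix (Fin 2) (Fin 2) (ZMod p) :=
  !![(x.1 : ZMod p), x.2.1; x.2.2.1, x.2.2.2]

def mulC (p : ℕ) (x y : Code) : Code :=
  ((x.1 * y.1 + x.2.1 * y.2.2.1) % p, (x.1 * y.2.1 + x.2.1 * y.2.2.2) % p,
    (x.2.2.1 * y.1 + x.2.2.2 * y.2.2.1) % p, (x.2.2.1 * y.2.1 + x.2.2.2 * y.2.2.2) % p)

def oneC : Code := (1, 0, 0, 1)

theorem toM_mul (x y : Code) : toM p (mulC p x y) = toM p x * toM p y := by
  ext i j
  fin_cases i <;> fin_cases j <;> simp [toM, mulC, Matrix.mul_apply, Fin.sum_univ_two]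

theorem toM_one : toM p oneC = 1 := by
  ext i j
  fin_cases i <;> fin_cases j <;> simp [toM, oneC]

def ins (L : List Code) (x : Code) : List Code := if L.contains x then L else L ++ [x]

def step (p : ℕ) (gs : List Code) (L : List Code) : List Code :=
  (L.flatMap fun x => gs.map fun g => mulC p x g).foldl ins L

def gen (p : ℕ) (gs : List Code) : ℕ → List Code
  | 0 => [oneC]
  | n + 1 => step p gs (gen p gs n)

variable [Fact p.Prime]
set_option linter.unusedSectionVars false

theorem foldl_ins_mem (P : Code → Prop) : ∀ (xs L : List Code), (∀ x ∈ L, P x) → (∀ x ∈ xs, P x) →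
    ∀ x ∈ xs.foldl ins L, P x := by
  intro xs
  induction xs with
  | nil => intro L hL _ x hx; exact hL x hx
  | cons a xs ih =>
    intro L hL hxs
    refine ih (ins L a) (fun y hy => ?_) (fun y hy => hxs y (List.mem_cons_of_mem _ hy))
    unfold ins at hy
    split at hy
    · exact hL y hy
    · rcases List.mem_append.1 hy with h | h
      · exact hL y h
      · rw [List.mem_singleton.1 h]; exact hxs a List.mem_cons_self

theorem gen_sound (H : Subgroup (Matrix.GeneralLinearGroup (Fin 2) (ZMod p))) (gs : List Code)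
    (hgs : ∀ g ∈ gs, ∃ h ∈ H, (h : Matrix (Fin 2) (Fin 2) (ZMod p)) = toM p g) :
    ∀ n, ∀ x ∈ gen p gs n, ∃ h ∈ H, (h : Matrix (Fin 2) (Fin 2) (ZMod p)) = toM p x := by
  intro n
  induction n with
  | zero =>
    intro x hx
    rw [gen, List.mem_singleton] at hx
    subst hx
    exact ⟨1, H.one_mem, by rw [toM_one]; rfl⟩
  | succ n ih =>
    refine foldl_ins_mem _ _ _ ih fun x hx => ?_
    obtain ⟨y, hy, hx⟩ := List.mem_flatMap.1 hx
    obtain ⟨g, hg, rfl⟩ := List.mem_map.1 hx
    obtain ⟨a, ha, ha'⟩ := ih y hy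
    obtain ⟨b, hb, hb'⟩ := hgs g hg
    exact ⟨a * b, H.mul_mem ha hb, by rw [toM_mul, ← ha', ← hb']; rfl⟩

theorem scalarC_mul (s : ℕ) (x g : Code) :
    ((s : ZMod p) • toM p x) * toM p g = (s : ZMod p) • toM p (mulC p x g) := by
  rw [smul_mul_assoc, toM_mul]

omit [Fact p.Prime] in
theorem eq_one_iff (a : ℕ) : ((a : ZMod p) = 1) ↔ a % p = 1 % p := by
  rw [← Nat.cast_one, ZMod.natCast_eq_natCast_iff']

omit [Fact p.Prime] in
theorem eq_zero_iff (a : ℕ) : ((a : ZMod p) = 0) ↔ a % p = 0 := by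
  rw [← Nat.cast_zero, ZMod.natCast_eq_natCast_iff', Nat.zero_mod]

/-- The fixed point check for a scalar multiple of a coded matrix. -/
def stabOK (p : ℕ) (ss : List ℕ) (L : List Code) : Bool :=
  ss.all fun s => L.all fun x =>
    !((s * x.1) % p == 1 % p && (s * x.2.2.1) % p == 0) ||
      ((s * x.2.1) % p == 0 && (s * x.2.2.2) % p == 1 % p)

def closedOK (p : ℕ) (gs : List Code) (L : List Code) : Bool :=
  L.all fun x => gs.all fun g => L.contains (mulC p x g)

theorem card_nonzero : Nat.card {v : Fin 2 → ZMod p // v ≠ 0} = p ^ 2 - 1 := by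
  classical
  rw [Nat.card_eq_fintype_card, Fintype.card_subtype_compl, Fintype.card_subtype_eq]
  simp [ZMod.card]

/-- The certificate: `L` is the group generated by the coded generators, `ss` the scalar part. -/
theorem regular (S : Set (Matrix.GeneralLinearGroup (Fin 2) (ZMod p))) (gs : List Code)
    (ts : List ℕ) (L : List Code) (ss : List ℕ)
    (hS : ∀ h ∈ S, (∃ g ∈ gs, (h : Matrix (Fin 2) (Fin 2) (ZMod p)) = toM p g) ∨
      ∃ t ∈ ts, (h : Matrix (Fin 2) (Fin 2) (ZMod p)) = (t : ZMod p) • 1)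
    (h1 : oneC ∈ L) (hs1 : 1 ∈ ss) (hL : closedOK p gs L = true)
    (hts : (ss.all fun s => ts.all fun t => ss.contains (s * t % p)) = true)
    (hstab : stabOK p ss L = true)
    (hcard : p ^ 2 - 1 ∣ Nat.card (Subgroup.closure S)) :
    Nat.card (Subgroup.closure S) = p ^ 2 - 1 ∧ ∀ v w : Fin 2 → ZMod p, v ≠ 0 → w ≠ 0 →
      ∃! h : Subgroup.closure S, Matrix.mulVec
        ((h : Matrix.GeneralLinearGroup (Fin 2) (ZMod p)) : Matrix (Fin 2) (Fin 2) (ZMod p)) v = w := by
  classical
  set H := Subgroup.closure S with hH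
  have hmem : ∀ h ∈ H, ∃ s ∈ ss, ∃ x ∈ L,
      (h : Matrix (Fin 2) (Fin 2) (ZMod p)) = (s : ZMod p) • toM p x := by
    intro h hh
    rw [hH, ← Subgroup.mem_toSubmonoid, Subgroup.closure_toSubmonoid_of_finite] at hh
    induction hh using Submonoid.closure_induction_right with
    | one => exact ⟨1, hs1, oneC, h1, by rw [toM_one]; simp⟩
    | mul_right a _ b hb ih =>
      obtain ⟨s, hs, x, hx, hax⟩ := ih
      simp only [closedOK, List.all_eq_true, List.contains_iff_mem] at hL hts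
      rcases hS b hb with ⟨g, hg, hbg⟩ | ⟨t, ht, hbt⟩
      · refine ⟨s, hs, mulC p x g, hL x hx g hg, ?_⟩
        rw [Units.val_mul, hax, hbg, scalarC_mul]
      · refine ⟨s * t % p, hts s hs t ht, x, hx, ?_⟩
        rw [Units.val_mul, hax, hbt, mul_smul_comm, mul_one, smul_smul, ZMod.natCast_mod,
          Nat.cast_mul, mul_comm (t : ZMod p)]
  let e1 : Fin 2 → ZMod p := ![1, 0]
  have he1 : e1 ≠ 0 := fun h => one_ne_zero (congrFun h 0)
  have hne : ∀ (h : Matrix.GeneralLinearGroup (Fin 2) (ZMod p)) (v : Fin 2 → ZMod p), v ≠ 0 →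
      Matrix.mulVec (h : Matrix (Fin 2) (Fin 2) (ZMod p)) v ≠ 0 := by
    intro h v hv h0
    refine hv ?_
    have := congrArg (Matrix.mulVec ((h⁻¹ : Matrix.GeneralLinearGroup (Fin 2) (ZMod p)) :
      Matrix (Fin 2) (Fin 2) (ZMod p))) h0
    rwa [Matrix.mulVec_mulVec, ← Units.val_mul, inv_mul_cancel, Units.val_one, Matrix.one_mulVec,
      Matrix.mulVec_zero] at this
  have hfix : ∀ h ∈ H, Matrix.mulVec (h : Matrix (Fin 2) (Fin 2) (ZMod p)) e1 = e1 → h = 1 := by
    intro h hh hfx
    obtain ⟨s, hs, x, hx, hx'⟩ := hmem h hh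
    have h0 := congrFun hfx 0
    have h1' := congrFun hfx 1
    simp [hx', toM, e1, Matrix.mulVec, dotProduct, Fin.sum_univ_two] at h0 h1'
    rw [← Nat.cast_mul, eq_one_iff] at h0
    simp only [stabOK, List.all_eq_true, Bool.or_eq_true, Bool.not_eq_true', Bool.and_eq_true,
      Bool.and_eq_false_iff, beq_iff_eq, beq_eq_false_iff_ne] at hstab
    have hc : (s * x.2.2.1) % p = 0 := by
      rw [← eq_zero_iff, Nat.cast_mul]
      exact h1'
    rcases hstab s hs x hx with (h | h) | ⟨hb, hd⟩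
    · exact absurd h0 h
    · exact absurd hc h
    · refine Units.ext ?_
      rw [hx', Units.val_one]
      rw [← eq_zero_iff] at hb hc
      rw [← eq_one_iff] at hd h0
      push_cast at hb hc hd h0
      ext i j
      fin_cases i <;> fin_cases j <;> simp [toM, h0, hb, hc, hd]
  let f : H → {v : Fin 2 → ZMod p // v ≠ 0} := fun h =>
    ⟨Matrix.mulVec ((h : Matrix.GeneralLinearGroup (Fin 2) (ZMod p)) :
      Matrix (Fin 2) (Fin 2) (ZMod p)) e1, hne _ e1 he1⟩
  have hf : Function.Injective f := by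
    intro a b hab
    have h : Matrix.mulVec _ e1 = Matrix.mulVec _ e1 := congrArg Subtype.val hab
    have h2 := congrArg (Matrix.mulVec (((b⁻¹ : H) : Matrix.GeneralLinearGroup (Fin 2) (ZMod p)) :
      Matrix (Fin 2) (Fin 2) (ZMod p))) h
    rw [Matrix.mulVec_mulVec, Matrix.mulVec_mulVec, ← Units.val_mul, ← Units.val_mul,
      ← Subgroup.coe_mul, ← Subgroup.coe_mul, inv_mul_cancel, Subgroup.coe_one, Units.val_one,
      Matrix.one_mulVec] at h2
    have h3 : b⁻¹ * a = 1 := Subtype.ext (hfix _ (b⁻¹ * a).2 h2)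
    exact (inv_mul_eq_one.1 h3).symm
  have hp2 : 0 < p ^ 2 - 1 := by
    have := Nat.one_lt_pow (two_ne_zero) (Fact.out (p := p.Prime)).one_lt
    omega
  have hle : Nat.card H ≤ p ^ 2 - 1 := card_nonzero (p := p) ▸ Nat.card_le_card_of_injective f hf
  have heq : Nat.card H = p ^ 2 - 1 := le_antisymm hle (Nat.le_of_dvd Nat.card_pos hcard)
  refine ⟨heq, fun v w hv hw => ?_⟩
  have hbij : Function.Bijective f :=
    (Nat.bijective_iff_injective_and_card f).2 ⟨hf, by rw [heq, card_nonzero]⟩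
  obtain ⟨a, ha⟩ := hbij.2 ⟨v, hv⟩
  obtain ⟨b, hb⟩ := hbij.2 ⟨w, hw⟩
  have hav : Matrix.mulVec _ e1 = v := congrArg Subtype.val ha
  have hbw : Matrix.mulVec _ e1 = w := congrArg Subtype.val hb
  refine ⟨b * a⁻¹, ?_, fun c hc => ?_⟩
  · show Matrix.mulVec _ v = w
    rw [← hav, Matrix.mulVec_mulVec, ← Units.val_mul, ← Subgroup.coe_mul, inv_mul_cancel_right, hbw]
  · have : f (c * a) = f b := Subtype.ext (by
      show Matrix.mulVec _ e1 = Matrix.mulVec _ e1
      rw [Subgroup.coe_mul, Units.val_mul, ← Matrix.mulVec_mulVec, hav, hc, hbw])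
    rw [← hf this, mul_inv_cancel_right]

/-- A lower bound for the order, from a duplicate-free list of members. -/
theorem card_eq_of_list (H : Subgroup (Matrix.GeneralLinearGroup (Fin 2) (ZMod p))) (L : List Code)
    (hL : ∀ x ∈ L, ∃ h ∈ H, (h : Matrix (Fin 2) (Fin 2) (ZMod p)) = toM p x)
    (hnd : ((L.map fun x => (x.1 % p, x.2.1 % p, x.2.2.1 % p, x.2.2.2 % p)).Nodup))
    (hH : ∀ h ∈ H, ∃ x ∈ L, (h : Matrix (Fin 2) (Fin 2) (ZMod p)) = toM p x) :
    Nat.card H = L.length := by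
  classical
  have hndL : L.Nodup := hnd.of_map
  choose g hg hgx using hL
  let φ : {x // x ∈ L} → H := fun x => ⟨g x.1 x.2, hg x.1 x.2⟩
  have hφ : Function.Bijective φ := by
    constructor
    · intro a b hab
      have h : toM p a.1 = toM p b.1 := by
        rw [← hgx a.1 a.2, ← hgx b.1 b.2]
        exact congrArg (fun h : H => ((h : Matrix.GeneralLinearGroup (Fin 2) (ZMod p)) :
          Matrix (Fin 2) (Fin 2) (ZMod p))) hab
      refine Subtype.ext (List.inj_on_of_nodup_map hnd a.2 b.2 ?_)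
      have e := fun i j => congrFun (congrFun h i) j
      have e00 := e 0 0
      have e01 := e 0 1
      have e10 := e 1 0
      have e11 := e 1 1
      simp [toM, ZMod.natCast_eq_natCast_iff'] at e00 e01 e10 e11
      simp [e00, e01, e10, e11]
    · intro h
      obtain ⟨x, hx, hhx⟩ := hH h.1 h.2
      exact ⟨⟨x, hx⟩, Subtype.ext (Units.ext ((hgx x hx).trans hhx.symm))⟩
  rw [← Nat.card_eq_of_bijective φ hφ, Nat.card_eq_fintype_card,
    Fintype.card_of_subtype L.toFinset (fun x => List.mem_toFinset),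
    List.card_toFinset, List.dedup_eq_self.2 hndL]

/-- The group generated by coded generators is the computed list. -/
theorem card_closure_of_gen (S : Set (Matrix.GeneralLinearGroup (Fin 2) (ZMod p))) (gs : List Code)
    (n : ℕ) (hS : ∀ h ∈ S, ∃ g ∈ gs, (h : Matrix (Fin 2) (Fin 2) (ZMod p)) = toM p g)
    (hgs : ∀ g ∈ gs, ∃ h ∈ S, (h : Matrix (Fin 2) (Fin 2) (ZMod p)) = toM p g)
    (h1 : oneC ∈ gen p gs n) (hL : closedOK p gs (gen p gs n) = true)
    (hnd : (((gen p gs n).map fun x => (x.1 % p, x.2.1 % p, x.2.2.1 % p, x.2.2.2 % p)).Nodup)) :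
    Nat.card (Subgroup.closure S) = (gen p gs n).length := by
  refine card_eq_of_list _ _ (gen_sound _ gs (fun g hg => ?_) n) hnd fun h hh => ?_
  · obtain ⟨h, hh, hhg⟩ := hgs g hg
    exact ⟨h, Subgroup.subset_closure hh, hhg⟩
  rw [← Subgroup.mem_toSubmonoid, Subgroup.closure_toSubmonoid_of_finite] at hh
  induction hh using Submonoid.closure_induction_right with
  | one => exact ⟨oneC, h1, by rw [toM_one]; rfl⟩
  | mul_right a _ b hb ih =>
    obtain ⟨x, hx, hax⟩ := ih
    obtain ⟨g, hg, hbg⟩ := hS b hb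
    simp only [closedOK, List.all_eq_true, List.contains_iff_mem] at hL
    exact ⟨mulC p x g, hL x hx g hg, by rw [Units.val_mul, hax, hbg, toM_mul]⟩

end Cfsg.Agent.NearFieldCert
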