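import Cfsg.Agent.Lib.Perm.NilpotentOrderAlt
import Mathlib.GroupTheory.Perm.Centralizer
import Mathlib.GroupTheory.SpecificGroups.Alternating.Centralizer
import Mathlib.GroupTheory.SpecificGroups.Cyclic

/-! Nilpotent subgroups of largest order in degree `3` modulo `4`. -/

set_option autoImplicit false

namespace Cfsg.Agent.NilPerm

open Equiv

/-- A nilpotent subgroup of order `3 * 2 ^ m` is a 3-element times a 2-subgroup centralising it. -/
theorem exists_three_two {G : Type*} [Group G] [Finite G] {m : ℕ} {N : Subgroup G} (hN : Group.IsNilpotent N)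
    (hc : Nat.card N = 3 * 2 ^ m) :
    ∃ z, orderOf z = 3 ∧ ∃ S : Subgroup G, Nat.card S = 2 ^ m ∧ S ≤ Subgroup.centralizer {z} ∧
      N = Subgroup.zpowers z ⊔ S := by
  have : Fact (Nat.Prime 2) := ⟨Nat.prime_two⟩
  have : Fact (Nat.Prime 3) := ⟨Nat.prime_three⟩
  obtain ⟨z, hz⟩ := exists_prime_orderOf_dvd_card' (G := N) 3 ⟨2 ^ m, hc⟩
  obtain ⟨T, hT⟩ : ∃ T : Subgroup N, Nat.card T = 2 ^ m := Sylow.exists_subgroup_card_pow_prime 2 ⟨3, by rw [hc]; ring⟩
  have hzG : orderOf (z : G) = 3 := by rw [Subgroup.orderOf_coe, hz]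
  have hcS : Nat.card (T.map N.subtype) = 2 ^ m := by
    rw [← Nat.card_congr (T.equivMapOfInjective _ N.subtype_injective).toEquiv, hT]
  refine ⟨z, hzG, T.map N.subtype, hcS, ?_, ?_⟩
  · rintro _ ⟨t, ht, rfl⟩
    rw [Subgroup.mem_centralizer_singleton_iff]
    refine (CN.commute_of_coprime hN t.2 z.2 ?_).eq
    rw [hzG, Subgroup.orderOf_coe]
    have h1 : orderOf t ∣ 2 ^ m := hT ▸ Subgroup.orderOf_dvd_natCard _ ht
    exact (Nat.Coprime.pow_left m (by norm_num : Nat.Coprime 2 3)).coprime_dvd_left h1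
  · have hle : Subgroup.zpowers (z : G) ⊔ T.map N.subtype ≤ N :=
      sup_le (Subgroup.zpowers_le.mpr z.2) (Subgroup.map_subtype_le T)
    refine (Subgroup.eq_of_le_of_card_ge hle ?_).symm
    rw [hc]
    have h1 := Subgroup.card_dvd_of_le (le_sup_left : Subgroup.zpowers (z : G) ≤ _ ⊔ T.map N.subtype)
    have h2 := Subgroup.card_dvd_of_le (le_sup_right : T.map N.subtype ≤ Subgroup.zpowers (z : G) ⊔ _)
    rw [Nat.card_zpowers, hzG] at h1
    rw [hcS] at h2
    exact Nat.le_of_dvd Nat.card_pos ((Nat.Coprime.pow_right m (by norm_num : Nat.Coprime 3 2)).mul_dvd_of_dvd_of_dvd h1 h2)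

/-- Conjugacy of nilpotent subgroups of order `3 * 2 ^ m`. -/
theorem conj_of_class {G : Type*} [Group G] [Finite G] {m : ℕ} (T : G → Prop) (hT : ∀ x y, T x → T y → IsConj x y)
    (hC : ∀ z : G, orderOf z = 3 → 2 ^ m ∣ Nat.card (Subgroup.centralizer {z}) →
      T z ∧ ¬ 2 ^ (m + 1) ∣ Nat.card (Subgroup.centralizer {z}))
    {N₁ N₂ : Subgroup G} (h1 : Group.IsNilpotent N₁) (h2 : Group.IsNilpotent N₂)
    (c1 : Nat.card N₁ = 3 * 2 ^ m) (c2 : Nat.card N₂ = 3 * 2 ^ m) :
    ∃ g : G, N₂ = N₁.map (MulAut.conj g).toMonoidHom := by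
  have : Fact (Nat.Prime 2) := ⟨Nat.prime_two⟩
  obtain ⟨z1, hz1, S1, hS1, hS1C, e1⟩ := exists_three_two h1 c1
  obtain ⟨z2, hz2, S2, hS2, hS2C, e2⟩ := exists_three_two h2 c2
  obtain ⟨ht1, -⟩ := hC z1 hz1 (hS1 ▸ Subgroup.card_dvd_of_le hS1C)
  obtain ⟨ht2, hmax⟩ := hC z2 hz2 (hS2 ▸ Subgroup.card_dvd_of_le hS2C)
  obtain ⟨a, ha⟩ := isConj_iff.mp (hT z1 z2 ht1 ht2)
  set C := Subgroup.centralizer ({z2} : Set G)
  let S1' := S1.map (MulAut.conj a).toMonoidHom
  have hS1' : S1' ≤ C := by
    rintro _ ⟨s, hs, rfl⟩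
    have := Subgroup.mem_centralizer_singleton_iff.mp (hS1C hs)
    rw [Subgroup.mem_centralizer_singleton_iff, ← ha]
    show a * s * a⁻¹ * (a * z1 * a⁻¹) = a * z1 * a⁻¹ * (a * s * a⁻¹)
    calc a * s * a⁻¹ * (a * z1 * a⁻¹) = a * (s * z1) * a⁻¹ := by group
      _ = a * (z1 * s) * a⁻¹ := by rw [this]
      _ = _ := by group
  have hfac : (Nat.card C).factorization 2 = m := by
    rw [Nat.factorization_def _ Nat.prime_two]
    refine le_antisymm ?_ ?_
    · by_contra hlt
      exact hmax ((padicValNat_dvd_iff_le Nat.card_pos.ne').mpr (by omega))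
    · exact (padicValNat_dvd_iff_le Nat.card_pos.ne').mp (hS2 ▸ Subgroup.card_dvd_of_le hS2C)
  have hcard : ∀ {S : Subgroup G}, S ≤ C → Nat.card S = 2 ^ m →
      Nat.card (S.subgroupOf C) = 2 ^ (Nat.card C).factorization 2 := fun hS hc => by
    rw [Nat.card_congr (Subgroup.subgroupOfEquivOfLe hS).toEquiv, hc, hfac]
  have hc1' : Nat.card S1' = 2 ^ m := by
    rw [← Nat.card_congr (S1.equivMapOfInjective _ (MulAut.conj a).injective).toEquiv, hS1]
  let W1 : Sylow 2 C := Sylow.ofCard _ (hcard hS1' hc1')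
  let W2 : Sylow 2 C := Sylow.ofCard _ (hcard hS2C hS2)
  obtain ⟨c, hc⟩ := MulAction.exists_smul_eq C W1 W2
  refine ⟨(c : G) * a, ?_⟩
  have hS : S2 = S1'.map (MulAut.conj (c : G)).toMonoidHom := by
    have h := congrArg (fun W : Sylow 2 C => (W : Subgroup C).map C.subtype) hc
    simp only [W2, Sylow.coe_ofCard, Subgroup.subgroupOf_map_subtype, inf_eq_left.mpr hS2C] at h
    rw [← h]
    show ((S1'.subgroupOf C).map (MulAut.conj c).toMonoidHom).map C.subtype = _
    rw [Subgroup.map_map, show C.subtype.comp (MulAut.conj c).toMonoidHom =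
      (MulAut.conj (c : G)).toMonoidHom.comp C.subtype from rfl, ← Subgroup.map_map,
      Subgroup.subgroupOf_map_subtype, inf_eq_left.mpr hS1']
  have hz : (MulAut.conj ((c : G) * a)).toMonoidHom z1 = z2 := by
    show (c : G) * a * z1 * ((c : G) * a)⁻¹ = z2
    have := Subgroup.mem_centralizer_singleton_iff.mp c.2
    calc (c : G) * a * z1 * ((c : G) * a)⁻¹ = c * (a * z1 * a⁻¹) * (c : G)⁻¹ := by group
      _ = z2 := by rw [ha, this, mul_inv_cancel_right]
  rw [e1, e2, Subgroup.map_sup, MonoidHom.map_zpowers, hz, hS]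
  congr 1
  rw [Subgroup.map_map]
  congr 1
  exact MonoidHom.ext fun x => by simp [mul_assoc]

variable {n : ℕ}

theorem three_cycle_of_centralizer (hn : n % 4 = 3) {z : Perm (Fin n)} (hz : orderOf z = 3) :
    (¬ z.IsThreeCycle →
      padicValNat 2 (Nat.card (Subgroup.centralizer {z})) < padicValNat 2 (n - 3).factorial) ∧
    (z.IsThreeCycle →
      padicValNat 2 (Nat.card (Subgroup.centralizer {z})) = padicValNat 2 (n - 3).factorial) := by
  have : Fact (Nat.Prime 2) := ⟨Nat.prime_two⟩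
  obtain ⟨k, hk⟩ := Perm.cycleType_prime_order (σ := z) (hz ▸ Nat.prime_three)
  rw [hz] at hk
  have hsum : 3 * (k + 1) ≤ n := by
    have := Perm.sum_cycleType_le z
    rw [hk, Multiset.sum_replicate, smul_eq_mul, Fintype.card_fin] at this
    omega
  have h3 : padicValNat 2 (3 ^ (k + 1)) = 0 := by
    refine padicValNat.eq_zero_of_not_dvd fun h => ?_
    have := Nat.prime_two.dvd_of_dvd_pow h
    norm_num at this
  have hcard : padicValNat 2 (Nat.card (Subgroup.centralizer {z})) =
      padicValNat 2 (n - 3 * (k + 1)).factorial + padicValNat 2 (k + 1).factorial := by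
    rw [Perm.nat_card_centralizer, hk, Multiset.sum_replicate, Multiset.prod_replicate, smul_eq_mul, Fintype.card_fin,
      mul_comm (k + 1) 3, Multiset.toFinset_replicate, if_neg (Nat.succ_ne_zero k), Finset.prod_singleton,
      Multiset.count_replicate_self, padicValNat.mul (mul_ne_zero (Nat.factorial_ne_zero _) (by positivity))
        (Nat.factorial_ne_zero _), padicValNat.mul (Nat.factorial_ne_zero _) (by positivity), h3, add_zero]
  rw [hcard]
  refine ⟨fun hnot => ?_, fun hT => ?_⟩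
  · have hk1 : 1 ≤ k := by
      by_contra h
      have : k = 0 := by omega
      subst this
      exact hnot (show z.cycleType = {3} by rw [hk]; rfl)
    have h1 := val_add_le (n - 3 * (k + 1)) (k + 1) (n - 4) (by omega)
    have h2 : padicValNat 2 (n - 4).factorial < padicValNat 2 (n - 3).factorial := by
      rw [show n - 3 = n - 4 + 1 by omega, Nat.factorial_succ, padicValNat.mul (by omega) (Nat.factorial_ne_zero _)]
      have := one_le_padicValNat_of_dvd (p := 2) (show n - 4 + 1 ≠ 0 by omega) (by omega)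
      omega
    omega
  · have hk0 : k = 0 := by
      have h := congrArg Multiset.card (hk.symm.trans hT)
      simpa using h
    subst hk0
    simp

theorem conj_perm (hn : n % 4 = 3) {N₁ N₂ : Subgroup (Perm (Fin n))} (h1 : Group.IsNilpotent N₁)
    (h2 : Group.IsNilpotent N₂) (c1 : Nat.card N₁ = 3 * 2 ^ padicValNat 2 (n - 3).factorial)
    (c2 : Nat.card N₂ = 3 * 2 ^ padicValNat 2 (n - 3).factorial) :
    ∃ g, N₂ = N₁.map (MulAut.conj g).toMonoidHom := by
  have : Fact (Nat.Prime 2) := ⟨Nat.prime_two⟩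
  refine conj_of_class Perm.IsThreeCycle (fun x y hx hy => Perm.isConj_iff_cycleType_eq.mpr (hx.trans hy.symm))
    (fun z hz hd => ?_) h1 h2 c1 c2
  have hd' := (padicValNat_dvd_iff_le Nat.card_pos.ne').mp hd
  obtain ⟨hlt, heq⟩ := three_cycle_of_centralizer hn hz
  by_cases hT : z.IsThreeCycle
  · refine ⟨hT, fun hd1 => ?_⟩
    have := (padicValNat_dvd_iff_le Nat.card_pos.ne').mp hd1
    have := heq hT
    omega
  · exact absurd (hlt hT) (not_lt.mpr hd')

theorem val_card_alt (hn : 2 ≤ n) :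
    padicValNat 2 (Nat.card (alternatingGroup (Fin n))) = padicValNat 2 n.factorial - 1 := by
  have : Fact (Nat.Prime 2) := ⟨Nat.prime_two⟩
  have : Nontrivial (Fin n) := Fin.nontrivial_iff_two_le.mpr hn
  have h : 2 * Nat.card (alternatingGroup (Fin n)) = n.factorial := by
    rw [Nat.card_eq_fintype_card, two_mul_card_alternatingGroup, Fintype.card_perm, Fintype.card_fin]
  rw [← h, padicValNat.mul two_ne_zero Nat.card_pos.ne', padicValNat.self one_lt_two]
  omega

theorem conj_alt (hn : n % 4 = 3) (h7 : 7 ≤ n) {N₁ N₂ : Subgroup (alternatingGroup (Fin n))}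
    (h1 : Group.IsNilpotent N₁) (h2 : Group.IsNilpotent N₂)
    (c1 : Nat.card N₁ = 3 * 2 ^ (padicValNat 2 (n - 3).factorial - 1))
    (c2 : Nat.card N₂ = 3 * 2 ^ (padicValNat 2 (n - 3).factorial - 1)) :
    ∃ g, N₂ = N₁.map (MulAut.conj g).toMonoidHom := by
  have : Fact (Nat.Prime 2) := ⟨Nat.prime_two⟩
  have : Nontrivial (Fin n) := Fin.nontrivial_iff_two_le.mpr (by omega)
  have hv1 : 1 ≤ padicValNat 2 (n - 3).factorial :=
    one_le_padicValNat_of_dvd (Nat.factorial_ne_zero _) (Nat.dvd_factorial two_pos (by omega))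
  refine conj_of_class (G := alternatingGroup (Fin n)) (fun z => (z : Perm (Fin n)).IsThreeCycle)
    (fun x y hx hy => alternatingGroup.isThreeCycle_isConj (by rw [Nat.card_eq_fintype_card, Fintype.card_fin]; omega) hx hy) (fun z hz hd => ?_) h1 h2 c1 c2
  set C := Subgroup.centralizer ({(z : Perm (Fin n))} : Set (Perm (Fin n))) with hCdef
  have hmap : (Subgroup.centralizer {z}).map (alternatingGroup (Fin n)).subtype = C ⊓ alternatingGroup (Fin n) := by
    ext g
    constructor
    · rintro ⟨g', hg', rfl⟩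
      refine ⟨?_, g'.2⟩
      exact Subgroup.mem_centralizer_singleton_iff.mpr (congrArg Subtype.val (Subgroup.mem_centralizer_singleton_iff.mp hg'))
    · rintro ⟨hg, hgA⟩
      exact ⟨⟨g, hgA⟩, Subgroup.mem_centralizer_singleton_iff.mpr
        (Subtype.ext (Subgroup.mem_centralizer_singleton_iff.mp hg)), rfl⟩
  have hz' : orderOf (z : Perm (Fin n)) = 3 := by rw [Subgroup.orderOf_coe, hz]
  have hnle : ¬ C ≤ alternatingGroup (Fin n) := by
    rw [Perm.centralizer_le_alternating_iff]
    rintro ⟨-, hs, hc⟩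
    obtain ⟨k, hk⟩ := Perm.cycleType_prime_order (σ := (z : Perm (Fin n))) (hz' ▸ Nat.prime_three)
    rw [hz'] at hk
    have := hc 3
    rw [hk, Multiset.count_replicate_self] at this
    rw [hk, Multiset.sum_replicate, smul_eq_mul, Fintype.card_fin] at hs
    omega
  have hidx : (C ⊓ alternatingGroup (Fin n)).relIndex C = 2 := by
    have h2' := Subgroup.relIndex_dvd_index_of_normal (alternatingGroup (Fin n)) C
    rw [alternatingGroup.index_eq_two] at h2'
    rw [inf_comm, Subgroup.inf_relIndex_right]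
    exact ((Nat.dvd_prime Nat.prime_two).mp h2').resolve_left fun e => hnle (Subgroup.relIndex_eq_one.mp e)
  have hCA : padicValNat 2 (Nat.card C) = padicValNat 2 (Nat.card (Subgroup.centralizer {z})) + 1 := by
    have h3 := (C ⊓ alternatingGroup (Fin n)).subgroupOf C |>.card_mul_index
    rw [Nat.card_congr (Subgroup.subgroupOfEquivOfLe inf_le_left).toEquiv, ← Subgroup.relIndex, hidx, ← hmap,
      ← Nat.card_congr ((Subgroup.centralizer {z}).equivMapOfInjective _ (Subgroup.subtype_injective _)).toEquiv] at h3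
    rw [← h3, padicValNat.mul Nat.card_pos.ne' two_ne_zero, padicValNat.self one_lt_two]
  rw [hCdef] at hCA
  have hd' := (padicValNat_dvd_iff_le Nat.card_pos.ne').mp hd
  obtain ⟨hlt, heq⟩ := three_cycle_of_centralizer hn hz'
  by_cases hT : (z : Perm (Fin n)).IsThreeCycle
  · refine ⟨hT, fun hd1 => ?_⟩
    have := (padicValNat_dvd_iff_le Nat.card_pos.ne').mp hd1
    have := heq hT
    omega
  · have := hlt hT
    omega

/-- The embedding of `Perm (Fin (n - 3)) × C₃` into `Perm (Fin n)`. -/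
theorem exists_embed (hn : 3 ≤ n) :
    ∃ φ : Perm (Fin (n - 3)) × Multiplicative (ZMod 3) →* Perm (Fin n),
      Function.Injective φ ∧ ∀ g c, Perm.sign (φ (g, c)) = Perm.sign g := by
  have h3 : Nat.card (alternatingGroup (Fin 3)) = 3 := by
    rw [nat_card_alternatingGroup]; simp [Nat.factorial]
  have : Fact (Nat.Prime 3) := ⟨Nat.prime_three⟩
  have : IsCyclic (alternatingGroup (Fin 3)) := isCyclic_of_prime_card h3
  let c3 : Multiplicative (ZMod 3) ≃* alternatingGroup (Fin 3) := mulEquivOfCyclicCardEq (by rw [h3]; simp)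
  let e : Fin (n - 3) ⊕ Fin 3 ≃ Fin n := finSumFinEquiv.trans (finCongr (by omega))
  refine ⟨e.permCongrHom.toMonoidHom.comp ((Perm.sumCongrHom (Fin (n - 3)) (Fin 3)).comp
    (MonoidHom.prodMap (MonoidHom.id _) ((alternatingGroup (Fin 3)).subtype.comp c3.toMonoidHom))), ?_, ?_⟩
  · refine e.permCongrHom.injective.comp (Perm.sumCongrHom_injective.comp ?_)
    rintro ⟨a, b⟩ ⟨a', b'⟩ h
    simp only [MonoidHom.coe_prodMap, Prod.map_apply, MonoidHom.id_apply, MonoidHom.coe_comp,
      Function.comp_apply, Prod.mk.injEq] at h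
    rw [h.1, c3.injective (Subgroup.subtype_injective _ h.2)]
  · intro g c
    show Perm.sign (e.permCongr (Perm.sumCongr g ((c3 c : alternatingGroup (Fin 3)) : Perm (Fin 3)))) = _
    rw [Perm.sign_permCongr, Perm.sign_sumCongr, Perm.mem_alternatingGroup.mp (c3 c).2, mul_one]

theorem val_step (hn : n % 4 = 3) :
    padicValNat 2 n.factorial = padicValNat 2 (n - 3).factorial + 1 := by
  have : Fact (Nat.Prime 2) := ⟨Nat.prime_two⟩
  have h1 := val_two_split n
  have h2 := val_two_split (n - 3)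
  rw [show (n - 3) / 4 = n / 4 by omega] at h2
  omega

end Cfsg.Agent.NilPerm
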