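import Mathlib.GroupTheory.Nilpotent
import Mathlib.GroupTheory.SchurZassenhaus
import Mathlib.GroupTheory.GroupAction.Blocks
import Mathlib.NumberTheory.Padics.PadicVal.Basic
import Mathlib.GroupTheory.Perm.Basic
import Mathlib.Tactic
import Cfsg.Agent.Lib.CN.Basic

/-! Orders of nilpotent subgroups of symmetric groups. -/

set_option autoImplicit false

namespace Cfsg.Agent.NilPerm

open Equiv MulAction

/-- Twice the largest order of a nilpotent subgroup of `S_n`. -/
def bd (n : ℕ) : ℕ := 2 ^ padicValNat 2 n.factorial * if n % 4 = 3 then 3 else 2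

theorem val_two_split (n : ℕ) :
    padicValNat 2 n.factorial = n / 2 + n / 4 + padicValNat 2 (n / 4).factorial := by
  have : Fact (Nat.Prime 2) := ⟨Nat.prime_two⟩
  have h : ∀ m : ℕ, padicValNat 2 m.factorial = m / 2 + padicValNat 2 (m / 2).factorial := by
    intro m
    conv_lhs => rw [show m = 2 * (m / 2) + m % 2 by omega]
    rw [padicValNat_factorial_mul_add _ (Nat.mod_lt _ two_pos), padicValNat_factorial_mul]
    omega
  rw [h n, h (n / 2), Nat.div_div_eq_div_mul, show 2 * 2 = 4 from rfl]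
  omega

theorem val_mono {a b : ℕ} (h : a ∣ b) (hb : b ≠ 0) : padicValNat 2 a ≤ padicValNat 2 b := by
  have : Fact (Nat.Prime 2) := ⟨Nat.prime_two⟩
  exact (padicValNat_dvd_iff_le hb).mp (pow_padicValNat_dvd.trans h)

theorem val_add_le (a b c : ℕ) (h : a + b ≤ c) :
    padicValNat 2 a.factorial + padicValNat 2 b.factorial ≤ padicValNat 2 c.factorial := by
  have : Fact (Nat.Prime 2) := ⟨Nat.prime_two⟩
  rw [← padicValNat.mul a.factorial_ne_zero b.factorial_ne_zero]
  exact val_mono ((Nat.factorial_mul_factorial_dvd_factorial_add a b).trans (Nat.factorial_dvd_factorial h))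
    c.factorial_ne_zero

theorem bd_pos (n : ℕ) : 2 ≤ bd n := by
  have : 1 ≤ 2 ^ padicValNat 2 n.factorial := Nat.one_le_two_pow
  unfold bd
  split_ifs <;> omega

theorem bd_add (a b : ℕ) : bd a * bd b ≤ 2 * bd (a + b) := by
  set K := padicValNat 2 a.factorial + padicValNat 2 b.factorial
  obtain ⟨d, hd⟩ : ∃ d, padicValNat 2 (a + b).factorial = K + d :=
    Nat.exists_eq_add_of_le (val_add_le a b (a + b) le_rfl)
  have hd2 : (a + b) / 2 + (a + b) / 4 - (a / 2 + a / 4) - (b / 2 + b / 4) ≤ d := by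
    have h0 := val_two_split (a + b)
    have h1 := val_two_split a
    have h2 := val_two_split b
    have h3 := val_add_le (a / 4) (b / 4) ((a + b) / 4) (by omega)
    omega
  have e : bd a * bd b = 2 ^ K * ((if a % 4 = 3 then 3 else 2) * if b % 4 = 3 then 3 else 2) := by
    rw [show 2 ^ K = 2 ^ padicValNat 2 a.factorial * 2 ^ padicValNat 2 b.factorial from pow_add _ _ _]
    unfold bd; ring
  rw [e, show bd (a + b) = 2 ^ K * (2 ^ d * if (a + b) % 4 = 3 then 3 else 2) by rw [bd, hd, pow_add, mul_assoc],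
    ← mul_assoc 2, mul_comm 2 (2 ^ K), mul_assoc (2 ^ K)]
  refine Nat.mul_le_mul_left _ ?_
  obtain ⟨a', ha⟩ : ∃ a', a % 4 = a' := ⟨_, rfl⟩
  obtain ⟨b', hb⟩ : ∃ b', b % 4 = b' := ⟨_, rfl⟩
  rcases d with _ | _ | d
  · split_ifs <;> omega
  · split_ifs <;> omega
  · have h4 : 4 ≤ 2 ^ (d + 1 + 1) := by
      have := Nat.one_le_two_pow (n := d)
      rw [pow_succ, pow_succ]; omega
    split_ifs <;> omega

theorem bd_mono {m n : ℕ} (h : m ≤ n) : bd m ≤ bd n := by
  have h1 := bd_add m (n - m)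
  rw [Nat.add_sub_cancel' h] at h1
  have := Nat.mul_le_mul_left (bd m) (bd_pos (n - m))
  omega

theorem sq_le_three_pow {p : ℕ} (hp : 3 ≤ p) : p ^ 2 ≤ 3 ^ (p - 1) := by
  induction p, hp using Nat.le_induction with
  | base => norm_num
  | succ k hk ih =>
    rw [show k + 1 - 1 = k - 1 + 1 by omega, pow_succ 3 (k - 1)]
    nlinarith

theorem sq_mul_three_pow_le {n : ℕ} (hn : 23 ≤ n) : n ^ 2 * 3 ^ (n - 1) ≤ 4 ^ (n - 1) := by
  induction n, hn using Nat.le_induction with
  | base => norm_num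
  | succ k hk ih =>
    rw [show k + 1 - 1 = k - 1 + 1 by omega, pow_succ 3 (k - 1), pow_succ 4 (k - 1)]
    have h1 : (k + 1) ^ 2 * 3 ≤ 4 * k ^ 2 := by nlinarith
    nlinarith [Nat.mul_le_mul_right (3 ^ (k - 1)) h1]

theorem bd_prime (p n : ℕ) [hp : Fact p.Prime] : 2 * p ^ padicValNat p n.factorial ≤ bd n := by
  have h2' : Fact (Nat.Prime 2) := ⟨Nat.prime_two⟩
  have hb : 2 * 2 ^ padicValNat 2 n.factorial ≤ bd n := by unfold bd; split_ifs <;> omega
  rcases hp.out.eq_two_or_odd with rfl | hodd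
  · exact hb
  have hp3 : 3 ≤ p := by have := hp.out.two_le; omega
  by_cases hn0 : n = 0
  · subst hn0; simpa using bd_pos 0
  have hk := sub_one_mul_padicValNat_factorial_lt_of_ne_zero (p := p) hn0
  set k := padicValNat p n.factorial
  have hsq : (p ^ k) ^ 2 ≤ 3 ^ (n - 1) := by
    calc (p ^ k) ^ 2 = (p ^ 2) ^ k := by rw [← pow_mul, ← pow_mul, mul_comm]
      _ ≤ (3 ^ (p - 1)) ^ k := Nat.pow_le_pow_left (sq_le_three_pow hp3) k
      _ = 3 ^ ((p - 1) * k) := (pow_mul _ _ _).symm
      _ ≤ 3 ^ (n - 1) := Nat.pow_le_pow_right (by norm_num) (by omega)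
  by_cases hn : 23 ≤ n
  · set v := padicValNat 2 n.factorial
    have hv : v + (Nat.digits 2 n).sum = n := by
      have h1 := sub_one_mul_padicValNat_factorial (p := 2) n
      have h2 := Nat.digit_sum_le 2 n
      omega
    have hs : (Nat.digits 2 n).sum ≤ Nat.log 2 n + 1 := by
      have h1 := List.sum_le_card_nsmul (Nat.digits 2 n) 1
        (fun x hx => Nat.lt_succ_iff.mp (Nat.digits_lt_base one_lt_two hx))
      rw [Nat.length_digits 2 n one_lt_two hn0] at h1
      simpa using h1
    have hlog := Nat.pow_log_le_self 2 hn0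
    have h4 : (2 ^ Nat.log 2 n) ^ 2 * 3 ^ (n - 1) ≤ 4 ^ (n - 1) :=
      (Nat.mul_le_mul_right _ (Nat.pow_le_pow_left hlog 2)).trans (sq_mul_three_pow_le hn)
    have h5 : 4 ^ (n - 1) ≤ (2 ^ v) ^ 2 * (2 ^ Nat.log 2 n) ^ 2 := by
      rw [show (4 : ℕ) = 2 ^ 2 by norm_num, ← pow_mul, ← pow_mul, ← pow_mul, ← pow_add]
      exact Nat.pow_le_pow_right two_pos (by omega)
    have h6 : (p ^ k) ^ 2 ≤ (2 ^ v) ^ 2 := by
      refine hsq.trans (Nat.le_of_mul_le_mul_left ?_ (show 0 < (2 ^ Nat.log 2 n) ^ 2 by positivity))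
      rw [mul_comm ((2 ^ Nat.log 2 n) ^ 2) ((2 ^ v) ^ 2)]
      exact h4.trans h5
    have h7 := (Nat.pow_le_pow_iff_left (two_ne_zero)).mp h6
    omega
  · by_cases hp5 : p ≤ n
    · have ek : k = ∑ i ∈ Finset.Ico 1 4, n / p ^ i :=
        padicValNat_factorial (Nat.log_lt_of_lt_pow hn0 (by nlinarith [Nat.pow_le_pow_left hp3 4]))
      have e2 : padicValNat 2 n.factorial = ∑ i ∈ Finset.Ico 1 5, n / 2 ^ i :=
        padicValNat_factorial (Nat.log_lt_of_lt_pow hn0 (by omega))
      rw [bd, ek, e2]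
      have hpp := hp.out
      clear hsq hk ek e2 hb hodd hp
      interval_cases n <;> interval_cases p <;> first | exact absurd hpp (by decide) | decide
    · have : k = 0 := padicValNat.eq_zero_of_not_dvd fun h => hp5 (hp.out.dvd_factorial.mp h)
      rw [this]; simpa using bd_pos n

section

variable {α : Type*} [Fintype α]

open Classical in
/-- The restriction of a subgroup to an invariant set. -/
noncomputable def restrict (N : Subgroup (Perm α)) (s : Set α) (hs : ∀ g ∈ N, ∀ x, g x ∈ s ↔ x ∈ s) : N →* Perm s where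
  toFun g := (g : Perm α).subtypePerm (hs g g.2)
  map_one' := by ext; rfl
  map_mul' g h := by ext; rfl

omit [Fintype α] in
theorem restrict_eq_one {N : Subgroup (Perm α)} {s : Set α} {hs : ∀ g ∈ N, ∀ x, g x ∈ s ↔ x ∈ s} {g : N}
    (h : restrict N s hs g = 1) {x : α} (hx : x ∈ s) : (g : Perm α) x = x :=
  congrArg Subtype.val (Equiv.ext_iff.mp h ⟨x, hx⟩)

open Classical in
/-- A transitive nilpotent group that is no `p`-group splits over two smaller coprime degrees. -/
theorem split_of_transitive {n : ℕ} {α : Type} [Fintype α] (hα : Fintype.card α = n) (N : Subgroup (Perm α))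
    (hN : Group.IsNilpotent N) [IsPretransitive N α] (hp : ∀ p : ℕ, p.Prime → ¬ IsPGroup p N)
    (himg : ∀ (H : Subgroup (Perm α)), H ≤ N → ∀ (s : Set α) (hs : ∀ g ∈ H, ∀ x, g x ∈ s ↔ x ∈ s),
      s.ncard < n → 2 * Nat.card (restrict H s hs).range ≤ bd s.ncard) :
    ∃ c d, 2 ≤ c ∧ 2 ≤ d ∧ Nat.Coprime c d ∧ c * d ≤ n ∧ 4 * Nat.card N ≤ bd c * bd d := by
  obtain ⟨p, hpp, hpdvd⟩ := Nat.exists_prime_and_dvd
    (show Nat.card N ≠ 1 from fun e => hp 2 Nat.prime_two (IsPGroup.of_card (n := 0) (by simpa using e)))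
  have : Fact p.Prime := ⟨hpp⟩
  let P : Sylow p N := default
  have hPc : Nat.Coprime (Nat.card (P : Subgroup N)) (P : Subgroup N).index := P.card_coprime_index
  obtain ⟨K, hK⟩ := Subgroup.exists_right_complement'_of_coprime (N := (P : Subgroup N)) hPc
  have hKc : Nat.card (P : Subgroup N) * Nat.card K = Nat.card N := hK.card_mul_card
  have hco : Nat.Coprime (Nat.card (P : Subgroup N)) (Nat.card K) := by
    rwa [hK.symm.index_eq_card] at hPc
  have hcomm : ∀ a ∈ (P : Subgroup N), ∀ b ∈ K, a * b = b * a := fun a ha b hb =>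
    CN.commute_of_coprime (K := (⊤ : Subgroup N)) (Group.nilpotent_of_mulEquiv Subgroup.topEquiv.symm)
      (Subgroup.mem_top a) (Subgroup.mem_top b) ((hco.coprime_dvd_left
        (Subgroup.orderOf_dvd_natCard _ ha)).coprime_dvd_right (Subgroup.orderOf_dvd_natCard _ hb))
  have hmul : ∀ g : N, ∃ a ∈ (P : Subgroup N), ∃ b ∈ K, a * b = g := fun g => by
    obtain ⟨⟨a, b⟩, hab⟩ := hK.existsUnique g |>.exists
    exact ⟨a, a.2, b, b.2, hab⟩
  have hKn : K.Normal := by
    refine ⟨fun b hb g => ?_⟩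
    obtain ⟨a, ha, c, hc, rfl⟩ := hmul g
    have hm := K.mul_mem (K.mul_mem hc hb) (K.inv_mem hc)
    rw [show a * c * b * (a * c)⁻¹ = a * (c * b * c⁻¹) * a⁻¹ by group, hcomm a ha _ hm, mul_inv_cancel_right]
    exact hm
  have hnempty : Nonempty α := by
    by_contra he
    rw [not_nonempty_iff] at he
    have : Subsingleton N := ⟨fun a b => Subtype.ext (Equiv.ext fun x => isEmptyElim x)⟩
    exact hp 2 Nat.prime_two (IsPGroup.of_card (n := 0) (by rw [pow_zero, Nat.card_unique]))
  obtain ⟨x⟩ := hnempty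
  -- faithful on one orbit, which is a block
  have key : ∀ A B : Subgroup N, A.Normal → A ≠ ⊥ → (∀ g : N, ∃ a ∈ A, ∃ b ∈ B, b * a = g) →
      (∀ a ∈ A, ∀ b ∈ B, a * b = b * a) →
      ∃ c, 2 ≤ c ∧ c ∣ n ∧ c ∣ Nat.card A ∧ (c < n → 2 * Nat.card A ≤ bd c) := by
    intro A B hA hA1 hgen hAB
    set O : Set α := orbit A x
    have hfix : ∀ a ∈ A, (∀ y ∈ O, (a : Perm α) y = y) → a = 1 := by
      intro a ha h
      apply Subtype.ext
      ext y
      obtain ⟨g, rfl⟩ := exists_smul_eq N x y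
      obtain ⟨a', ha', b, hb, rfl⟩ := hgen g
      show (a : Perm α) ((b * a' : N) • x) = (b * a' : N) • x
      show ((a * (b * a') : N) : Perm α) x = ((b * a' : N) : Perm α) x
      rw [← mul_assoc, hAB a ha b hb, mul_assoc]
      show (b : Perm α) ((a : Perm α) ((a' : Perm α) x)) = (b : Perm α) ((a' : Perm α) x)
      rw [h ((a' : Perm α) x) ⟨⟨a', ha'⟩, rfl⟩]
    have hO : O.Nonempty := ⟨x, mem_orbit_self x⟩
    refine ⟨O.ncard, ?_, ?_, ?_, fun hlt => ?_⟩
    · by_contra hlt
      refine hA1 ((Subgroup.eq_bot_iff_forall _).mpr fun a ha => hfix a ha fun y hy => ?_)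
      have h1 : O.ncard = 1 := by have := hO.ncard_pos; omega
      obtain ⟨z, hz⟩ := Set.ncard_eq_one.mp h1
      have hy' : (a : Perm α) y ∈ O := by
        obtain ⟨a', rfl⟩ := hy
        exact ⟨⟨a, ha⟩ * a', rfl⟩
      rw [hz, Set.mem_singleton_iff] at hy hy'
      rw [hy] at hy' ⊢
      exact hy'
    · have := (IsBlock.orbit_of_normal (G := N) (N := A) x).ncard_dvd_card hO
      rwa [Nat.card_eq_fintype_card, hα] at this
    · rw [← index_stabilizer]; exact (stabilizer A x).index_dvd_card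
    · let H := A.map N.subtype
      have hinv : ∀ g ∈ H, ∀ y, g y ∈ O ↔ y ∈ O := by
        rintro _ ⟨a, ha, rfl⟩ y
        show (⟨a, ha⟩ : A) • y ∈ O ↔ _
        rw [← orbit_eq_iff, orbit_smul, orbit_eq_iff]
      have hinj : Function.Injective (restrict H O hinv) := by
        rw [injective_iff_map_eq_one]
        rintro ⟨_, a, ha, rfl⟩ h
        apply Subtype.ext
        have := hfix a ha fun y hy => restrict_eq_one h hy
        simp [this]
      rw [Nat.card_congr (A.equivMapOfInjective _ N.subtype_injective).toEquiv,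
        Nat.card_congr (MonoidHom.ofInjective hinj).toEquiv]
      exact himg H (Subgroup.map_subtype_le A) O hinv hlt
  have hPne : (P : Subgroup N) ≠ ⊥ := P.ne_bot_of_dvd_card hpdvd
  have hKne : K ≠ ⊥ := fun e => by
    rw [e, Subgroup.card_bot, mul_one] at hKc
    exact hp p hpp (IsPGroup.of_card (hKc.symm.trans P.card_eq_multiplicity))
  obtain ⟨c, hc2, hcn, hcA, hcle⟩ := key P K inferInstance hPne
    (fun g => by
      obtain ⟨a, ha, b, hb, rfl⟩ := hmul g
      exact ⟨a, ha, b, hb, (hcomm a ha b hb).symm⟩) hcomm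
  obtain ⟨d, hd2, hdn, hdA, hdle⟩ := key K P hKn hKne
    (fun g => by
      obtain ⟨a, ha, b, hb, rfl⟩ := hmul g
      exact ⟨b, hb, a, ha, rfl⟩) (fun b hb a ha => (hcomm a ha b hb).symm)
  have hn0 : 0 < n := hα ▸ Fintype.card_pos_iff.mpr ⟨x⟩
  have hcd : c * d ≤ n :=
    Nat.le_of_dvd hn0 (((hco.coprime_dvd_left hcA).coprime_dvd_right hdA).mul_dvd_of_dvd_of_dvd hcn hdn)
  have hcd2 := (hco.coprime_dvd_left hcA).coprime_dvd_right hdA
  refine ⟨c, d, hc2, hd2, hcd2, hcd, ?_⟩
  have h5 := Nat.mul_le_mul (hcle (by nlinarith)) (hdle (by nlinarith))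
  rw [← hKc]; linarith

open Classical in
theorem card_le (n : ℕ) : ∀ (α : Type) [Fintype α] (_ : Fintype.card α = n) (N : Subgroup (Perm α)),
    Group.IsNilpotent N → 2 * Nat.card N ≤ bd n := by
  induction n using Nat.strong_induction_on with
  | _ n ih =>
    intro α _ hα N hN
    -- the image on a smaller invariant set
    have himg : ∀ (H : Subgroup (Perm α)), H ≤ N → ∀ (s : Set α) (hs : ∀ g ∈ H, ∀ x, g x ∈ s ↔ x ∈ s),
        s.ncard < n → 2 * Nat.card (restrict H s hs).range ≤ bd s.ncard := by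
      intro H hH s hs hlt
      refine ih _ hlt s (by rw [← Nat.card_eq_fintype_card, Nat.card_coe_set_eq]) _ ?_
      have : Group.IsNilpotent (H.subgroupOf N) := Subgroup.isNilpotent (H.subgroupOf N)
      have : Group.IsNilpotent H := Group.nilpotent_of_mulEquiv (Subgroup.subgroupOfEquivOfLe hH)
      exact Group.nilpotent_of_surjective _ (restrict H s hs).rangeRestrict_surjective
    by_cases htr : IsPretransitive N α
    · by_cases hp : ∃ p : ℕ, p.Prime ∧ IsPGroup p N
      · obtain ⟨p, hp, hpN⟩ := hp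
        have : Fact p.Prime := ⟨hp⟩
        obtain ⟨k, hk⟩ := hpN.exists_card_eq
        have hdvd := Subgroup.card_subgroup_dvd_card N
        rw [Nat.card_eq_fintype_card (α := Perm α), Fintype.card_perm, hα, hk] at hdvd
        have hle := (padicValNat_dvd_iff_le n.factorial_ne_zero).mp hdvd
        have := Nat.pow_le_pow_right hp.pos hle
        have := bd_prime p n
        rw [hk]; omega
      · push Not at hp
        obtain ⟨c, d, hc2, hd2, -, hcd, h5⟩ := split_of_transitive hα N hN hp himg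
        have h3 := bd_add c d
        have h4 := bd_mono (show c + d ≤ n by nlinarith)
        omega
    · obtain ⟨x, hx⟩ : ∃ x : α, orbit N x ≠ Set.univ := by
        by_contra hcon
        push Not at hcon
        exact htr ⟨fun a b => by rw [← mem_orbit_iff, hcon a]; trivial⟩
      set O : Set α := orbit N x
      have hinv : ∀ g ∈ N, ∀ y, g y ∈ O ↔ y ∈ O := by
        intro g hg y
        show (⟨g, hg⟩ : N) • y ∈ O ↔ _
        rw [← orbit_eq_iff, orbit_smul, orbit_eq_iff]
      have hinv' : ∀ g ∈ N, ∀ y, g y ∈ Oᶜ ↔ y ∈ Oᶜ := fun g hg y => not_congr (hinv g hg y)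
      have hsum : O.ncard + Oᶜ.ncard = n := by
        rw [Set.ncard_add_ncard_compl, Nat.card_eq_fintype_card, hα]
      have h1p : 0 < O.ncard := (Set.ncard_pos (Set.toFinite O)).mpr ⟨x, mem_orbit_self x⟩
      have h2p : 0 < Oᶜ.ncard := (Set.ncard_pos (Set.toFinite _)).mpr (Set.nonempty_compl.mpr hx)
      have h1 := himg N le_rfl O hinv (by omega)
      have h2 := himg N le_rfl Oᶜ hinv' (by omega)
      have hinj : Function.Injective ((restrict N O hinv).rangeRestrict.prod (restrict N Oᶜ hinv').rangeRestrict) := by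
        rw [injective_iff_map_eq_one]
        intro g hg
        simp only [MonoidHom.prod_apply, Prod.mk_eq_one] at hg
        apply Subtype.ext
        ext y
        by_cases hy : y ∈ O
        · exact restrict_eq_one (congrArg Subtype.val hg.1) hy
        · exact restrict_eq_one (congrArg Subtype.val hg.2) hy
      have h3 := Nat.card_le_card_of_injective _ hinj
      rw [Nat.card_prod] at h3
      have h4 := bd_add O.ncard Oᶜ.ncard
      rw [hsum] at h4
      have h5 := Nat.mul_le_mul h1 h2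
      nlinarith

end

end Cfsg.Agent.NilPerm
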