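import Cfsg.Agent.Lib.Perm.NilpotentOrder
import Mathlib.GroupTheory.SpecificGroups.Alternating

/-! Orders of nilpotent subgroups of alternating groups. -/

set_option autoImplicit false

namespace Cfsg.Agent.NilPerm

open Equiv MulAction

/-- The degrees in which the bound `2 ^ (v₂(n!) - 1)` fails. -/
def exc : List ℕ := [0, 1, 3, 5, 6, 9]

theorem bd_small {n : ℕ} (hn : n < 32) :
    bd n = 2 ^ (∑ i ∈ Finset.Ico 1 5, n / 2 ^ i) * (if n % 4 = 3 then 3 else 2) := by
  have : Fact (Nat.Prime 2) := ⟨Nat.prime_two⟩
  rw [bd, padicValNat_factorial]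
  rcases Nat.eq_zero_or_pos n with rfl | h
  · simp
  · exact Nat.log_lt_of_lt_pow h.ne' hn

theorem bd_prime_four (p n : ℕ) [hp : Fact p.Prime] (hp2 : p ≠ 2) (hn : n ∉ exc) :
    4 * p ^ padicValNat p n.factorial ≤ bd n := by
  have h2' : Fact (Nat.Prime 2) := ⟨Nat.prime_two⟩
  have hp3 : 3 ≤ p := by have := hp.out.two_le; omega
  have hn0 : n ≠ 0 := fun e => hn (by subst e; decide)
  have hk := sub_one_mul_padicValNat_factorial_lt_of_ne_zero (p := p) hn0
  set k := padicValNat p n.factorial with hkdef
  have hsq : (p ^ k) ^ 2 ≤ 3 ^ (n - 1) := by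
    calc (p ^ k) ^ 2 = (p ^ 2) ^ k := by rw [← pow_mul, ← pow_mul, mul_comm]
      _ ≤ (3 ^ (p - 1)) ^ k := Nat.pow_le_pow_left (sq_le_three_pow hp3) k
      _ = 3 ^ ((p - 1) * k) := (pow_mul _ _ _).symm
      _ ≤ 3 ^ (n - 1) := Nat.pow_le_pow_right (by norm_num) (by omega)
  by_cases h30 : 30 ≤ n
  · set v := padicValNat 2 n.factorial with hvdef
    have hv : v + (Nat.digits 2 n).sum = n := by
      have h1 := sub_one_mul_padicValNat_factorial (p := 2) n
      have h2 := Nat.digit_sum_le 2 n
      omega
    have hs : (Nat.digits 2 n).sum ≤ Nat.log 2 n + 1 := by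
      have h1 := List.sum_le_card_nsmul (Nat.digits 2 n) 1
        (fun x hx => Nat.lt_succ_iff.mp (Nat.digits_lt_base one_lt_two hx))
      rw [Nat.length_digits 2 n one_lt_two hn0] at h1
      simpa using h1
    have key : ∀ m, 30 ≤ m → 4 * m ^ 2 * 3 ^ (m - 1) ≤ 4 ^ (m - 1) := by
      intro m hm
      induction m, hm using Nat.le_induction with
      | base => norm_num
      | succ j hj ih =>
        rw [show j + 1 - 1 = j - 1 + 1 by omega, pow_succ 3 (j - 1), pow_succ 4 (j - 1)]
        have h1 : (j + 1) ^ 2 * 3 ≤ 4 * j ^ 2 := by nlinarith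
        nlinarith [Nat.mul_le_mul_right (3 ^ (j - 1)) h1]
    have hlog := Nat.pow_log_le_self 2 hn0
    have h4 : 4 * (2 ^ Nat.log 2 n) ^ 2 * 3 ^ (n - 1) ≤ 4 ^ (n - 1) :=
      (Nat.mul_le_mul_right _ (Nat.mul_le_mul_left _ (Nat.pow_le_pow_left hlog 2))).trans (key n h30)
    have h5 : 4 ^ (n - 1) ≤ (2 ^ v) ^ 2 * (2 ^ Nat.log 2 n) ^ 2 := by
      rw [show (4 : ℕ) = 2 ^ 2 by norm_num, ← pow_mul, ← pow_mul, ← pow_mul, ← pow_add]
      exact Nat.pow_le_pow_right two_pos (by omega)
    have h6 : (2 * p ^ k) ^ 2 ≤ (2 ^ v) ^ 2 := by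
      refine Nat.le_of_mul_le_mul_left ?_ (show 0 < (2 ^ Nat.log 2 n) ^ 2 by positivity)
      rw [mul_comm ((2 ^ Nat.log 2 n) ^ 2) ((2 ^ v) ^ 2)]
      refine le_trans ?_ (h4.trans h5)
      rw [mul_pow]
      nlinarith [Nat.mul_le_mul_left ((2 ^ Nat.log 2 n) ^ 2) hsq]
    have h7 := (Nat.pow_le_pow_iff_left two_ne_zero).mp h6
    rw [bd, ← hvdef]
    split_ifs <;> omega
  · by_cases hp5 : p ≤ n
    · have ek : k = ∑ i ∈ Finset.Ico 1 4, n / p ^ i :=
        padicValNat_factorial (Nat.log_lt_of_lt_pow hn0 (by nlinarith [Nat.pow_le_pow_left hp3 4]))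
      rw [bd_small (by omega), ek]
      have hpp := hp.out
      clear hsq hk ek hp hp2 h2' hkdef k
      interval_cases n <;>
        first
          | exact absurd (by decide) hn
          | (interval_cases p <;> first | exact absurd hpp (by decide) | decide)
    · have : k = 0 := padicValNat.eq_zero_of_not_dvd fun h => hp5 (hp.out.dvd_factorial.mp h)
      rw [this]
      have h2 : 2 ≤ n := by
        rcases n with _ | _ | n
        · simp at hn0
        · exact absurd (by decide) hn
        · omega
      have h2b : bd 2 = 4 := by rw [bd_small (by norm_num)]; decide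
      have := bd_mono h2
      simp only [pow_zero]; omega

/-- The bound used for the kernel on an exceptional orbit. -/
def cap (m : ℕ) : ℕ := if m = 6 then 24 else bd m

theorem exc_pair {a c : ℕ} (ha : a ∈ exc) (hc : c ∈ exc) (ha0 : 0 < a) (hc0 : 0 < c) (h : a + c ∉ exc) :
    min (cap a * bd c) (cap c * bd a) ≤ bd (a + c) := by
  have hlt : ∀ m ∈ exc, m < 16 := by decide
  have h1 := hlt a ha
  have h2 := hlt c hc
  unfold cap
  rw [bd_small (show a < 32 by omega), bd_small (show c < 32 by omega), bd_small (show a + c < 32 by omega)]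
  simp only [exc, List.mem_cons, List.not_mem_nil, or_false] at ha hc
  rcases ha with rfl | rfl | rfl | rfl | rfl | rfl <;> rcases hc with rfl | rfl | rfl | rfl | rfl | rfl <;>
    first | omega | exact absurd (by decide) h | decide

set_option maxHeartbeats 1000000 in
open Classical in
theorem alt_card_le (n : ℕ) : ∀ (α : Type) [Fintype α] [DecidableEq α] (_ : Fintype.card α = n) (N : Subgroup (Perm α)),
    Group.IsNilpotent N → N ≤ alternatingGroup α →
    (n ∉ exc → 4 * Nat.card N ≤ bd n) ∧ (n = 6 → Nat.card N ≤ 12) := by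
  induction n using Nat.strong_induction_on with
  | _ n ih =>
    intro α _ _ hα N hN hNA
    by_cases hsub : Subsingleton α
    · have hn1 : n ≤ 1 := hα ▸ Fintype.card_le_one_iff_subsingleton.mpr hsub
      refine ⟨fun h => absurd ?_ h, fun h => by omega⟩
      interval_cases n <;> decide
    rw [not_subsingleton_iff_nontrivial] at hsub
    have hA : 2 * Nat.card (alternatingGroup α) = n.factorial := by
      rw [Nat.card_eq_fintype_card, two_mul_card_alternatingGroup, Fintype.card_perm, hα]
    have hdvd : 2 * Nat.card N ∣ n.factorial := hA ▸ Nat.mul_dvd_mul_left 2 (Subgroup.card_dvd_of_le hNA)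
    have hS := card_le n α hα N hN
    have b := @bd_small
    have hb1 : bd 1 = 2 := by rw [b (by norm_num)]; decide
    have hb2 : bd 2 = 4 := by rw [b (by norm_num)]; decide
    have hb3 : bd 3 = 6 := by rw [b (by norm_num)]; decide
    have hb4 : bd 4 = 16 := by rw [b (by norm_num)]; decide
    have hb5 : bd 5 = 16 := by rw [b (by norm_num)]; decide
    have hb6 : bd 6 = 32 := by rw [b (by norm_num)]; decide
    have hb9 : bd 9 = 256 := by rw [b (by norm_num)]; decide
    by_cases htr : IsPretransitive N α
    · by_cases hp : ∃ p : ℕ, p.Prime ∧ IsPGroup p N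
      · obtain ⟨p, hp, hpN⟩ := hp
        have : Fact p.Prime := ⟨hp⟩
        obtain ⟨k, hk⟩ := hpN.exists_card_eq
        refine ⟨fun hn => ?_, fun h6 => ?_⟩
        · by_cases hp2 : p = 2
          · subst hp2
            rw [hk, ← pow_succ'] at hdvd
            have hle := (padicValNat_dvd_iff_le n.factorial_ne_zero).mp hdvd
            have := Nat.pow_le_pow_right two_pos hle
            rw [hk, bd]
            rw [pow_succ] at this
            split_ifs <;> omega
          · have hle := (padicValNat_dvd_iff_le n.factorial_ne_zero).mp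
              (show p ^ k ∣ n.factorial from hk ▸ dvd_trans (dvd_mul_left _ 2) hdvd)
            have := Nat.pow_le_pow_right hp.pos hle
            have := bd_prime_four p n hp2 hn
            rw [hk]; omega
        · subst h6
          rw [hb6] at hS
          by_contra hlt
          have h720 : (6 : ℕ).factorial = 720 := rfl
          rw [h720] at hdvd
          have hp' : p ∣ 720 := by
            refine dvd_trans ?_ hdvd
            rw [hk]
            exact dvd_mul_of_dvd_right (dvd_pow_self p fun e => by rw [e, pow_zero] at hk; omega) 2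
          generalize hM : Nat.card N = M at *
          have hple : p ≤ 720 := Nat.le_of_dvd (by norm_num) hp'
          have hM15 : M = 15 := by
            have : M ≤ 16 := by omega
            interval_cases M <;> first | omega | norm_num at hdvd ⊢
          subst hM15
          rcases k with _ | _ | k
          · norm_num at hk
          · rw [pow_one] at hk; subst hk; norm_num at hp
          · have h4 : p * p ∣ 15 := hk ▸ ⟨p ^ k, by ring⟩
            have : p ≤ 3 := by nlinarith [Nat.le_of_dvd (by norm_num) h4]
            have := hp.two_le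
            interval_cases p <;> norm_num at h4
      · push Not at hp
        obtain ⟨c, d, hc2, hd2, hco, hcd, h5⟩ := split_of_transitive hα N hN hp
          (fun H hH s hs _ => by
            refine card_le _ s (by rw [← Nat.card_eq_fintype_card, Nat.card_coe_set_eq]) _ ?_
            have : Group.IsNilpotent (H.subgroupOf N) := Subgroup.isNilpotent (H.subgroupOf N)
            have : Group.IsNilpotent H := Group.nilpotent_of_mulEquiv (Subgroup.subgroupOfEquivOfLe hH)
            exact Group.nilpotent_of_surjective _ (restrict H s hs).rangeRestrict_surjective)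
        have hne : c ≠ d := fun e => by subst e; rw [Nat.coprime_self] at hco; omega
        refine ⟨fun hn => ?_, fun h6 => ?_⟩
        · have hn6 : n ≠ 6 := fun e => hn (by subst e; decide)
          have hsum : c + d + 2 ≤ n := by
            by_contra hcon
            have hc' : c ≤ 3 ∨ d ≤ 3 := by
              by_contra h'; push Not at h'; nlinarith
            rcases hc' with h' | h' <;> [skip; skip]
            · interval_cases c <;> omega
            · interval_cases d <;> omega
          have h1 := bd_add c d
          have h2 := bd_add (c + d) 2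
          have h3 := bd_mono hsum
          rw [hb2] at h2
          omega
        · have : c ≤ 3 := by nlinarith
          have : d ≤ 3 := by nlinarith
          interval_cases c <;> interval_cases d <;>
            first | exact absurd rfl hne | (simp only [hb2, hb3] at h5; omega) | omega
    · obtain ⟨x, hx⟩ : ∃ x : α, orbit N x ≠ Set.univ := by
        by_contra hcon
        push Not at hcon
        exact htr ⟨fun a b => by rw [← mem_orbit_iff, hcon a]; trivial⟩
      set O : Set α := orbit N x
      have hinv : ∀ g ∈ N, ∀ y, g y ∈ O ↔ y ∈ O := by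
        intro g hg y
        show (⟨g, hg⟩ : N) • y ∈ O ↔ _
        rw [← orbit_eq_iff, orbit_smul, orbit_eq_iff]
      have hinv' : ∀ g ∈ N, ∀ y, g y ∈ Oᶜ ↔ y ∈ Oᶜ := fun g hg y => not_congr (hinv g hg y)
      have hsum : O.ncard + Oᶜ.ncard = n := by
        rw [Set.ncard_add_ncard_compl, Nat.card_eq_fintype_card, hα]
      have h1p : 0 < O.ncard := (Set.ncard_pos (Set.toFinite O)).mpr ⟨x, mem_orbit_self x⟩
      have h2p : 0 < Oᶜ.ncard := (Set.ncard_pos (Set.toFinite _)).mpr (Set.nonempty_compl.mpr hx)
      -- one side: kernel on the complement, image on it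
      have side : ∀ (s : Set α) (hs : ∀ g ∈ N, ∀ y, g y ∈ s ↔ y ∈ s) (hs' : ∀ g ∈ N, ∀ y, g y ∈ sᶜ ↔ y ∈ sᶜ),
          s.ncard < n → sᶜ.ncard < n →
          ∃ K S, Nat.card N = K * S ∧ 2 * S ≤ bd sᶜ.ncard ∧ 2 * K ≤ bd s.ncard ∧
            (s.ncard ∉ exc → 4 * K ≤ bd s.ncard) ∧ (s.ncard = 6 → K ≤ 12) := by
        intro s hs hs' hlt hlt'
        let r := restrict N sᶜ hs'
        refine ⟨Nat.card r.ker, Nat.card r.range, ?_, ?_, ?_⟩
        · rw [← Subgroup.index_ker, Subgroup.card_mul_index]
        · refine card_le _ _ (by rw [← Nat.card_eq_fintype_card, Nat.card_coe_set_eq]) _ ?_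
          exact Group.nilpotent_of_surjective _ r.rangeRestrict_surjective
        let f : r.ker →* Perm s := (restrict N s hs).comp r.ker.subtype
        have hfix : ∀ g : r.ker, ∀ y, y ∉ s → ((g : N) : Perm α) y = y :=
          fun g y hy => restrict_eq_one g.2 (show y ∈ sᶜ from hy)
        have hinj : Function.Injective f := by
          rw [injective_iff_map_eq_one]
          intro g hg
          apply Subtype.ext; apply Subtype.ext
          ext y
          by_cases hy : y ∈ s
          · exact restrict_eq_one (hs := hs) hg hy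
          · exact hfix g y hy
        have heven : f.range ≤ alternatingGroup s := by
          rintro _ ⟨g, rfl⟩
          rw [Perm.mem_alternatingGroup]
          show Perm.sign (((g : N) : Perm α).subtypePerm (hs _ g.1.2)) = 1
          rw [Perm.sign_subtypePerm _ _ fun y hy => by_contra fun h => hy (hfix g y h)]
          exact hNA g.1.2
        have hnil : Group.IsNilpotent f.range := by
          have : Group.IsNilpotent r.ker := Subgroup.isNilpotent _
          exact Group.nilpotent_of_surjective _ f.rangeRestrict_surjective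
        rw [Nat.card_congr (MonoidHom.ofInjective hinj).toEquiv]
        have hcs : Fintype.card s = s.ncard := by rw [← Nat.card_eq_fintype_card, Nat.card_coe_set_eq]
        exact ⟨card_le _ s hcs _ hnil, ih _ hlt s hcs _ hnil heven⟩
      obtain ⟨K1, S1, e1, hS1, hK1, hK1a, hK1b⟩ := side O hinv hinv' (by omega) (by omega)
      obtain ⟨K2, S2, e2, hS2, hK2, hK2a, hK2b⟩ := side Oᶜ hinv' (by simpa using hinv) (by omega)
        (by rw [compl_compl]; omega)
      rw [compl_compl] at hS2
      set a := O.ncard
      set c := Oᶜ.ncard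
      have hA := Nat.mul_le_mul hK1 hS1
      have hB := Nat.mul_le_mul hK2 hS2
      have h4 := bd_add a c
      rw [hsum] at h4
      refine ⟨fun hn => ?_, fun h6 => ?_⟩
      · by_cases ha : a ∈ exc
        · by_cases hc : c ∈ exc
          · have hcap : ∀ K m, 2 * K ≤ bd m → (m = 6 → K ≤ 12) → 2 * K ≤ cap m := fun K m h1 h2 => by
              unfold cap; split_ifs with h
              · have := h2 h; omega
              · exact h1
            have hpair := exc_pair ha hc h1p h2p (hsum.symm ▸ hn)
            rw [hsum] at hpair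
            rcases min_le_iff.mp hpair with hh | hh
            · rw [e1]
              calc 4 * (K1 * S1) = 2 * K1 * (2 * S1) := by ring
                _ ≤ _ := (Nat.mul_le_mul (hcap _ _ hK1 hK1b) hS1).trans hh
            · rw [e2]
              calc 4 * (K2 * S2) = 2 * K2 * (2 * S2) := by ring
                _ ≤ _ := (Nat.mul_le_mul (hcap _ _ hK2 hK2b) hS2).trans hh
          · have h8 : 8 * (K2 * S2) ≤ 2 * bd n := by
              calc 8 * (K2 * S2) = 4 * K2 * (2 * S2) := by ring
                _ ≤ _ := (Nat.mul_le_mul (hK2a hc) hS2).trans (le_trans (by simp [mul_comm]) h4)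
            nlinarith
        · have h8 : 8 * (K1 * S1) ≤ 2 * bd n := by
              calc 8 * (K1 * S1) = 4 * K1 * (2 * S1) := by ring
                _ ≤ _ := (Nat.mul_le_mul (hK1a ha) hS1).trans (le_trans (by simp [mul_comm]) h4)
          nlinarith
      · subst h6
        obtain ⟨ha1, ha5⟩ : 1 ≤ a ∧ a ≤ 5 := ⟨h1p, by omega⟩
        obtain ⟨hc1, hc5⟩ : 1 ≤ c ∧ c ≤ 5 := ⟨h2p, by omega⟩
        have h246 : ¬ (2 : ℕ) ∈ exc ∧ ¬ (4 : ℕ) ∈ exc := by decide
        interval_cases a <;> interval_cases c <;>
          first
            | omega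
            | (simp only [hb1, hb3, hb5] at hA; linarith)
            | (have h8 := Nat.mul_le_mul (hK1a h246.1) hS1; simp only [hb2, hb4] at h8; linarith)
            | (have h8 := Nat.mul_le_mul (hK1a h246.2) hS1; simp only [hb2, hb4] at h8; linarith)

end Cfsg.Agent.NilPerm
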