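import Cfsg.Agent.Lib.Perm.Sharp
import Cfsg.Agent.Lib.Perm.Multiple
import Cfsg.Agent.S0696
import Mathlib.GroupTheory.GroupAction.MultiplePrimitivity
import Mathlib.Data.Fintype.CardEmbedding

/-!
Normal subgroups of multiply primitive groups.
-/

set_option autoImplicit false
set_option linter.style.haveILetI false
set_option linter.unusedSectionVars false

namespace Cfsg.Agent.PermNormal

open MulAction SubMulAction

universe u v

variable {G : Type u} [Group G] {X : Type v} [MulAction G X]

theorem faithful_ofStabilizer [FaithfulSMul G X] (a : X) :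
    FaithfulSMul (stabilizer G a) (ofStabilizer G a) := ⟨fun {g h} hgh => by
  refine Subtype.ext (FaithfulSMul.eq_of_smul_eq_smul fun x : X => ?_)
  by_cases hx : x = a
  · subst hx
    exact g.2.trans h.2.symm
  · exact congrArg Subtype.val (hgh ⟨x, (mem_ofStabilizer_iff G a).2 hx⟩)⟩

theorem card_ofStabilizer [Finite X] (a : X) :
    Nat.card (ofStabilizer G a) = Nat.card X - 1 := by
  classical
  haveI := Fintype.ofFinite X
  rw [Nat.card_congr (Equiv.subtypeEquivRight fun x => mem_ofStabilizer_iff G a (x := x)),
    Nat.card_eq_fintype_card, Fintype.card_subtype_compl, Fintype.card_subtype_eq,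
    Nat.card_eq_fintype_card]

theorem card_stabilizer_mul [IsPretransitive G X] (a : X) :
    Nat.card X * Nat.card (stabilizer G a) = Nat.card G := by
  rw [← index_stabilizer_of_transitive G a, Subgroup.index_mul_card]

theorem transitive_of_normal [FaithfulSMul G X] (h : IsPreprimitive G X) (H : Subgroup G) [H.Normal]
    (hH : H ≠ ⊥) : IsPretransitive H X := by
  refine IsQuasiPreprimitive.isPretransitive_of_normal (G := G) fun hfix => hH ?_
  rw [Subgroup.eq_bot_iff_forall]
  intro g hg
  refine FaithfulSMul.eq_of_smul_eq_smul fun x : X => ?_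
  rw [one_smul]
  exact (Set.eq_univ_iff_forall.1 hfix x) ⟨g, hg⟩

/-- Transitivity of the point stabiliser inside `H` lifts. -/
theorem lift_transitive (H : Subgroup G) [IsPretransitive H X] (a : X) {k : ℕ}
    (h : IsMultiplyPretransitive (H.subgroupOf (stabilizer G a)) (ofStabilizer G a) k) :
    IsMultiplyPretransitive H X (k + 1) := by
  refine (SubMulAction.ofStabilizer.isMultiplyPretransitive (G := H) (a := a)).2 ?_
  let φ : H.subgroupOf (stabilizer G a) → stabilizer H a := fun g => ⟨⟨(g : stabilizer G a), g.2⟩, g.1.2⟩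
  let f : ofStabilizer G a →ₑ[φ] ofStabilizer H a :=
    { toFun := fun x => ⟨x.1, (mem_ofStabilizer_iff H a).2 ((mem_ofStabilizer_iff G a).1 x.2)⟩
      map_smul' := fun g x => rfl }
  exact IsPretransitive.of_embedding (f := f)
    fun x => ⟨⟨x.1, (mem_ofStabilizer_iff G a).2 ((mem_ofStabilizer_iff H a).1 x.2)⟩, rfl⟩

theorem stabilizer_ne_bot_of_transitive (H : Subgroup G) [IsPretransitive H X]
    (h : ∃ b : X, stabilizer H b ≠ ⊥) (a : X) : H.subgroupOf (stabilizer G a) ≠ ⊥ := by
  obtain ⟨b, hb⟩ := h
  intro hbot
  apply hb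
  rw [Subgroup.eq_bot_iff_forall]
  intro g hg
  obtain ⟨t, ht⟩ := exists_smul_eq H b a
  have hmem : ((t * g * t⁻¹ : H) : G) ∈ stabilizer G a := by
    show (t * g * t⁻¹ : H) • a = a
    rw [mul_smul, mul_smul, ← ht, inv_smul_smul, show g • b = b from hg]
  have : (⟨((t * g * t⁻¹ : H) : G), hmem⟩ : stabilizer G a) ∈ H.subgroupOf (stabilizer G a) :=
    (t * g * t⁻¹).2
  rw [hbot, Subgroup.mem_bot] at this
  have h1 : t * g * t⁻¹ = 1 := Subtype.ext (congrArg Subtype.val this :)
  simpa using h1

/-- A non-trivial non-regular normal subgroup of a `k`-primitive group, not the symmetric group, is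
`k`-transitive. -/
theorem multiplyPretransitive_of_normal : ∀ (k : ℕ) (G : Type u) [Group G] [Finite G] (X : Type v)
    [MulAction G X] [Finite X] [FaithfulSMul G X], 1 ≤ k → k ≤ Nat.card X →
    IsMultiplyPreprimitive G X k → (Nat.card G < (Nat.card X).factorial ∨ k + 2 ≤ Nat.card X) →
    ∀ H : Subgroup G, H.Normal → H ≠ ⊥ → (∃ a : X, stabilizer H a ≠ ⊥) →
      IsMultiplyPretransitive H X k := by
  intro k
  induction k with
  | zero => intro G _ _ X _ _ _ h; omega
  | succ k ih =>
    intro G _ _ X _ _ _ _ hkn hG hsmall H hHn hH hnr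
    haveI := hHn
    have hE : ∀ j ≤ Nat.card X, (j : ℕ∞) ≤ ENat.card X := fun j hj => by
      haveI := Fintype.ofFinite X
      rw [ENat.card_eq_coe_fintype_card, ← Nat.card_eq_fintype_card]
      exact_mod_cast hj
    have hprim : IsPreprimitive G X :=
      (is_one_preprimitive_iff _ _).1 (isMultiplyPreprimitive_of_le _ _ hG (by omega) (hE _ hkn))
    haveI := hprim
    haveI := transitive_of_normal hprim H hH
    rcases Nat.eq_zero_or_pos k with rfl | hk
    · exact is_one_pretransitive_iff.2 inferInstance
    obtain ⟨a⟩ : Nonempty X := (Nat.card_pos_iff.1 (by omega)).1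
    haveI := faithful_ofStabilizer (G := G) a
    haveI := hG
    have hGa : IsMultiplyPreprimitive (stabilizer G a) (ofStabilizer G a) k :=
      isMultiplyPreprimitive_ofStabilizer G X
    have hHa := stabilizer_ne_bot_of_transitive H hnr a
    refine lift_transitive H a ?_
    have hcard := card_ofStabilizer (G := G) a
    by_cases hreg : ∃ x : ofStabilizer G a, stabilizer (H.subgroupOf (stabilizer G a)) x ≠ ⊥
    · refine ih (stabilizer G a) (ofStabilizer G a) hk (by omega) hGa ?_ _ inferInstance hHa hreg
      rw [hcard]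
      refine hsmall.imp (fun hs => ?_) (fun hs => by omega)
      have h1 := card_stabilizer_mul (G := G) a
      rw [← h1, ← Nat.mul_factorial_pred (n := Nat.card X) (by omega)] at hs
      exact Nat.lt_of_mul_lt_mul_left hs
    · have hprimA : IsPreprimitive (stabilizer G a) (ofStabilizer G a) := by
        refine (is_one_preprimitive_iff _ _).1 (isMultiplyPreprimitive_of_le _ _ hGa hk ?_)
        haveI := Fintype.ofFinite (ofStabilizer G a)
        rw [ENat.card_eq_coe_fintype_card, ← Nat.card_eq_fintype_card, hcard]
        exact_mod_cast (show k ≤ Nat.card X - 1 by omega)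
      haveI := transitive_of_normal hprimA (H.subgroupOf (stabilizer G a)) hHa
      rcases Nat.lt_or_ge k 2 with hk1 | hk2
      · obtain rfl : k = 1 := by omega
        exact is_one_pretransitive_iff.2 inferInstance
      exfalso
      push Not at hreg
      have h2 : IsMultiplyPretransitive H X 2 :=
        lift_transitive H a (k := 1) (is_one_pretransitive_iff.2 inferInstance)
      have hsharp : ∀ (g : H) (u v : X), u ≠ v → g • u = u → g • v = v → g = 1 := by
        intro g u v huv hu hv
        obtain ⟨t, ht⟩ := exists_smul_eq H u a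
        have hga : (t * g * t⁻¹) • a = a := by
          rw [mul_smul, mul_smul, ← ht, inv_smul_smul, hu]
        have hva : (t • v : X) ≠ a := fun h => huv (MulAction.injective t (ht.trans h.symm))
        have hgv : (t * g * t⁻¹) • (t • v) = t • v := by
          rw [mul_smul, mul_smul, inv_smul_smul, hv]
        let y : H.subgroupOf (stabilizer G a) :=
          ⟨⟨((t * g * t⁻¹ : H) : G), hga⟩, (t * g * t⁻¹).2⟩
        have hy : y ∈ stabilizer (H.subgroupOf (stabilizer G a))
            (⟨t • v, (mem_ofStabilizer_iff G a).2 hva⟩ : ofStabilizer G a) := Subtype.ext hgv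
        rw [hreg, Subgroup.mem_bot] at hy
        have h1 : t * g * t⁻¹ = 1 := Subtype.ext (congrArg (fun z : H.subgroupOf (stabilizer G a) =>
          ((z : stabilizer G a) : G)) hy)
        simpa using h1
      obtain ⟨p, j, N, -, -, -, hN, -, -, -, -, hmem, huniq⟩ :=
        PermSharp.exists_regular_normal h2 (by omega) hsharp
      haveI := Fintype.ofFinite X
      haveI hN' : (N.map H.subtype).Normal := ⟨by
        rintro _ ⟨c, hc, rfl⟩ g
        refine ⟨⟨g * (c : G) * g⁻¹, hHn.conj_mem _ c.2 g⟩, ?_, rfl⟩
        rcases (hmem c).1 hc with rfl | h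
        · exact (hmem _).2 (Or.inl (Subtype.ext (by simp)))
        · refine (hmem _).2 (Or.inr fun x hx => h (g⁻¹ • x) ?_)
          have hx' : (g * (c : G) * g⁻¹) • x = x := hx
          rw [mul_smul, mul_smul] at hx'
          exact eq_inv_smul_iff.2 hx'⟩
      have htrans : IsPretransitive (N.map H.subtype) X := ⟨fun x y => by
        obtain ⟨g, ⟨hg, hgy⟩, -⟩ := huniq x y
        exact ⟨⟨(g : G), g, hg, rfl⟩, hgy⟩⟩
      have hregN : ∀ x : X, stabilizer (N.map H.subtype) x = ⊥ := by
        intro x
        rw [Subgroup.eq_bot_iff_forall]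
        rintro ⟨_, c, hc, rfl⟩ hcx
        obtain ⟨w, -, hw⟩ := huniq x x
        refine Subtype.ext ?_
        show (c : G) = 1
        rw [(hw c ⟨hc, hcx⟩).trans (hw 1 ⟨N.one_mem, one_smul H x⟩).symm]
        rfl
      have hn34 := Cfsg.Agent.S0696.result (by rw [← Nat.card_eq_fintype_card]; omega)
        (isMultiplyPreprimitive_of_le _ _ hG (by omega) (hE _ hkn)) (N.map H.subtype) htrans hregN
      rw [← Nat.card_eq_fintype_card] at hn34
      haveI : IsMultiplyPretransitive G X 3 :=
        (isMultiplyPreprimitive_of_le _ _ hG (show 3 ≤ k + 1 by omega) (hE _ hkn)).isMultiplyPretransitive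
      obtain ⟨x₀⟩ : Nonempty (Fin 3 ↪ X) :=
        Function.Embedding.nonempty_of_card_le (by
          rw [Fintype.card_fin, ← Nat.card_eq_fintype_card]; omega)
      have hsurj : Function.Surjective fun g : G => g • x₀ := fun y => exists_smul_eq G x₀ y
      have hle := Nat.card_le_card_of_surjective _ hsurj
      rw [Nat.card_eq_fintype_card (α := Fin 3 ↪ X), Fintype.card_embedding_eq, Fintype.card_fin,
        ← Nat.card_eq_fintype_card] at hle
      rcases hsmall with hs | hs
      · rcases hn34 with h | h <;> rw [h] at hle hs <;>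
          simp [Nat.descFactorial, Nat.factorial] at hle hs <;> omega
      · omega

end Cfsg.Agent.PermNormal
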