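import Cfsg.Agent.Lib.Perm.Modules
import Mathlib.GroupTheory.Solvable
import Mathlib.GroupTheory.GroupAction.Period
import Mathlib.FieldTheory.Finite.Basic
import Mathlib.RingTheory.Polynomial.Basic
import Mathlib.Algebra.Polynomial.Roots
import Mathlib.LinearAlgebra.Lagrange
import Mathlib.Tactic.LinearCombination
import Mathlib.Tactic.IntervalCases

/-!
Translation invariant spaces of functions on `ZMod p`, and transitive groups of prime degree.
-/

set_option autoImplicit false
set_option linter.style.haveILetI false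

namespace Cfsg.Agent.PermPrime

open Polynomial MulAction
open Cfsg.Agent.PermModules

theorem affine_two : ∀ π : Equiv.Perm (ZMod 2), ∃ k m : ZMod 2, ∀ j, π j = k * j + m := by decide

theorem affine_three : ∀ π : Equiv.Perm (ZMod 3), ∃ k m : ZMod 3, ∀ j, π j = k * j + m := by decide

variable {p : ℕ} [Fact p.Prime] {K : Type*} [Field K] [CharP K p]

variable (K) in
/-- The inclusion of the prime field. -/
noncomputable def primeCast : ZMod p →+* K := ZMod.castHom (dvd_refl p) K

theorem primeCast_injective : Function.Injective (primeCast (p := p) K) :=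
  (primeCast K).injective

variable (p K) in
/-- Polynomials as functions on the prime field. -/
noncomputable def evalFun : K[X] →ₗ[K] (ZMod p → K) :=
  LinearMap.pi fun j => Polynomial.leval (primeCast K j)

@[simp] theorem evalFun_apply (P : K[X]) (j : ZMod p) :
    evalFun p K P j = P.eval (primeCast K j) := rfl

variable (p K) in
/-- Polynomial functions of degree less than `r`. -/
noncomputable def polySub (r : ℕ) : Submodule K (ZMod p → K) :=
  (Polynomial.degreeLT K r).map (evalFun p K)

theorem mem_polySub {r : ℕ} {f : ZMod p → K} :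
    f ∈ polySub p K r ↔ ∃ P : K[X], P.degree < r ∧ ∀ j, f j = P.eval (primeCast K j) := by
  rw [polySub, Submodule.mem_map]
  simp only [Polynomial.mem_degreeLT]
  constructor
  · rintro ⟨P, hP, rfl⟩; exact ⟨P, hP, fun j => rfl⟩
  · rintro ⟨P, hP, h⟩; exact ⟨P, hP, funext fun j => (h j).symm⟩

theorem evalFun_inj {P Q : K[X]} (hP : P.degree < p) (hQ : Q.degree < p)
    (h : evalFun p K P = evalFun p K Q) : P = Q := by
  classical
  refine Polynomial.eq_of_degrees_lt_of_eval_index_eq (Finset.univ : Finset (ZMod p))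
    (primeCast_injective.injOn) ?_ ?_ (fun j _ => congrFun h j)
  · simpa [ZMod.card] using hP
  · simpa [ZMod.card] using hQ

theorem polySub_mono {r s : ℕ} (h : r ≤ s) : polySub p K r ≤ polySub p K s :=
  Submodule.map_mono (Polynomial.degreeLT_mono h)

theorem finrank_polySub {r : ℕ} (hr : r ≤ p) : Module.finrank K (polySub p K r) = r := by
  have hinj : Function.Injective ((evalFun p K).domRestrict (Polynomial.degreeLT K r)) := by
    intro P Q h
    refine Subtype.ext (evalFun_inj ?_ ?_ h)
    · exact lt_of_lt_of_le (Polynomial.mem_degreeLT.1 P.2) (by exact_mod_cast hr)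
    · exact lt_of_lt_of_le (Polynomial.mem_degreeLT.1 Q.2) (by exact_mod_cast hr)
  have h1 := LinearMap.finrank_range_of_inj hinj
  rw [LinearMap.range_domRestrict] at h1
  rw [polySub, h1, (Polynomial.degreeLTEquiv K r).finrank_eq, Module.finrank_fin_fun]

theorem polySub_self : polySub p K p = ⊤ :=
  Submodule.eq_top_of_finrank_eq (by rw [finrank_polySub le_rfl, Module.finrank_pi, ZMod.card])

theorem pow_mem_polySub {i r : ℕ} (h : i < r) :
    (fun j : ZMod p => primeCast K j ^ i) ∈ polySub p K r :=
  mem_polySub.2 ⟨X ^ i, by rw [degree_X_pow]; exact_mod_cast h, fun j => by simp⟩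

variable (p K) in
/-- The difference operator. -/
noncomputable def diffOp : (ZMod p → K) →ₗ[K] (ZMod p → K) :=
  LinearMap.pi fun j => LinearMap.proj (R := K) (φ := fun _ : ZMod p => K) j -
    LinearMap.proj (R := K) (φ := fun _ : ZMod p => K) (j - 1)

@[simp] theorem diffOp_apply (f : ZMod p → K) (j : ZMod p) : diffOp p K f j = f j - f (j - 1) := rfl

theorem diffOp_eq_zero {f : ZMod p → K} (h : diffOp p K f = 0) (j : ZMod p) : f j = f 0 := by
  have key : ∀ n : ℕ, f (n : ZMod p) = f 0 := by
    intro n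
    induction n with
    | zero => simp
    | succ n ih =>
      have := congrFun h ((n + 1 : ℕ) : ZMod p)
      rw [diffOp_apply, Pi.zero_apply, sub_eq_zero] at this
      rw [this, Nat.cast_succ, add_sub_cancel_right, ih]
  have := key j.val
  rwa [ZMod.natCast_zmod_val] at this

theorem diffOp_polySub {r : ℕ} {f : ZMod p → K} (hf : f ∈ polySub p K (r + 1)) :
    diffOp p K f ∈ polySub p K r := by
  obtain ⟨P, hP, h⟩ := mem_polySub.1 hf
  refine mem_polySub.2 ⟨P - P.comp (X - C 1), ?_, fun j => ?_⟩
  · rcases eq_or_ne P 0 with rfl | hP0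
    · simp
    have hne : P.comp (X - C 1) ≠ 0 := by
      intro e
      have h1 := congrArg leadingCoeff e
      rw [leadingCoeff_comp (by rw [natDegree_X_sub_C]; exact one_ne_zero), leadingCoeff_X_sub_C,
        one_pow, mul_one, leadingCoeff_zero] at h1
      exact leadingCoeff_ne_zero.2 hP0 h1
    have hdeg : P.degree = (P.comp (X - C 1)).degree := by
      rw [degree_eq_natDegree hP0, degree_eq_natDegree hne, natDegree_comp, natDegree_X_sub_C,
        mul_one]
    have h2 := degree_sub_lt hdeg hP0 (by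
      rw [leadingCoeff_comp (by rw [natDegree_X_sub_C]; exact one_ne_zero), leadingCoeff_X_sub_C,
        one_pow, mul_one])
    rw [degree_eq_natDegree hP0, Nat.cast_lt] at hP
    refine lt_of_lt_of_le h2 ?_
    rw [degree_eq_natDegree hP0]
    exact_mod_cast (by omega : P.natDegree ≤ r)
  · rw [diffOp_apply, h, h, eval_sub, eval_comp, eval_sub, eval_X, eval_C, map_sub, map_one]

theorem mem_of_diffOp_mem {r : ℕ} (hr : r < p) {f : ZMod p → K}
    (hf : diffOp p K f ∈ polySub p K r) : f ∈ polySub p K (r + 1) := by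
  let D := (diffOp p K).domRestrict (polySub p K (r + 1))
  have hle : LinearMap.range D ≤ polySub p K r := by
    rintro _ ⟨g, rfl⟩
    exact diffOp_polySub g.2
  have hker : Module.finrank K (LinearMap.ker D) ≤ 1 := by
    let ev : LinearMap.ker D →ₗ[K] K :=
      (LinearMap.proj 0).comp ((polySub p K (r + 1)).subtype.comp (LinearMap.ker D).subtype)
    have hev : Function.Injective ev := by
      intro u v huv
      apply Subtype.ext; apply Subtype.ext
      funext j
      have hu : diffOp p K (u.1.1) = 0 := LinearMap.mem_ker.1 u.2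
      have hv : diffOp p K (v.1.1) = 0 := LinearMap.mem_ker.1 v.2
      rw [diffOp_eq_zero hu j, diffOp_eq_zero hv j]
      exact huv
    simpa using LinearMap.finrank_le_finrank_of_injective hev
  have hsum := LinearMap.finrank_range_add_finrank_ker D
  rw [finrank_polySub (Nat.succ_le_of_lt hr)] at hsum
  have heq : LinearMap.range D = polySub p K r := by
    refine Submodule.eq_of_le_of_finrank_le hle ?_
    rw [finrank_polySub hr.le]
    omega
  rw [← heq] at hf
  obtain ⟨g, hg⟩ := hf
  have hd : diffOp p K (f - (g : ZMod p → K)) = 0 := by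
    have hg' : diffOp p K (g : ZMod p → K) = diffOp p K f := hg
    rw [map_sub, hg', sub_self]
  have hconst : f - (g : ZMod p → K) ∈ polySub p K (r + 1) := by
    refine mem_polySub.2 ⟨C ((f - (g : ZMod p → K)) 0), ?_, fun j => ?_⟩
    · exact lt_of_le_of_lt degree_C_le (by exact_mod_cast Nat.succ_pos r)
    · rw [eval_C, diffOp_eq_zero hd j]
  simpa using (polySub p K (r + 1)).add_mem hconst g.2

/-- Translation-invariant spaces of functions on `ZMod p`. -/
theorem shift_invariant_eq_polySub (W : Submodule K (ZMod p → K))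
    (hW : ∀ f ∈ W, (fun j => f (j - 1)) ∈ W) : ∃ r ≤ p, W = polySub p K r := by
  suffices h : ∀ k ≤ p, ∀ W : Submodule K (ZMod p → K), (∀ f ∈ W, diffOp p K f ∈ W) →
      W ≤ polySub p K k → ∃ r ≤ k, W = polySub p K r by
    exact h p le_rfl W (fun f hf => by
      have e : diffOp p K f = f - fun j => f (j - 1) := funext fun j => by simp
      rw [e]; exact W.sub_mem hf (hW f hf)) (by rw [polySub_self]; exact le_top)
  intro k
  induction k with
  | zero =>
    intro _ W _ hle
    refine ⟨0, le_rfl, le_antisymm hle ?_⟩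
    intro f hf
    obtain ⟨P, hP, h⟩ := mem_polySub.1 hf
    have hP0 : P = 0 := by simpa [Nat.WithBot.lt_zero_iff] using hP
    have : f = 0 := funext fun j => by rw [h, hP0]; simp
    rw [this]
    exact W.zero_mem
  | succ k ih =>
    intro hk W hΔ hle
    by_cases hc : W ≤ polySub p K k
    · obtain ⟨r, hr, e⟩ := ih (by omega) W hΔ hc
      exact ⟨r, by omega, e⟩
    refine ⟨k + 1, le_rfl, ?_⟩
    obtain ⟨w, hw, hwk⟩ := SetLike.not_le_iff_exists.1 hc
    have hΔ' : ∀ f ∈ W ⊓ polySub p K k, diffOp p K f ∈ W ⊓ polySub p K k := fun f hf =>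
      ⟨hΔ f hf.1, diffOp_polySub (polySub_mono (Nat.le_succ k) hf.2)⟩
    obtain ⟨r, hr, e⟩ := ih (by omega) _ hΔ' inf_le_right
    have hw' : diffOp p K w ∈ polySub p K r := e ▸ ⟨hΔ w hw, diffOp_polySub (hle hw)⟩
    have hrk : r = k := by
      by_contra hne
      exact hwk (polySub_mono (by omega) (mem_of_diffOp_mem (by omega) hw'))
    subst hrk
    refine Submodule.eq_of_le_of_finrank_le hle ?_
    rw [finrank_polySub hk]
    have hlt : polySub p K r < W :=
      SetLike.lt_iff_le_and_exists.2 ⟨e ▸ inf_le_left, w, hw, hwk⟩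
    have := Submodule.finrank_lt_finrank_of_lt hlt
    rw [finrank_polySub (by omega)] at this
    omega

theorem sum_primeCast_pow {m : ℕ} (hm : m < p - 1) :
    ∑ j : ZMod p, primeCast K j ^ m = 0 := by
  have h := FiniteField.sum_pow_lt_card_sub_one (ZMod p) m (by rwa [ZMod.card])
  simp [← map_pow, ← map_sum, h]

theorem sum_primeCast_pow_top : ∑ j : ZMod p, primeCast K j ^ (p - 1) = -1 := by
  classical
  have h2 : 2 ≤ p := (Fact.out : p.Prime).two_le
  have : ∀ j : ZMod p, j ^ (p - 1) = if j = 0 then 0 else 1 := by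
    intro j
    split_ifs with h
    · subst h; exact zero_pow (by omega)
    · exact ZMod.pow_card_sub_one_eq_one h
  have hs : ∑ j : ZMod p, j ^ (p - 1) = -1 := by
    rw [Finset.sum_congr rfl (fun j _ => this j), Finset.sum_ite]
    simp [Finset.filter_ne', ZMod.card, Nat.cast_sub (by omega : 1 ≤ p)]
  simp [← map_pow, ← map_sum, hs]

theorem sum_mul_eq_zero {r s : ℕ} (h : r + s ≤ p) {f g : ZMod p → K}
    (hf : f ∈ polySub p K r) (hg : g ∈ polySub p K s) : ∑ j, f j * g j = 0 := by
  obtain ⟨P, hP, hf'⟩ := mem_polySub.1 hf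
  obtain ⟨Q, hQ, hg'⟩ := mem_polySub.1 hg
  have key : ∀ j : ZMod p, f j * g j = (P * Q).eval (primeCast K j) := by
    intro j; rw [eval_mul, hf', hg']
  rw [Finset.sum_congr rfl (fun j _ => key j)]
  rcases eq_or_ne (P * Q) 0 with e | e
  · simp [e]
  have hP0 := left_ne_zero_of_mul e
  have hQ0 := right_ne_zero_of_mul e
  rw [degree_eq_natDegree hP0, Nat.cast_lt] at hP
  rw [degree_eq_natDegree hQ0, Nat.cast_lt] at hQ
  simp only [eval_eq_sum_range]
  rw [Finset.sum_comm]
  refine Finset.sum_eq_zero fun m hm => ?_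
  rw [← Finset.mul_sum, sum_primeCast_pow, mul_zero]
  rw [Finset.mem_range] at hm
  have := natDegree_mul_le (p := P) (q := Q)
  omega

/-- A permutation preserving the polynomial functions of degree `< r` is affine. -/
theorem affine_of_preserves_le_half {r : ℕ} (hr2 : 2 ≤ r) (hr : 2 * r ≤ p) (π : ZMod p → ZMod p)
    (hπ : ∀ f ∈ polySub p K r, f ∘ π ∈ polySub p K r) :
    ∃ k m : ZMod p, ∀ j, π j = k * j + m := by
  obtain ⟨Q, hQ, hQv⟩ := mem_polySub.1 (hπ _ (pow_mem_polySub (i := 1) (by omega)))
  simp only [Function.comp_apply, pow_one] at hQv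
  have hQd : Q.natDegree < r := by
    rcases eq_or_ne Q 0 with e | e
    · subst e; simp; omega
    · rw [degree_eq_natDegree e, Nat.cast_lt] at hQ; exact hQ
  have hd : Q.natDegree ≤ 1 := by
    by_contra hd
    obtain ⟨d, hdd⟩ : ∃ d, Q.natDegree = d := ⟨_, rfl⟩
    rw [hdd] at hd hQd
    have hQ0 : Q ≠ 0 := by rintro rfl; simp at hdd; omega
    set i := (r + d - 1) / d with hi
    have hid : r ≤ i * d := by
      have := Nat.div_add_mod (r + d - 1) d
      have := Nat.mod_lt (r + d - 1) (show 0 < d by omega)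
      have hc : i * d = d * ((r + d - 1) / d) := Nat.mul_comm _ _
      omega
    have hid' : i * d ≤ r + d - 1 := Nat.div_mul_le_self _ _
    have hir : i < r := by
      have : i * 2 ≤ i * d := Nat.mul_le_mul_left _ (by omega)
      omega
    obtain ⟨R, hR, hRv⟩ := mem_polySub.1 (hπ _ (pow_mem_polySub (i := i) hir))
    have hp : ((r : WithBot ℕ)) ≤ (p : WithBot ℕ) := by exact_mod_cast (by omega : r ≤ p)
    have hQi : Q ^ i = R := by
      refine evalFun_inj (p := p) ?_ (hR.trans_le hp) ?_
      · rw [degree_eq_natDegree (pow_ne_zero _ hQ0), Nat.cast_lt, natDegree_pow, hdd]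
        omega
      · funext j
        rw [evalFun_apply, evalFun_apply, eval_pow, ← hQv, ← hRv]
        rfl
    subst hQi
    rw [degree_eq_natDegree (pow_ne_zero _ hQ0), Nat.cast_lt, natDegree_pow, hdd] at hR
    omega
  refine ⟨π 1 - π 0, π 0, fun j => primeCast_injective (K := K) ?_⟩
  obtain ⟨a, b, rfl⟩ := exists_eq_X_add_C_of_natDegree_le_one hd
  simp [hQv]

theorem affine_of_preserves {r : ℕ} (hr2 : 2 ≤ r) (hr : r + 2 ≤ p) (σ : Equiv.Perm (ZMod p))
    (hσ : ∀ f ∈ polySub p K r, f ∘ σ.symm ∈ polySub p K r)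
    (hσ' : ∀ f ∈ polySub p K r, f ∘ σ ∈ polySub p K r) :
    ∃ k m : ZMod p, ∀ j, σ j = k * j + m := by
  by_cases h : 2 * r ≤ p
  · exact affine_of_preserves_le_half hr2 h σ hσ'
  · refine affine_of_preserves_le_half (K := K) (r := p - r) (by omega) (by omega) σ fun f hf => ?_
    -- the orthogonal space is `polySub p K (p - r)`
    let orth : Submodule K (ZMod p → K) :=
      { carrier := {g | ∀ w ∈ polySub p K r, ∑ j, g j * w j = 0}
        add_mem' := fun {a b} ha hb w hw => by
          simp [add_mul, Finset.sum_add_distrib, ha w hw, hb w hw]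
        zero_mem' := fun w _ => by simp
        smul_mem' := fun c a ha w hw => by
          simp [mul_assoc, ← Finset.mul_sum, ha w hw] }
    have horth : ∀ g ∈ orth, ∀ τ : Equiv.Perm (ZMod p),
        (∀ w ∈ polySub p K r, w ∘ τ.symm ∈ polySub p K r) → g ∘ τ ∈ orth := by
      intro g hg τ hτ w hw
      rw [← hg _ (hτ w hw)]
      refine Fintype.sum_equiv τ _ _ fun j => ?_
      simp
    have hshift : ∀ g ∈ orth, (fun j => g (j - 1)) ∈ orth := by
      intro g hg
      refine horth g hg (Equiv.addRight (-1)) (fun w hw => ?_) |> fun e => by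
        simpa [Function.comp_def, sub_eq_add_neg] using e
      obtain ⟨P, hP, h'⟩ := mem_polySub.1 hw
      refine mem_polySub.2 ⟨P.comp (X + C 1), ?_, fun j => ?_⟩
      · rcases eq_or_ne P 0 with rfl | hP0
        · simpa using hP
        rcases eq_or_ne (P.comp (X + C 1)) 0 with e | e
        · rw [e, degree_zero]; exact WithBot.bot_lt_coe _
        rw [degree_eq_natDegree e, natDegree_comp, natDegree_X_add_C, mul_one,
          ← degree_eq_natDegree hP0]
        exact hP
      · simp [h', Function.comp_apply, eval_comp]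
    obtain ⟨s, hs, hse⟩ := shift_invariant_eq_polySub orth hshift
    have h1 : polySub p K (p - r) ≤ orth := fun g hg w hw => sum_mul_eq_zero (by omega) hg hw
    have h2 : s ≤ p - r := by
      by_contra hc
      have := (hse ▸ pow_mem_polySub (p := p) (K := K) (i := p - r) (by omega : p - r < s) :
        (fun j : ZMod p => primeCast K j ^ (p - r)) ∈ orth) _ (pow_mem_polySub (i := r - 1) (by omega))
      simp only [← pow_add] at this
      rw [show p - r + (r - 1) = p - 1 by omega, sum_primeCast_pow_top] at this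
      exact neg_ne_zero.2 one_ne_zero this
    have he : orth = polySub p K (p - r) :=
      le_antisymm (hse ▸ polySub_mono h2) h1
    exact he ▸ horth f (h1 hf) σ hσ

/-! ### Transitive actions of prime degree -/

variable {G : Type*} [Group G] {Ω : Type*} [MulAction G Ω]

theorem coord_of_element (hΩ : Nat.card Ω = p) {τ : G} (hp : ∀ x : Ω, τ ^ p • x = x) {a : Ω}
    (ha : τ • a ≠ a) : ∃ e : ZMod p ≃ Ω, e 0 = a ∧ ∀ j, τ • e j = e (j + 1) := by
  have hper : period τ a = p := by
    rcases (Nat.dvd_prime (Fact.out : p.Prime)).1 (pow_smul_eq_iff_period_dvd.1 (hp a)) with h | h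
    · exfalso
      apply ha
      have := pow_period_smul τ a
      rwa [h, pow_one] at this
    · exact h
  let f : ZMod p → Ω := fun j => τ ^ j.val • a
  haveI : Finite Ω := Nat.finite_of_card_ne_zero (hΩ ▸ (Fact.out : p.Prime).ne_zero)
  have hf : ∀ n : ℕ, f (n : ZMod p) = τ ^ n • a := by
    intro n
    show τ ^ (n : ZMod p).val • a = _
    rw [ZMod.val_natCast]
    conv_rhs => rw [← Nat.mod_add_div n p]
    rw [pow_add, mul_smul]
    congr 1
    exact (pow_smul_eq_iff_period_dvd.2 (by rw [hper]; exact dvd_mul_right p _)).symm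
  have hinj : Function.Injective f := by
    intro i j hij
    obtain ⟨m, rfl⟩ : ∃ m : ℕ, i = m := ⟨i.val, (ZMod.natCast_zmod_val i).symm⟩
    obtain ⟨n, rfl⟩ : ∃ n : ℕ, j = n := ⟨j.val, (ZMod.natCast_zmod_val j).symm⟩
    rw [hf, hf] at hij
    wlog hmn : m ≤ n generalizing m n with H
    · exact (H n m hij.symm (by omega)).symm
    obtain ⟨c, rfl⟩ := Nat.exists_eq_add_of_le hmn
    rw [pow_add, mul_smul, smul_left_cancel_iff, eq_comm, pow_smul_eq_iff_period_dvd, hper] at hij
    rw [Nat.cast_add, (ZMod.natCast_eq_zero_iff _ _).2 hij, add_zero]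
  have hcard : Nat.card (ZMod p) = Nat.card Ω := by rw [Nat.card_zmod, hΩ]
  refine ⟨Equiv.ofBijective f ((Nat.bijective_iff_injective_and_card f).2 ⟨hinj, hcard⟩), ?_, ?_⟩
  · show f 0 = a
    have := hf 0
    simpa using this
  · intro j
    show τ • f j = f (j + 1)
    obtain ⟨n, rfl⟩ : ∃ n : ℕ, j = n := ⟨j.val, (ZMod.natCast_zmod_val j).symm⟩
    rw [hf, ← Nat.cast_succ, hf, smul_smul, ← pow_succ']

theorem exists_coord [Finite G] [IsPretransitive G Ω] (hΩ : Nat.card Ω = p) :
    ∃ (τ : G) (e : ZMod p ≃ Ω), ∀ j, τ • e j = e (j + 1) := by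
  haveI : Finite Ω := Nat.finite_of_card_ne_zero (hΩ ▸ (Fact.out : p.Prime).ne_zero)
  let φ := MulAction.toPermHom G Ω
  have hdvd : p ∣ Nat.card φ.range := by
    haveI : IsPretransitive φ.range Ω := ⟨fun x y => by
      obtain ⟨g, hg⟩ := exists_smul_eq G x y
      exact ⟨⟨φ g, g, rfl⟩, hg⟩⟩
    obtain ⟨a⟩ : Nonempty Ω := (Nat.card_pos_iff.1 (hΩ ▸ (Fact.out : p.Prime).pos)).1
    rw [← hΩ, ← index_stabilizer_of_transitive φ.range a]
    exact Subgroup.index_dvd_card _
  obtain ⟨⟨_, τ, rfl⟩, ho⟩ := exists_prime_orderOf_dvd_card' p hdvd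
  have ho' : orderOf (φ τ) = p := by rw [← ho, ← Subgroup.orderOf_coe]
  have hp : ∀ x : Ω, τ ^ p • x = x := by
    intro x
    have : φ (τ ^ p) = 1 := by rw [map_pow, ← ho', pow_orderOf_eq_one]
    exact Equiv.ext_iff.1 this x
  obtain ⟨a, ha⟩ : ∃ a, τ • a ≠ a := by
    by_contra h
    simp only [not_exists, not_not] at h
    have : φ τ = 1 := Equiv.ext h
    rw [this, orderOf_one] at ho'
    exact (Fact.out : p.Prime).one_lt.ne ho'
  obtain ⟨e, -, he⟩ := coord_of_element hΩ hp ha
  exact ⟨τ, e, he⟩

/-- The action of `g` is affine in the coordinates `e`. -/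
def IsAffineAt (e : ZMod p ≃ Ω) (g : G) : Prop :=
  ∃ k m : ZMod p, ∀ j, g • e j = e (k * j + m)

theorem solvable_of_affine [FaithfulSMul G Ω] (e : ZMod p ≃ Ω) (h : ∀ g : G, IsAffineAt e g) :
    Group.IsSolvable G := by
  choose k m hkm using h
  have hk : ∀ g : G, k g = e.symm (g • e 1) - e.symm (g • e 0) := by
    intro g
    simp [hkm]
  let φ : G →* ZMod p :=
    { toFun := k
      map_one' := by simp [hk]
      map_mul' := fun g g' => by
        rw [hk (g * g'), mul_smul, mul_smul, hkm g', hkm g', hkm g, hkm g,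
          Equiv.symm_apply_apply, Equiv.symm_apply_apply]
        ring }
  have hker : ∀ g ∈ φ.toHomUnits.ker, ∀ j, g • e j = e (j + m g) := by
    intro g hg j
    have : k g = 1 := congrArg Units.val (MonoidHom.mem_ker.1 hg)
    rw [hkm g, this, one_mul]
  haveI : Group.IsSolvable φ.toHomUnits.ker := by
    refine Group.isSolvable_of_comm fun a b => Subtype.ext (FaithfulSMul.eq_of_smul_eq_smul fun x : Ω => ?_)
    obtain ⟨j, rfl⟩ := e.surjective x
    show ((a : G) * (b : G)) • e j = ((b : G) * (a : G)) • e j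
    rw [mul_smul, mul_smul, hker _ b.2, hker _ a.2, hker _ a.2, hker _ b.2, add_right_comm]
  exact Group.isSolvable_of_ker_le_range φ.toHomUnits.ker.subtype φ.toHomUnits (by simp)

theorem affine_small {σ : Equiv.Perm (ZMod p)} (hp : p ≤ 3) :
    ∃ k m : ZMod p, ∀ j, σ j = k * j + m := by
  have h2 := (Fact.out : p.Prime).two_le
  rcases (show p = 2 ∨ p = 3 by omega) with rfl | rfl
  · exact affine_two σ
  · exact affine_three σ

theorem perm_apply_coord (e : ZMod p ≃ Ω) (g : G) (j : ZMod p) :
    g • e j = e (((e.trans (toPerm g)).trans e.symm) j) := by simp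

/-- The dichotomy for the heart in prime degree. -/
theorem heart_dichotomy [Fintype Ω] (hΩ : Nat.card Ω = p) {τ : G} {e : ZMod p ≃ Ω}
    (he : ∀ j, τ • e j = e (j + 1)) (W : Subrepresentation (Cfsg.permRep K G Ω))
    (h₁ : (Cfsg.permConstants K G Ω).toSubmodule ≤ W.toSubmodule)
    (h₂ : W.toSubmodule ≤ (Cfsg.permSumZero K G Ω).toSubmodule) :
    W.toSubmodule = (Cfsg.permConstants K G Ω).toSubmodule ∨
      W.toSubmodule = (Cfsg.permSumZero K G Ω).toSubmodule ∨ ∀ g : G, IsAffineAt e g := by
  classical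
  let L := LinearEquiv.funCongrLeft K K e
  let Wt : Submodule K (ZMod p → K) := W.toSubmodule.map L.toLinearMap
  have hmem : ∀ f, f ∈ Wt ↔ (fun x => f (e.symm x)) ∈ W.toSubmodule := by
    intro f
    constructor
    · rintro ⟨v, hv, rfl⟩
      have e1 : (fun x => L.toLinearMap v (e.symm x)) = v :=
        funext fun x => show v (e (e.symm x)) = v x by rw [Equiv.apply_symm_apply]
      rw [e1]
      exact hv
    · intro hf
      exact ⟨_, hf, funext fun j => show f (e.symm (e j)) = f j by rw [Equiv.symm_apply_apply]⟩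
  have hg : ∀ (g : G), ∀ f ∈ Wt, f ∘ ((e.trans (toPerm g⁻¹)).trans e.symm) ∈ Wt := by
    intro g f hf
    rw [hmem] at hf ⊢
    convert W.apply_mem_toSubmodule g hf using 1
    funext x
    simp
  obtain ⟨r, hrp, hr⟩ := shift_invariant_eq_polySub Wt (fun f hf => by
    convert hg τ f hf using 1
    funext j
    have : τ⁻¹ • e j = e (j - 1) := by rw [inv_smul_eq_iff, he, sub_add_cancel]
    simp [this])
  have hone : (fun _ => (1 : K)) ∈ W.toSubmodule := h₁ (mem_permConstants.2 ⟨1, fun _ => rfl⟩)
  have hr1 : 1 ≤ r := by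
    by_contra hc
    obtain rfl : r = 0 := by omega
    obtain ⟨P, hP, hPv⟩ := mem_polySub.1 (hr ▸ (hmem _).2 hone : (fun _ => (1 : K)) ∈ polySub p K 0)
    have hP0 : P = 0 := by simpa [Nat.WithBot.lt_zero_iff] using hP
    exact one_ne_zero ((hPv 0).trans (by simp [hP0]))
  have hrp' : r ≤ p - 1 := by
    by_contra hc
    obtain rfl : r = p := by omega
    have hall : (Pi.single (e 0) (1 : K)) ∈ W.toSubmodule := by
      have : L.toLinearMap (Pi.single (e 0) (1 : K)) ∈ Wt := by rw [hr, polySub_self]; trivial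
      obtain ⟨v, hv, hv'⟩ := this
      rwa [← L.injective hv']
    have := mem_permSumZero.1 (h₂ hall)
    simp [Finset.sum_pi_single'] at this
  rcases Nat.lt_or_ge r 2 with hlt | hge
  · left
    refine le_antisymm (fun v hv => ?_) h₁
    have hv' : L.toLinearMap v ∈ Wt := ⟨v, hv, rfl⟩
    rw [hr, show r = 1 by omega] at hv'
    obtain ⟨P, hP, hPv⟩ := mem_polySub.1 hv'
    have hdeg : P.degree ≤ 0 := Nat.WithBot.lt_one_iff_le_zero.1 (by simpa using hP)
    refine mem_permConstants.2 ⟨P.coeff 0, fun x => ?_⟩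
    have := hPv (e.symm x)
    rw [eq_C_of_degree_le_zero hdeg, eval_C] at this
    simpa [L] using this
  rcases Nat.lt_or_ge r (p - 1) with hlt | hge'
  · right; right
    intro g
    obtain ⟨k, m, hkm⟩ := affine_of_preserves (K := K) (r := r) hge (by omega)
      ((e.trans (toPerm g)).trans e.symm)
      (fun f hf => by
        rw [← hr] at hf ⊢
        convert hg g f hf using 2
        funext j
        simp [Equiv.symm_trans_apply])
      (fun f hf => by
        rw [← hr] at hf ⊢
        convert hg g⁻¹ f hf using 2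
        simp)
    exact ⟨k, m, fun j => by rw [perm_apply_coord e g j, hkm]⟩
  · right; left
    refine le_antisymm h₂ fun v hv => ?_
    have hle : Wt ≤ (Cfsg.permSumZero K G Ω).toSubmodule.map L.toLinearMap := Submodule.map_mono h₂
    have hne : (Cfsg.permSumZero K G Ω).toSubmodule.map L.toLinearMap ≠ ⊤ := by
      intro htop
      obtain ⟨u, hu, hu'⟩ := (htop ▸ Submodule.mem_top :
        L.toLinearMap (Pi.single (e 0) (1 : K)) ∈ _)
      rw [L.injective hu'] at hu
      simpa [Finset.sum_pi_single'] using mem_permSumZero.1 hu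
    have heq : Wt = (Cfsg.permSumZero K G Ω).toSubmodule.map L.toLinearMap := by
      refine Submodule.eq_of_le_of_finrank_le hle ?_
      rw [hr, finrank_polySub hrp, show r = p - 1 by omega]
      have := Submodule.finrank_lt hne
      rw [Module.finrank_pi, ZMod.card] at this
      omega
    obtain ⟨u, hu, hu'⟩ : L.toLinearMap v ∈ Wt := heq ▸ ⟨v, hv, rfl⟩
    rwa [← L.injective hu']

end Cfsg.Agent.PermPrime
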