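/-
Direct decompositions of the Sylow 2-subgroups of alternating groups.
-/
import Cfsg.Prelude.Def_TwoFusion
import Cfsg.Agent.Lib.Perm.SylowTwoNormalizer

set_option autoImplicit false
set_option linter.unusedSectionVars false

namespace Cfsg.Agent.SylTwoDecomp

open Cfsg.Agent.SylTwoNorm Equiv

/-- The subgroup has a non-trivial direct decomposition. -/
def Decomp {G : Type*} [Group G] (S : Subgroup G) : Prop :=
  ∃ S₁ S₂ : Subgroup G, S₁ ≠ ⊥ ∧ S₂ ≠ ⊥ ∧ Cfsg.IsInternalDirectProduct S₁ S₂ S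

theorem decomp_map {G G' : Type*} [Group G] [Group G'] (φ : G →* G') (hφ : Function.Injective φ)
    (S : Subgroup G) : Decomp (S.map φ) ↔ Decomp S := by
  constructor
  · rintro ⟨T₁, T₂, h1, h2, hle1, hle2, hc, hinf, hsup⟩
    have hrange : ∀ T : Subgroup G', T ≤ S.map φ → (T.comap φ).map φ = T := fun T hT =>
      Subgroup.map_comap_eq_self (hT.trans (Subgroup.map_le_range φ S))
    refine ⟨T₁.comap φ, T₂.comap φ, fun h => h1 ?_, fun h => h2 ?_, ?_, ?_, ?_, ?_, ?_⟩
    · rw [← hrange T₁ hle1, h, Subgroup.map_bot]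
    · rw [← hrange T₂ hle2, h, Subgroup.map_bot]
    · exact (Subgroup.comap_mono hle1).trans (Subgroup.comap_map_eq_self_of_injective hφ S).le
    · exact (Subgroup.comap_mono hle2).trans (Subgroup.comap_map_eq_self_of_injective hφ S).le
    · intro a ha b hb
      exact hφ (by rw [map_mul, map_mul]; exact hc _ ha _ hb)
    · rw [← Subgroup.comap_inf, hinf, MonoidHom.comap_bot, φ.ker_eq_bot_iff.2 hφ]
    · apply Subgroup.map_injective hφ
      rw [Subgroup.map_sup, hrange T₁ hle1, hrange T₂ hle2, hsup]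
  · rintro ⟨S₁, S₂, h1, h2, hle1, hle2, hc, hinf, hsup⟩
    refine ⟨S₁.map φ, S₂.map φ, ?_, ?_, Subgroup.map_mono hle1, Subgroup.map_mono hle2, ?_, ?_, ?_⟩
    · rwa [Ne, Subgroup.map_eq_bot_iff_of_injective _ hφ]
    · rwa [Ne, Subgroup.map_eq_bot_iff_of_injective _ hφ]
    · rintro _ ⟨a, ha, rfl⟩ _ ⟨b, hb, rfl⟩
      rw [← map_mul, ← map_mul, hc a ha b hb]
    · rw [← Subgroup.map_inf _ _ _ hφ, hinf, Subgroup.map_bot]
    · rw [← Subgroup.map_sup, hsup]

theorem mul_of_decomp {G : Type*} [Group G] {S S₁ S₂ : Subgroup G}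
    (h : Cfsg.IsInternalDirectProduct S₁ S₂ S) {g : G} (hg : g ∈ S) : ∃ a ∈ S₁, ∃ b ∈ S₂, g = a * b := by
  obtain ⟨-, -, hc, -, hsup⟩ := h
  have hn : S₁ ≤ Subgroup.centralizer (S₂ : Set G) := fun a ha =>
    Subgroup.mem_centralizer_iff.2 fun b hb => (hc a ha b hb).symm
  rw [← hsup, ← SetLike.mem_coe,
    Subgroup.coe_mul_of_left_le_normalizer_right S₁ S₂ (hn.trans (Subgroup.centralizer_le_normalizer _))] at hg
  obtain ⟨a, ha, b, hb, rfl⟩ := Set.mem_mul.1 hg
  exact ⟨a, ha, b, hb, rfl⟩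

theorem not_decomp_of_center {G : Type*} [Group G] [Finite G] (S : Subgroup G) (hS : IsPGroup 2 S) (x : G)
    (hx : ∀ g ∈ S, (∀ s ∈ S, s * g = g * s) → g = 1 ∨ g = x) : ¬ Decomp S := by
  haveI : Fact (Nat.Prime 2) := ⟨Nat.prime_two⟩
  rintro ⟨S₁, S₂, h1, h2, hd⟩
  obtain ⟨hle1, hle2, hc, hinf, -⟩ := id hd
  have key : ∀ T : Subgroup G, T ≤ S → T ≠ ⊥ → (∀ g ∈ S, ∃ a ∈ T, ∃ b, (∀ t ∈ T, t * b = b * t) ∧ g = a * b) →
      x ∈ T ∧ x ≠ 1 := by
    intro T hT hne hdec
    haveI : Nontrivial T := (Subgroup.nontrivial_iff_ne_bot T).2 hne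
    haveI : Nontrivial (Subgroup.center T) := (hS.to_le hT).center_nontrivial
    obtain ⟨z, hz⟩ := exists_ne (1 : Subgroup.center T)
    have hz1 : ((z : T) : G) ≠ 1 := fun e => hz (Subtype.ext (Subtype.ext e))
    have hcent : ∀ s ∈ S, s * ((z : T) : G) = ((z : T) : G) * s := by
      intro s hs
      obtain ⟨a, ha, b, hb, rfl⟩ := hdec s hs
      have e1 : a * ((z : T) : G) = ((z : T) : G) * a :=
        congrArg Subtype.val (Subgroup.mem_center_iff.1 z.2 ⟨a, ha⟩)
      rw [mul_assoc, ← hb _ z.1.2, ← mul_assoc, e1, mul_assoc]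
    rcases hx _ (hT z.1.2) hcent with e | e
    · exact absurd e hz1
    · exact ⟨e ▸ z.1.2, e ▸ hz1⟩
  obtain ⟨m1, hne⟩ := key S₁ hle1 h1 fun g hg => by
    obtain ⟨a, ha, b, hb, e⟩ := mul_of_decomp hd hg
    exact ⟨a, ha, b, fun t ht => hc t ht b hb, e⟩
  obtain ⟨m2, -⟩ := key S₂ hle2 h2 fun g hg => by
    obtain ⟨a, ha, b, hb, e⟩ := mul_of_decomp hd hg
    exact ⟨b, hb, a, fun t ht => (hc a ha t ht).symm, e.trans (hc a ha b hb)⟩
  exact hne (Subgroup.mem_bot.1 (hinf ▸ ⟨m1, m2⟩))

variable {α β : Type} [Fintype α] [DecidableEq α] [Fintype β] [DecidableEq β]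

/-- A permutation of the pairs followed by switches. -/
def mk (q : Perm α) (f : α → Bool) : Perm (Pts α β) := liftPerm q * switch f

omit [Fintype α] [DecidableEq α] [Fintype β] [DecidableEq β] in
theorem mk_inl (q : Perm α) (f : α → Bool) (a : α) (b : Bool) :
    mk (β := β) q f (Sum.inl (a, b)) = Sum.inl (q a, xor b (f a)) := rfl

omit [Fintype α] [DecidableEq α] [Fintype β] [DecidableEq β] in
theorem mk_inr (q : Perm α) (f : α → Bool) (e : β) : mk q f (Sum.inr e) = Sum.inr e := rfl

theorem mk_mul (q q' : Perm α) (f f' : α → Bool) :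
    mk (β := β) q f * mk q' f' = mk (q * q') (fun a => xor (f' a) (f (q' a))) := by
  refine Equiv.ext fun x => ?_
  rcases x with ⟨a, b⟩ | e
  · rw [Perm.mul_apply, mk_inl, mk_inl, mk_inl, Perm.mul_apply, Bool.xor_assoc]
  · rw [Perm.mul_apply, mk_inr, mk_inr, mk_inr]

theorem mk_one : mk (β := β) (1 : Perm α) (fun _ => false) = 1 := by
  refine Equiv.ext fun x => ?_
  rcases x with ⟨a, b⟩ | e
  · simp [mk_inl]
  · rfl

theorem mk_inj {q q' : Perm α} {f f' : α → Bool} (h : mk (β := β) q f = mk q' f') : q = q' ∧ f = f' := by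
  have h' : ∀ a, (Sum.inl (q a, f a) : Pts α β) = Sum.inl (q' a, f' a) := fun a => by
    have := congrArg (fun g : Perm (Pts α β) => g (Sum.inl (a, false))) h
    simpa [mk_inl] using this
  exact ⟨Equiv.ext fun a => (Prod.ext_iff.1 (Sum.inl_injective (h' a))).1,
    funext fun a => (Prod.ext_iff.1 (Sum.inl_injective (h' a))).2⟩

theorem mk_inv (q : Perm α) (f : α → Bool) : (mk (β := β) q f)⁻¹ = mk q⁻¹ (fun a => f (q⁻¹ a)) := by
  rw [inv_eq_iff_mul_eq_one, mk_mul, mul_inv_cancel, ← mk_one]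
  congr 1
  funext a
  simp

/-- The parity of a switch. -/
def ε (f : α → Bool) : ℤˣ := ∏ a, if f a then -1 else 1

theorem ε_false : ε (fun _ : α => false) = 1 := by simp [ε]

theorem ε_xor (f g : α → Bool) : ε (fun a => xor (f a) (g a)) = ε f * ε g := by
  rw [ε, ε, ε, ← Finset.prod_mul_distrib]
  refine Finset.prod_congr rfl fun a _ => ?_
  cases f a <;> cases g a <;> simp

theorem ε_comp (f : α → Bool) (q : Perm α) : ε (fun a => f (q a)) = ε f :=
  Equiv.prod_comp q fun a => if f a then (-1 : ℤˣ) else 1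

theorem ε_eq_pow (f : α → Bool) : ε f = (-1) ^ (Finset.univ.filter fun a => f a = true).card := by
  rw [ε, Finset.prod_ite, Finset.prod_const, Finset.prod_const_one, mul_one]

/-- The indicator of one pair. -/
def dl (c : α) : α → Bool := fun a => decide (a = c)

theorem ε_dl (c : α) : ε (dl c) = -1 := by
  rw [ε_eq_pow]
  simp [dl, Finset.filter_eq']

theorem switch_xor (f g : α → Bool) :
    (switch (fun a => xor (f a) (g a)) : Perm (Pts α β)) = switch f * switch g := by
  refine Equiv.ext fun x => ?_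
  rcases x with ⟨a, b⟩ | e
  · show (Sum.inl (a, xor b (xor (f a) (g a))) : Pts α β) = Sum.inl (a, xor (xor b (g a)) (f a))
    cases b <;> cases f a <;> cases g a <;> rfl
  · rfl

theorem sign_switch (f : α → Bool) : Perm.sign (switch f : Perm (Pts α β)) = ε f := by
  induction h : (Finset.univ.filter fun a => f a = true).card using Nat.strong_induction_on generalizing f with
  | _ k ih =>
  by_cases hf : ∃ c, f c = true
  · obtain ⟨c, hc⟩ := hf
    set g : α → Bool := fun a => xor (dl c a) (f a) with hg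
    have hfg : f = fun a => xor (dl c a) (g a) := by
      funext a; simp [hg, ← Bool.xor_assoc]
    have hlt : (Finset.univ.filter fun a => g a = true).card < k := by
      rw [← h]
      refine Finset.card_lt_card ⟨fun a ha => ?_, fun hsub => ?_⟩
      · rw [Finset.mem_filter] at ha ⊢
        refine ⟨ha.1, ?_⟩
        by_cases hac : a = c
        · rw [hac]; exact hc
        · simpa [hg, dl, hac] using ha.2
      · have := hsub (Finset.mem_filter.2 ⟨Finset.mem_univ c, hc⟩)
        simp [hg, dl, hc] at this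
    rw [hfg, switch_xor, map_mul, ε_xor, ih _ hlt g rfl, ε_dl]
    congr 1
    exact sign_flip1 c
  · push Not at hf
    have : f = fun _ => false := funext fun a => by simpa using hf a
    subst this
    rw [ε_false, show (switch (fun _ : α => false) : Perm (Pts α β)) = 1 from Equiv.ext fun x => by
      rcases x with ⟨a, b⟩ | e <;> simp [switch], map_one]

theorem sign_mk (q : Perm α) (f : α → Bool) : Perm.sign (mk (β := β) q f) = ε f := by
  rw [mk, map_mul, sign_switch]
  suffices Perm.sign (liftPerm q : Perm (Pts α β)) = 1 by rw [this, one_mul]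
  show Perm.sign (Perm.sumCongr (Equiv.prodCongr q (Equiv.refl Bool)) (Equiv.refl β)) = 1
  rw [Perm.sign_sumCongr, Perm.sign_refl, mul_one]
  have : (Equiv.prodCongr q (Equiv.refl Bool) : Perm (α × Bool)) =
      Equiv.prodCongrLeft fun _ : Bool => q := rfl
  rw [this, Perm.sign_prodCongrLeft, Fintype.prod_bool]
  exact Int.units_mul_self _

theorem mem_lifted_iff [Subsingleton β] {Q : Subgroup (Perm α)} {g : Perm (Pts α β)} :
    g ∈ lifted Q ↔ ∃ q ∈ Q, ∃ f, g = mk q f := by
  constructor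
  · rintro ⟨x, hx, rfl⟩
    choose c hc using pairMap_spec x.2
    refine ⟨toPairs x, hx, c, Equiv.ext ?_⟩
    rintro (⟨a, b⟩ | e)
    · rw [mk_inl]; exact hc a b
    · rw [mk_inr]; exact cen_inr x.2 e
  · rintro ⟨q, hq, f, rfl⟩
    have hm : mk (β := β) q f ∈ cen := mul_mem (liftPerm_mem q) (switch_mem f)
    refine ⟨⟨_, hm⟩, ?_, rfl⟩
    show toPairs ⟨_, hm⟩ ∈ Q
    rw [show toPairs (⟨_, hm⟩ : cen) = q from Equiv.ext fun a => by simp [toPairs, pairMap, mk_inl]]
    exact hq

/-- The even part of the lifted group. -/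
def evenLift [Subsingleton β] (Q : Subgroup (Perm α)) : Subgroup (Perm (Pts α β)) :=
  lifted Q ⊓ alternatingGroup (Pts α β)

theorem mem_even [Subsingleton β] {Q : Subgroup (Perm α)} {g : Perm (Pts α β)} :
    g ∈ evenLift Q ↔ ∃ q ∈ Q, ∃ f, ε f = 1 ∧ g = mk q f := by
  rw [evenLift, Subgroup.mem_inf, mem_lifted_iff, Perm.mem_alternatingGroup]
  constructor
  · rintro ⟨⟨q, hq, f, rfl⟩, hs⟩
    exact ⟨q, hq, f, by rwa [sign_mk] at hs, rfl⟩
  · rintro ⟨q, hq, f, hf, rfl⟩
    exact ⟨⟨q, hq, f, rfl⟩, by rw [sign_mk, hf]⟩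

theorem ε_dl2 (i l : α) : ε (fun a => xor (dl i a) (dl l a)) = 1 := by
  rw [ε_xor, ε_dl, ε_dl, Int.units_mul_self]

theorem dl2_mem [Subsingleton β] (Q : Subgroup (Perm α)) (i l : α) :
    mk (β := β) 1 (fun a => xor (dl i a) (dl l a)) ∈ evenLift Q :=
  mem_even.2 ⟨1, Q.one_mem, _, ε_dl2 i l, rfl⟩

theorem exists_mem_even [Subsingleton β] [Nonempty α] (Q : Subgroup (Perm α)) {q : Perm α} (hq : q ∈ Q) :
    ∃ f, mk (β := β) q f ∈ evenLift Q :=
  ⟨fun _ => false, mem_even.2 ⟨q, hq, _, ε_false, rfl⟩⟩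

/-- A function constant on the orbits of a fixed-point-free 2-group is even. -/
theorem ε_invariant {Q : Subgroup (Perm α)} (hQ : IsPGroup 2 Q) (f : α → Bool)
    (hf : ∀ q ∈ Q, ∀ a, f (q a) = f a) (hfix : ∀ a, f a = true → ∃ q ∈ Q, q a ≠ a) : ε f = 1 := by
  haveI : Fact (Nat.Prime 2) := ⟨Nat.prime_two⟩
  let X : SubMulAction Q α :=
    { carrier := {a | f a = true}
      smul_mem' := fun q a ha => by
        show f ((q : Perm α) a) = true
        rw [hf _ q.2]; exact ha }
  have h1 := hQ.card_modEq_card_fixedPoints X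
  have h2 : Nat.card (MulAction.fixedPoints Q X) = 0 := by
    rw [Nat.card_eq_zero]
    left
    refine ⟨fun ⟨⟨a, ha⟩, h⟩ => ?_⟩
    obtain ⟨q, hq, hqa⟩ := hfix a ha
    exact hqa (congrArg Subtype.val (h ⟨q, hq⟩))
  rw [h2] at h1
  have h3 : Nat.card X = (Finset.univ.filter fun a => f a = true).card :=
    Nat.subtype_card _ (fun a => by simp [X]; rfl)
  rw [ε_eq_pow, ← h3]
  exact Even.neg_one_pow (Nat.even_iff.2 h1)

variable [Subsingleton β]

theorem center_small (Q : Subgroup (Perm α)) (hQ : IsPGroup 2 Q) (h3 : 3 ≤ Fintype.card α) (i₀ : α)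
    (h : (∀ j, ∃ q ∈ Q, q i₀ = j) ∨
      ∃ c, i₀ ≠ c ∧ (∀ q ∈ Q, q c = c) ∧ ∀ j, j ≠ c → ∃ q ∈ Q, q i₀ = j) :
    ¬ Decomp (evenLift (β := β) Q) := by
  haveI : Fact (Nat.Prime 2) := ⟨Nat.prime_two⟩
  haveI : Nonempty α := ⟨i₀⟩
  -- the possible switches
  obtain ⟨f₁, hf₁⟩ : ∃ f₁ : α → Bool, ∀ f : α → Bool, (∀ q ∈ Q, ∀ a, f (q a) = f a) → ε f = 1 →
      f = (fun _ => false) ∨ f = f₁ := by
    rcases h with h | ⟨c, hi₀, hc, hmove⟩
    · refine ⟨fun _ => true, fun f hf _ => ?_⟩
      cases e : f i₀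
      · left; funext a; obtain ⟨q, hq, rfl⟩ := h a; rw [hf q hq, e]
      · right; funext a; obtain ⟨q, hq, rfl⟩ := h a; rw [hf q hq, e]
    · obtain ⟨l, hl⟩ : ∃ l, l ≠ c ∧ l ≠ i₀ := by
        obtain ⟨l, hl⟩ := Finset.exists_mem_notMem_of_card_lt_card
          (s := ({c, i₀} : Finset α)) (t := Finset.univ) (lt_of_le_of_lt Finset.card_le_two h3)
        simp only [Finset.mem_insert, Finset.mem_singleton, not_or] at hl
        exact ⟨l, hl.2⟩
      refine ⟨fun a => decide (a ≠ c), fun f hf he => ?_⟩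
      have hO : ∀ a, a ≠ c → f a = f i₀ := fun a ha => by
        obtain ⟨q, hq, rfl⟩ := hmove a ha
        exact hf q hq i₀
      -- the part off the fixed point is even
      have hrest : ε (fun a => f a && decide (a ≠ c)) = 1 := by
        refine ε_invariant hQ _ (fun q hq a => ?_) fun a ha => ?_
        · rw [hf q hq a]
          congr 1
          rw [decide_eq_decide]
          exact ⟨fun h e => h (by rw [e, hc q hq]), fun h e => h (q.injective (e.trans (hc q hq).symm))⟩
        · simp only [Bool.and_eq_true, decide_eq_true_eq] at ha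
          obtain ⟨q, hq, hqa⟩ := hmove a ha.2
          obtain ⟨r, hr, hrl⟩ := hmove l hl.1
          by_cases hal : a = l
          · refine ⟨q⁻¹, Q.inv_mem hq, fun e => hl.2 ?_⟩
            rw [← hqa] at e
            simp only [Perm.inv_def, Equiv.symm_apply_apply] at e
            rw [← hal, ← hqa, ← e]
          · refine ⟨r * q⁻¹, Q.mul_mem hr (Q.inv_mem hq), fun e => hal ?_⟩
            rw [Perm.mul_apply, show q⁻¹ a = i₀ by rw [← hqa]; simp, hrl] at e
            exact e.symm
      have hfc : f c = false := by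
        cases e : f c
        · rfl
        · exfalso
          have hsplit : f = fun a => xor (dl c a) (f a && decide (a ≠ c)) := funext fun a => by
            by_cases hac : a = c <;> simp [dl, hac, e]
          rw [hsplit, ε_xor, ε_dl, hrest, mul_one] at he
          exact absurd he (by decide)
      cases e : f i₀
      · left; funext a
        by_cases hac : a = c
        · rw [hac, hfc]
        · rw [hO a hac, e]
      · right; funext a
        by_cases hac : a = c
        · simp [hac, hfc]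
        · simp [hac, hO a hac, e]
  -- a 2-group
  have hP : IsPGroup 2 (evenLift (β := β) Q) := by
    obtain ⟨l, hl⟩ := IsPGroup.iff_card.1 hQ
    exact (IsPGroup.of_card (n := l + Fintype.card α) (by rw [card_lifted, hl, pow_add])).to_le inf_le_left
  refine not_decomp_of_center _ hP (mk 1 f₁) fun g hg hz => ?_
  obtain ⟨q, hq, f, hf, rfl⟩ := mem_even.1 hg
  have key : ∀ i l a, xor (f a) (xor (dl i (q a)) (dl l (q a))) = xor (xor (dl i a) (dl l a)) (f a) := by
    intro i l a
    have e := hz _ (dl2_mem Q i l)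
    rw [mk_mul, mk_mul, mul_one, one_mul] at e
    have := congrFun (mk_inj e).2 a
    simpa [Perm.one_apply] using this
  have hq1 : q = 1 := Equiv.ext fun i => by
    rw [Perm.one_apply]
    by_contra hne
    obtain ⟨l, hl⟩ := Finset.exists_mem_notMem_of_card_lt_card
      (s := ({i, q i} : Finset α)) (t := Finset.univ) (lt_of_le_of_lt Finset.card_le_two h3)
    simp only [Finset.mem_insert, Finset.mem_singleton, not_or] at hl
    have := key i l i
    simp [dl, hne, Ne.symm hl.2.1, Ne.symm hl.2.2] at this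
  subst hq1
  have hinv : ∀ p ∈ Q, ∀ a, f (p a) = f a := by
    intro p hp a
    obtain ⟨g, hg⟩ := exists_mem_even (β := β) Q hp
    have e := hz _ hg
    rw [mk_mul, mk_mul, mul_one, one_mul] at e
    have := congrFun (mk_inj e).2 a
    simp only [Perm.one_apply] at this
    cases h1 : f a <;> cases h2 : f (p a) <;> cases h3 : g a <;> simp [h1, h2, h3] at this ⊢
  rcases hf₁ f hinv hf with e | e
  · left; rw [e, mk_one]
  · right; rw [e]

variable (Q : Sylow 2 (Perm α))

/-- A Sylow subgroup contains the restrictions of its elements to its orbits. -/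
theorem exists_restrict {q : Perm α} (hq : q ∈ (Q : Subgroup (Perm α))) (i : α) :
    ∃ q' ∈ (Q : Subgroup (Perm α)), (∀ a, (∃ r ∈ (Q : Subgroup (Perm α)), r i = a) → q' a = q a) ∧
      ∀ a, (¬ ∃ r ∈ (Q : Subgroup (Perm α)), r i = a) → q' a = a := by
  classical
  haveI : Fact (Nat.Prime 2) := ⟨Nat.prime_two⟩
  set Qs := (Q : Subgroup (Perm α))
  let R : α → α → Prop := fun j a => ∃ r ∈ Qs, r j = a
  have Rtrans : ∀ {j a b}, R j a → R a b → R j b := by
    rintro j a b ⟨r, hr, rfl⟩ ⟨s, hs, rfl⟩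
    exact ⟨s * r, Qs.mul_mem hs hr, rfl⟩
  have Rsymm : ∀ {j a}, R j a → R a j := by
    rintro j a ⟨r, hr, rfl⟩
    exact ⟨r⁻¹, Qs.inv_mem hr, by simp⟩
  let K : Subgroup (Perm α) :=
    { carrier := {g | ∀ j, ∃ r ∈ Qs, ∀ a, R j a → g a = r a}
      one_mem' := fun j => ⟨1, Qs.one_mem, fun a _ => rfl⟩
      mul_mem' := fun {g g'} hg hg' j => by
        obtain ⟨r', hr', h'⟩ := hg' j
        obtain ⟨r, hr, h⟩ := hg j
        refine ⟨r * r', Qs.mul_mem hr hr', fun a ha => ?_⟩
        rw [Perm.mul_apply, Perm.mul_apply, h' a ha]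
        exact h _ (Rtrans ha ⟨r', hr', rfl⟩)
      inv_mem' := fun {g} hg j => by
        obtain ⟨r, hr, h⟩ := hg j
        refine ⟨r⁻¹, Qs.inv_mem hr, fun a ha => g.injective ?_⟩
        rw [h _ (Rtrans ha ⟨r⁻¹, Qs.inv_mem hr, rfl⟩)]
        simp }
  obtain ⟨n, hn⟩ := IsPGroup.iff_card.1 Q.isPGroup'
  have hK : IsPGroup 2 K := fun g => by
    refine ⟨n, Subtype.ext (Equiv.ext fun a => ?_)⟩
    obtain ⟨r, hr, h⟩ := g.2 a
    have hk : ∀ k : ℕ, ((g : Perm α) ^ k) a = (r ^ k) a := by
      intro k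
      induction k with
      | zero => rfl
      | succ k ih =>
        rw [pow_succ', pow_succ', Perm.mul_apply, Perm.mul_apply, ih]
        exact h _ ⟨r ^ k, Qs.pow_mem hr k, rfl⟩
    have e : r ^ Nat.card Qs = 1 := congrArg Subtype.val (pow_card_eq_one' (x := (⟨r, hr⟩ : Qs)))
    show (((g ^ (2 ^ n) : K)) : Perm α) a = a
    rw [SubgroupClass.coe_pow, hk, ← hn, e, Perm.one_apply]
  have hKQ : K = Qs := Q.is_maximal' hK fun g hg j => ⟨g, hg, fun _ _ => rfl⟩
  let g : Perm α :=
    { toFun := fun a => if R i a then q a else a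
      invFun := fun a => if R i a then q⁻¹ a else a
      left_inv := fun a => by
        beta_reduce
        by_cases h : R i a
        · rw [if_pos h, if_pos (Rtrans h ⟨q, hq, rfl⟩)]; simp
        · rw [if_neg h, if_neg h]
      right_inv := fun a => by
        beta_reduce
        by_cases h : R i a
        · rw [if_pos h, if_pos (Rtrans h ⟨q⁻¹, Qs.inv_mem hq, rfl⟩)]; simp
        · rw [if_neg h, if_neg h] }
  have hg : g ∈ K := fun j => by
    by_cases h : R i j
    · exact ⟨q, hq, fun a ha => if_pos (Rtrans h ha)⟩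
    · exact ⟨1, Qs.one_mem, fun a ha => if_neg fun h' => h (Rtrans h' (Rsymm ha))⟩
  exact ⟨g, hKQ ▸ hg, fun a ha => if_pos ha, fun a ha => if_neg ha⟩

theorem decomp_of_fixed (c i₀ i₁ : α) (hc : ∀ q ∈ (Q : Subgroup (Perm α)), q c = c) (h0 : i₀ ≠ c) (h1 : i₁ ≠ c)
    (hne : ¬ ∃ r ∈ (Q : Subgroup (Perm α)), r i₀ = i₁) :
    Decomp (evenLift (β := β) (Q : Subgroup (Perm α))) := by
  classical
  haveI : Nonempty α := ⟨c⟩
  set Qs := (Q : Subgroup (Perm α))
  let O : α → Prop := fun a => ∃ r ∈ Qs, r i₀ = a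
  have hOc : ¬ O c := fun ⟨r, hr, e⟩ => h0 (r.injective (e.trans (hc r hr).symm))
  have hOq : ∀ q ∈ Qs, ∀ a, (O (q a) ↔ O a) := fun q hq a =>
    ⟨fun ⟨r, hr, e⟩ => ⟨q⁻¹ * r, Qs.mul_mem (Qs.inv_mem hq) hr, by rw [Perm.mul_apply, e]; simp⟩,
      fun ⟨r, hr, e⟩ => ⟨q * r, Qs.mul_mem hq hr, by rw [Perm.mul_apply, e]⟩⟩
  have mkSub : ∀ (A : α → Prop), (∀ q ∈ Qs, ∀ a, (A (q a) ↔ A a)) →
      ∃ T : Subgroup (Perm (Pts α β)), ∀ g, g ∈ T ↔ ∃ q ∈ Qs, ∃ f, ε f = 1 ∧ g = mk q f ∧
        (∀ a, A a → q a = a) ∧ ∀ a, A a → f a = false := by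
    intro A hA
    refine ⟨{ carrier := {g | ∃ q ∈ Qs, ∃ f, ε f = 1 ∧ g = mk q f ∧
        (∀ a, A a → q a = a) ∧ ∀ a, A a → f a = false}
              one_mem' := ⟨1, Qs.one_mem, _, ε_false, mk_one.symm, fun a _ => rfl, fun a _ => rfl⟩
              mul_mem' := ?_
              inv_mem' := ?_ }, fun g => Iff.rfl⟩
    · rintro _ _ ⟨q, hq, f, hf, rfl, hq1, hf1⟩ ⟨q', hq', f', hf', rfl, hq1', hf1'⟩
      refine ⟨q * q', Qs.mul_mem hq hq', _, ?_, mk_mul q q' f f', fun a ha => ?_, fun a ha => ?_⟩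
      · rw [ε_xor, hf', ε_comp, hf, one_mul]
      · rw [Perm.mul_apply, hq1' a ha, hq1 a ha]
      · rw [hf1' a ha, hq1' a ha, hf1 a ha]; rfl
    · rintro _ ⟨q, hq, f, hf, rfl, hq1, hf1⟩
      refine ⟨q⁻¹, Qs.inv_mem hq, _, (ε_comp f q⁻¹).trans hf, mk_inv q f, fun a ha => ?_, fun a ha => ?_⟩
      · rw [Perm.inv_def, Equiv.symm_apply_eq, hq1 a ha]
      · rw [Perm.inv_def, (Equiv.symm_apply_eq q).2 (hq1 a ha).symm, hf1 a ha]
  obtain ⟨S₁, hS₁⟩ := mkSub (fun a => ¬ O a ∧ a ≠ c) fun q hq a => by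
    rw [hOq q hq]
    exact and_congr_right fun _ => ⟨fun h e => h (by rw [e, hc q hq]),
      fun h e => h (q.injective (e.trans (hc q hq).symm))⟩
  obtain ⟨S₂, hS₂⟩ := mkSub O hOq
  refine ⟨S₁, S₂, ?_, ?_, ?_, ?_, ?_, ?_, ?_⟩
  · intro h
    have hm : mk (β := β) 1 (fun a => xor (dl i₀ a) (dl c a)) ∈ S₁ := (hS₁ _).2
      ⟨1, Qs.one_mem, _, ε_dl2 i₀ c, rfl, fun a _ => rfl, fun a ha => by
        have : a ≠ i₀ := fun e => ha.1 ⟨1, Qs.one_mem, e.symm⟩
        simp [dl, this, ha.2]⟩
    rw [h, Subgroup.mem_bot, ← mk_one] at hm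
    have := congrFun (mk_inj hm).2 i₀
    simp [dl, h0] at this
  · intro h
    have hm : mk (β := β) 1 (fun a => xor (dl i₁ a) (dl c a)) ∈ S₂ := (hS₂ _).2
      ⟨1, Qs.one_mem, _, ε_dl2 i₁ c, rfl, fun a _ => rfl, fun a ha => by
        have h1' : a ≠ i₁ := fun e => hne (e ▸ ha)
        have h2' : a ≠ c := fun e => hOc (e ▸ ha)
        simp [dl, h1', h2']⟩
    rw [h, Subgroup.mem_bot, ← mk_one] at hm
    have := congrFun (mk_inj hm).2 i₁
    simp [dl, h1] at this
  · intro g hg
    obtain ⟨q, hq, f, hf, e, -, -⟩ := (hS₁ g).1 hg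
    exact mem_even.2 ⟨q, hq, f, hf, e⟩
  · intro g hg
    obtain ⟨q, hq, f, hf, e, -, -⟩ := (hS₂ g).1 hg
    exact mem_even.2 ⟨q, hq, f, hf, e⟩
  · intro g hg g' hg'
    obtain ⟨q, hq, f, -, rfl, hq1, hf1⟩ := (hS₁ g).1 hg
    obtain ⟨q', hq', f', -, rfl, hq1', hf1'⟩ := (hS₂ g').1 hg'
    rw [mk_mul, mk_mul]
    have e : ∀ a, q (q' a) = q' (q a) ∧ xor (f' a) (f (q' a)) = xor (f a) (f' (q a)) := by
      intro a
      by_cases ha : O a
      · have ha' : O (q a) := (hOq q hq a).2 ha
        rw [hq1' a ha, hq1' _ ha', hf1' a ha, hf1' _ ha']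
        exact ⟨rfl, by simp⟩
      · by_cases hac : a = c
        · subst hac
          rw [hc q hq, hc q' hq', hc q hq]
          exact ⟨rfl, Bool.xor_comm _ _⟩
        · have ha' : ¬ O (q' a) := fun h => ha ((hOq q' hq' a).1 h)
          have hac' : q' a ≠ c := fun e => hac (q'.injective (e.trans (hc q' hq').symm))
          rw [hq1 a ⟨ha, hac⟩, hq1 _ ⟨ha', hac'⟩, hf1 a ⟨ha, hac⟩, hf1 _ ⟨ha', hac'⟩]
          exact ⟨rfl, by simp⟩
    congr 1
    · exact Equiv.ext fun a => (e a).1
    · exact funext fun a => (e a).2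
  · rw [eq_bot_iff]
    intro g hg
    obtain ⟨q, hq, f, hf, rfl, hq1, hf1⟩ := (hS₁ g).1 hg.1
    obtain ⟨q', hq', f', -, e, hq1', hf1'⟩ := (hS₂ _).1 hg.2
    obtain ⟨rfl, rfl⟩ := mk_inj e
    rw [Subgroup.mem_bot, ← mk_one]
    have hfa : ∀ a, a ≠ c → f a = false := fun a ha => by
      by_cases hO : O a
      · exact hf1' a hO
      · exact hf1 a ⟨hO, ha⟩
    congr 1
    · refine Equiv.ext fun a => ?_
      rw [Perm.one_apply]
      by_cases hO : O a
      · exact hq1' a hO
      · by_cases hac : a = c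
        · rw [hac]; exact hc q hq
        · exact hq1 a ⟨hO, hac⟩
    · funext a
      by_cases hac : a = c
      · subst hac
        cases e : f a
        · rfl
        · exfalso
          have : f = dl a := funext fun b => by
            by_cases hb : b = a
            · simp [dl, hb, e]
            · simp [dl, hb, hfa b hb]
          rw [this, ε_dl] at hf
          exact absurd hf (by decide)
      · exact hfa a hac
  · refine le_antisymm (sup_le ?_ ?_) fun g hg => ?_
    · intro g hg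
      obtain ⟨q, hq, f, hf, e, -, -⟩ := (hS₁ g).1 hg
      exact mem_even.2 ⟨q, hq, f, hf, e⟩
    · intro g hg
      obtain ⟨q, hq, f, hf, e, -, -⟩ := (hS₂ g).1 hg
      exact mem_even.2 ⟨q, hq, f, hf, e⟩
    obtain ⟨q, hq, f, hf, rfl⟩ := mem_even.1 hg
    obtain ⟨q₁, hq₁, hin, hout⟩ := exists_restrict Q hq i₀
    set F₁ : α → Bool := fun a => decide (O a) && f a with hF₁
    set lam : Bool := decide (ε F₁ = -1) with hlam
    set f₁ : α → Bool := fun a => xor (F₁ a) (lam && dl c a) with hf₁def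
    have hf₁ : ε f₁ = 1 := by
      rw [hf₁def, ε_xor]
      rcases Int.units_eq_one_or (ε F₁) with e | e
      · simp [hlam, e, ε_false]
      · simp only [hlam, e, decide_true, Bool.true_and]
        rw [ε_dl, Int.units_mul_self]
    have hm : mk q₁ f₁ ∈ S₁ := (hS₁ _).2 ⟨q₁, hq₁, f₁, hf₁, rfl,
      fun a ha => hout a ha.1, fun a ha => by simp [hf₁def, hF₁, dl, ha.1, ha.2]⟩
    have hm2 : (mk (β := β) q₁ f₁)⁻¹ * mk q f ∈ S₂ := by
      refine (hS₂ _).2 ⟨q₁⁻¹ * q, Qs.mul_mem (Qs.inv_mem hq₁) hq, _, ?_, by rw [mk_inv, mk_mul],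
        fun a ha => ?_, fun a ha => ?_⟩
      · rw [ε_xor, ε_comp (fun a => f₁ (q₁⁻¹ a)) q, ε_comp, hf, hf₁, one_mul]
      · rw [Perm.mul_apply, ← hin a ha]; simp
      · have e1 : q₁⁻¹ (q a) = a := by rw [← hin a ha]; simp
        have hac : a ≠ c := fun e => hOc (e ▸ ha)
        simp [e1, hf₁def, hF₁, dl, hac, ha]
    have := Subgroup.mul_mem_sup hm hm2
    rwa [mul_inv_cancel_left] at this

theorem not_decomp_multi (hfix : ∀ a, ∃ q ∈ (Q : Subgroup (Perm α)), q a ≠ a)
    (hmulti : ∀ i, ∃ l, ¬ ∃ r ∈ (Q : Subgroup (Perm α)), r i = l) (hm : Nonempty α) :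
    ¬ Decomp (evenLift (β := β) (Q : Subgroup (Perm α))) := by
  classical
  set Qs := (Q : Subgroup (Perm α))
  set P := evenLift (β := β) Qs with hP
  rintro ⟨S₁, S₂, hS₁, hS₂, hd⟩
  have hd' : Cfsg.IsInternalDirectProduct S₂ S₁ P :=
    ⟨hd.2.1, hd.1, fun a ha b hb => (hd.2.2.1 b hb a ha).symm, by rw [inf_comm]; exact hd.2.2.2.1,
      by rw [sup_comm]; exact hd.2.2.2.2⟩
  -- a pair moved by both factors
  have agree : ∀ {T₁ T₂ : Subgroup (Perm (Pts α β))}, Cfsg.IsInternalDirectProduct T₁ T₂ P →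
      ∀ {qa qb fa fb} {i : α}, mk qa fa ∈ T₁ → mk qb fb ∈ T₂ → qa ∈ Qs → qb ∈ Qs →
      qa i ≠ i → qb i ≠ i → qb i = qa i := by
    intro T₁ T₂ hT qa qb fa fb i ha hb hqa hqb hai hbi
    obtain ⟨l, hl⟩ := hmulti i
    have hli : l ≠ i := fun e => hl ⟨1, Qs.one_mem, e.symm⟩
    have hla : qa l ≠ i := fun e => hl ⟨qa⁻¹, Qs.inv_mem hqa, by rw [← e]; simp⟩
    have hlai : qa⁻¹ (qb i) ≠ l := fun e => hl ⟨qa⁻¹ * qb, Qs.mul_mem (Qs.inv_mem hqa) hqb, e⟩
    have hlb : qb i ≠ l := fun e => hl ⟨qb, hqb, e⟩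
    set t := mk (β := β) 1 (fun a => xor (dl i a) (dl l a)) with ht
    have htP : t ∈ P := dl2_mem Qs i l
    -- the commutator lies in the first factor
    obtain ⟨s₁, hs₁, s₂, hs₂, hts⟩ := mul_of_decomp hT htP
    have hcomm : mk qa fa * t * (mk qa fa)⁻¹ * t⁻¹ ∈ T₁ := by
      have e1 : t * (mk qa fa)⁻¹ * t⁻¹ ∈ T₁ := by
        rw [hts]
        have e2 : s₁ * s₂ * (mk qa fa)⁻¹ * (s₁ * s₂)⁻¹ = s₁ * (mk qa fa)⁻¹ * s₁⁻¹ := by
          rw [mul_assoc s₁ s₂, ← hT.2.2.1 _ (T₁.inv_mem ha) s₂ hs₂]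
          group
        rw [e2]
        exact T₁.mul_mem (T₁.mul_mem hs₁ (T₁.inv_mem ha)) (T₁.inv_mem hs₁)
      rw [show mk qa fa * t * (mk qa fa)⁻¹ * t⁻¹ = mk qa fa * (t * (mk qa fa)⁻¹ * t⁻¹) by group]
      exact T₁.mul_mem ha e1
    have e : mk qa fa * t * (mk qa fa)⁻¹ * t⁻¹ =
        mk (β := β) 1 (fun a => xor (xor (dl i a) (dl l a)) (xor (dl i (qa⁻¹ a)) (dl l (qa⁻¹ a)))) := by
      rw [ht, mk_inv, mk_inv, mk_mul, mk_mul, mk_mul]
      congr 1
      · simp
      · funext a
        simp only [inv_one, Perm.one_apply, mul_one]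
        generalize fa (qa⁻¹ a) = x
        generalize dl i a = y
        generalize dl l a = z
        generalize dl i (qa⁻¹ a) = u
        generalize dl l (qa⁻¹ a) = w
        cases x <;> cases y <;> cases z <;> cases u <;> cases w <;> rfl
    rw [e] at hcomm
    have hc := hT.2.2.1 _ hcomm _ hb
    rw [mk_mul, mk_mul, one_mul, mul_one] at hc
    have hci := congrFun (mk_inj hc).2 i
    simp only [Perm.one_apply] at hci
    have a1 : qa⁻¹ i ≠ i := fun e => hai (by conv_lhs => rw [← e]; simp)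
    have a2 : qa⁻¹ i ≠ l := fun e => hla (by rw [← e]; simp)
    by_contra hne
    have a3 : qa⁻¹ (qb i) ≠ i := fun e => hne (by conv_rhs => rw [← e]; simp)
    simp only [Perm.inv_def] at a1 a2 a3 hlai
    simp [dl, hbi, hli.symm, a1, a2, a3, hlai, hlb] at hci
  -- one of the factors fixes each orbit pairwise
  have hproj : ∀ q ∈ Qs, ∀ f, ε f = 1 → ∃ qa fa qb fb, qa ∈ Qs ∧ qb ∈ Qs ∧ mk qa fa ∈ S₁ ∧ mk qb fb ∈ S₂ ∧
      q = qa * qb ∧ f = fun a => xor (fb a) (fa (qb a)) := by
    intro q hq f hf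
    obtain ⟨s₁, hs₁, s₂, hs₂, e⟩ := mul_of_decomp hd (mem_even.2 ⟨q, hq, f, hf, rfl⟩ : mk q f ∈ P)
    obtain ⟨qa, hqa, fa, -, rfl⟩ := mem_even.1 (hd.1 hs₁)
    obtain ⟨qb, hqb, fb, -, rfl⟩ := mem_even.1 (hd.2.1 hs₂)
    rw [mk_mul] at e
    exact ⟨qa, fa, qb, fb, hqa, hqb, hs₁, hs₂, mk_inj e⟩
  have hdich : ∀ i, (∀ q f, q ∈ Qs → mk q f ∈ S₁ → q i = i) ∨ ∀ q f, q ∈ Qs → mk q f ∈ S₂ → q i = i := by
    intro i
    by_contra hcon
    push Not at hcon
    obtain ⟨⟨qa, fa, hqa, ha, hai⟩, qb, fb, hqb, hb, hbi⟩ := hcon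
    set j := qa i with hj
    have m1 : ∀ q f, q ∈ Qs → mk q f ∈ S₁ → q i = i ∨ q i = j := fun q f hq h => by
      by_cases h' : q i = i
      · exact Or.inl h'
      · exact Or.inr ((agree hd h hb hq hqb h' hbi).symm.trans (agree hd ha hb hqa hqb hai hbi))
    have hbj : qb i = j := agree hd ha hb hqa hqb hai hbi
    have m2 : ∀ q f, q ∈ Qs → mk q f ∈ S₂ → q i = i ∨ q i = j := fun q f hq h => by
      by_cases h' : q i = i
      · exact Or.inl h'
      · exact Or.inr (agree hd ha h hqa hq hai h')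
    have hbb : qb j = i := by
      have h := m2 (qb * qb) (fun a => xor (fb a) (fb (qb a))) (Qs.mul_mem hqb hqb)
        (by rw [← mk_mul]; exact S₂.mul_mem hb hb)
      rw [Perm.mul_apply, hbj] at h
      rcases h with h | h
      · exact h
      · exact absurd (qb.injective (hbj.trans h.symm)).symm hai
    obtain ⟨l, hl⟩ := hmulti i
    obtain ⟨qs, fs, qr, fr, hqs, hqr, hs, hr, hq, hf⟩ := hproj 1 Qs.one_mem _ (ε_dl2 i l)
    have hvi := congrFun hf i
    have hvj := congrFun hf j
    have hlj : j ≠ l := fun e => hl ⟨qa, hqa, e⟩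
    have hli : i ≠ l := fun e => hl ⟨1, Qs.one_mem, e⟩
    have hij : i ≠ j := fun e => hai e.symm
    simp only [dl, decide_true, hli, hlj, Ne.symm hij, decide_false, Bool.xor_false] at hvi hvj
    -- commutation with the moving element of the second factor, and among the two parts
    have c1 := hd.2.2.1 _ hs _ hb
    rw [mk_mul, mk_mul] at c1
    have c2 := congrFun (mk_inj c1).2 i
    have c3 := hd.2.2.1 _ ha _ hr
    rw [mk_mul, mk_mul] at c3
    have c4 := congrFun (mk_inj c3).2 i
    have c5 := hd.2.2.1 _ hs _ hr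
    rw [mk_mul, mk_mul] at c5
    have c6 := congrFun (mk_inj c5).2 i
    simp only [hbj, ← hj] at c2 c4
    rcases m2 qr fr hqr hr with hri | hri
    · have hsi : qs i = i := by
        have := congrArg (fun g : Perm α => g i) hq
        simp only [Perm.mul_apply, Perm.one_apply, hri] at this
        exact this.symm
      have hsj : qs j = j := by
        have := congrArg (fun g : Perm α => g i) (mk_inj c1).1
        simp only [Perm.mul_apply, hbj, hsi] at this
        exact this
      have hrj : qr j = j := by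
        have := congrArg (fun g : Perm α => g i) (mk_inj c3).1
        simp only [Perm.mul_apply, ← hj, hri] at this
        exact this.symm
      rw [hri] at hvi c4
      rw [hrj] at hvj
      rw [hsi] at c2
      revert hvi hvj c2 c4
      cases fs i <;> cases fs j <;> cases fr i <;> cases fr j <;> cases fb i <;> cases fa i <;> decide
    · have hsj : qs j = i := by
        have := congrArg (fun g : Perm α => g i) hq
        simp only [Perm.mul_apply, Perm.one_apply, hri] at this
        exact this.symm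
      have hsi : qs i = j := by
        have := congrArg (fun g : Perm α => g i) (mk_inj c1).1
        simp only [Perm.mul_apply, hbj, hsj] at this
        rcases m1 qs fs hqs hs with h | h
        · exact absurd (qs.injective (h.trans hsj.symm)).symm hai
        · exact h
      have hrj : qr j = i := by
        have h := m2 (qr * qr) (fun a => xor (fr a) (fr (qr a))) (Qs.mul_mem hqr hqr)
          (by rw [← mk_mul]; exact S₂.mul_mem hr hr)
        rw [Perm.mul_apply, hri] at h
        rcases h with h | h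
        · exact h
        · exact absurd (qr.injective (hri.trans h.symm)).symm hai
      rw [hri] at hvi c6
      rw [hrj] at hvj
      rw [hsi] at c6
      revert hvi hvj c6
      cases fs i <;> cases fs j <;> cases fr i <;> cases fr j <;> decide
  -- the side of a pair is an orbit invariant
  have Tinv : ∀ {T₁ T₂ : Subgroup (Perm (Pts α β))}, Cfsg.IsInternalDirectProduct T₁ T₂ P → ∀ {i : α},
      (∀ q f, q ∈ Qs → mk q f ∈ T₂ → q i = i) → ∀ r ∈ Qs,
      (∀ q f, q ∈ Qs → mk q f ∈ T₂ → q (r i) = r i ∧ f (r i) = f i) := by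
    intro T₁ T₂ hT i hi r hr q f hq hqf
    obtain ⟨g, hg⟩ := exists_mem_even (β := β) Qs hr
    obtain ⟨s₁, hs₁, s₂, hs₂, e⟩ := mul_of_decomp hT hg
    obtain ⟨qa, hqa, fa, -, rfl⟩ := mem_even.1 (hT.1 hs₁)
    obtain ⟨qb, hqb, fb, -, rfl⟩ := mem_even.1 (hT.2.1 hs₂)
    rw [mk_mul] at e
    have hr' : r i = qa i := by rw [(mk_inj e).1, Perm.mul_apply, hi qb fb hqb hs₂]
    rw [hr']
    have c := hT.2.2.1 _ hs₁ _ hqf
    rw [mk_mul, mk_mul] at c
    have c1 := congrArg (fun g : Perm α => g i) (mk_inj c).1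
    simp only [Perm.mul_apply, hi q f hq hqf] at c1
    refine ⟨c1.symm, ?_⟩
    have c2 := congrFun (mk_inj c).2 i
    simp only [hi q f hq hqf] at c2
    revert c2
    cases f i <;> cases f (qa i) <;> cases fa i <;> decide
  let T : α → Bool := fun i => decide (∀ q f, q ∈ Qs → mk q f ∈ S₂ → q i = i)
  have hT2 : ∀ {i}, T i = true → ∀ q f, q ∈ Qs → mk q f ∈ S₂ → q i = i := fun h => of_decide_eq_true h
  have hTinv : ∀ r ∈ Qs, ∀ i, T (r i) = T i := by
    have h1 : ∀ r ∈ Qs, ∀ i, T i = true → T (r i) = true := fun r hr i hi =>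
      decide_eq_true fun q f hq hqf => (Tinv hd (hT2 hi) r hr q f hq hqf).1
    intro r hr i
    rw [Bool.eq_iff_iff]
    exact ⟨fun h => by simpa using h1 r⁻¹ (Qs.inv_mem hr) _ h, h1 r hr i⟩
  have hT1 : ∀ {i}, T i = false → ∀ q f, q ∈ Qs → mk q f ∈ S₁ → q i = i := fun {i} h =>
    (hdich i).resolve_right (of_decide_eq_false h)
  by_cases hmix : (∃ i, T i = true) ∧ ∃ l, T l = false
  · obtain ⟨⟨i, hi⟩, l, hl⟩ := hmix
    obtain ⟨qa, fa, qb, fb, hqa, hqb, ha, hb, hq, hf⟩ := hproj 1 Qs.one_mem _ (ε_dl2 i l)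
    have b0 : ε (fun a => T a && fb a) = 1 := by
      refine ε_invariant Q.isPGroup' _ (fun r hr a => ?_) fun a _ => hfix a
      rw [hTinv r hr]
      cases hTa : T a
      · rfl
      · rw [Bool.true_and, Bool.true_and, (Tinv hd (hT2 hTa) r hr qb fb hqb hb).2]
    have a0 : ε (fun a => !T a && fa a) = 1 := by
      refine ε_invariant Q.isPGroup' _ (fun r hr a => ?_) fun a _ => hfix a
      rw [hTinv r hr]
      cases hTa : T a
      · simp only [Bool.not_false, Bool.true_and]
        exact (Tinv hd' (hT1 hTa) r hr qa fa hqa ha).2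
      · rfl
    have a1 : ε (fun a => T a && fa a) = 1 := by
      have he : ε fa = 1 := by
        obtain ⟨q, -, f, hf', e⟩ := mem_even.1 (hd.1 ha)
        rwa [(mk_inj e).2]
      have hsplit : fa = fun a => xor (T a && fa a) (!T a && fa a) := funext fun a => by
        cases T a <;> cases fa a <;> rfl
      rw [hsplit, ε_xor, a0, mul_one] at he
      exact he
    have a2 : ε (fun a => T a && fa (qb a)) = 1 := by
      refine (Eq.trans ?_ (ε_comp (fun a => T a && fa a) qb)).trans a1
      congr 1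
      funext a
      rw [hTinv qb hqb]
    have h2 : ε (fun a => T a && (xor (dl i a) (dl l a))) = -1 := by
      refine Eq.trans ?_ (ε_dl i)
      congr 1
      funext a
      by_cases h1 : a = i
      · subst h1
        have : a ≠ l := fun e => by rw [e, hl] at hi; exact absurd hi (by decide)
        simp [dl, this, hi]
      · by_cases h2 : a = l
        · subst h2; simp [dl, h1, hl]
        · simp [dl, h1, h2]
    have hfa : ∀ a, xor (dl i a) (dl l a) = xor (fb a) (fa (qb a)) := congrFun hf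
    simp only [hfa] at h2
    have h3 : ε (fun a => T a && xor (fb a) (fa (qb a))) = 1 := by
      refine Eq.trans ?_ ((ε_xor (fun a => T a && fb a) (fun a => T a && fa (qb a))).trans (by rw [b0, a2, one_mul]))
      congr 1
      funext a
      cases T a <;> simp
    rw [h3] at h2
    exact absurd h2 (by decide)
  -- one factor consists of invariant switches
  have last : ∀ {T₁ T₂ : Subgroup (Perm (Pts α β))}, Cfsg.IsInternalDirectProduct T₁ T₂ P → T₂ ≠ ⊥ →
      (∀ i, ∀ q f, q ∈ Qs → mk q f ∈ T₂ → q i = i) → False := by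
    intro T₁ T₂ hT hne htriv
    haveI : Fact (Nat.Prime 2) := ⟨Nat.prime_two⟩
    have hsq2 : ∀ s ∈ T₂, s * s = 1 := by
      intro s hs
      obtain ⟨q, hq, f, -, rfl⟩ := mem_even.1 (hT.2.1 hs)
      have : q = 1 := Equiv.ext fun i => htriv i q f hq hs
      subst this
      rw [mk_mul, mul_one, ← mk_one]
      congr 1
      funext a
      simp
    have hsq : ∀ x ∈ P, x * x ∈ T₁ := by
      intro x hx
      obtain ⟨a, ha, b, hb, rfl⟩ := mul_of_decomp hT hx
      rw [show a * b * (a * b) = a * a * (b * b) by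
        rw [mul_assoc a b, ← mul_assoc b a b, ← hT.2.2.1 a ha b hb]; group, hsq2 b hb, mul_one]
      exact T₁.mul_mem ha ha
    -- the switch on a single orbit is a square
    have orb : ∀ i, mk (β := β) 1 (fun a => decide (∃ r ∈ Qs, r i = a)) ∈ T₁ := by
      intro i
      let O : α → Prop := fun a => ∃ r ∈ Qs, r i = a
      -- restrictions form a 2-group acting transitively
      let K : Subgroup (Perm α) :=
        { carrier := {q | q ∈ Qs ∧ ∀ a, ¬ O a → q a = a}
          one_mem' := ⟨Qs.one_mem, fun a _ => rfl⟩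
          mul_mem' := fun {g g'} hg hg' => ⟨Qs.mul_mem hg.1 hg'.1, fun a ha => by
            rw [Perm.mul_apply, hg'.2 a ha, hg.2 a ha]⟩
          inv_mem' := fun {g} hg => ⟨Qs.inv_mem hg.1, fun a ha => by
            rw [Perm.inv_def, Equiv.symm_apply_eq, hg.2 a ha]⟩ }
      have hKtr : ∀ a, O a → ∃ k ∈ K, k i = a := by
        rintro a ⟨r, hr, rfl⟩
        obtain ⟨r', hr', hin, hout⟩ := exists_restrict Q hr i
        exact ⟨r', ⟨hr', hout⟩, hin i ⟨1, Qs.one_mem, rfl⟩⟩
      have hK : IsPGroup 2 K := Q.isPGroup'.to_le fun g hg => hg.1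
      haveI : Nontrivial K := by
        obtain ⟨q, hq, hqi⟩ := hfix i
        obtain ⟨k, hk, e⟩ := hKtr (q i) ⟨q, hq, rfl⟩
        exact nontrivial_of_ne (⟨k, hk⟩ : K) 1 fun h => hqi (by
          rw [← e, show k = 1 from congrArg Subtype.val h]; rfl)
      haveI : Nontrivial (Subgroup.center K) := hK.center_nontrivial
      have hdvd : 2 ∣ Nat.card (Subgroup.center K) := by
        obtain ⟨n, hn⟩ := IsPGroup.iff_card.1 (hK.to_subgroup (Subgroup.center K))
        have h1 : 1 < Nat.card (Subgroup.center K) := Finite.one_lt_card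
        rcases n with _ | n
        · rw [hn, pow_zero] at h1; omega
        · exact hn ▸ dvd_pow_self 2 n.succ_ne_zero
      obtain ⟨z, hz⟩ := exists_prime_orderOf_dvd_card' 2 hdvd
      set w : Perm α := ((z : K) : Perm α) with hw
      have hwQ : w ∈ Qs := z.1.2.1
      have hw2 : ∀ a, w (w a) = a := fun a => by
        have : (z : Subgroup.center K) ^ 2 = 1 := hz ▸ pow_orderOf_eq_one z
        have := congrArg (fun y : Subgroup.center K => ((y : K) : Perm α) a) this
        simpa [pow_two, hw] using this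
      have hfree : ∀ a, O a → w a ≠ a := by
        intro a ha e
        have hwi : ∀ b, O b → w b = b := by
          intro b hb
          obtain ⟨k, hk, hka⟩ := hKtr a ha
          obtain ⟨k', hk', hkb⟩ := hKtr b hb
          have hzc := congrArg (fun y : K => (y : Perm α) a)
            (Subgroup.mem_center_iff.1 z.2 (⟨k', hk'⟩ * ⟨k, hk⟩⁻¹ : K))
          simp only [Subgroup.coe_mul, InvMemClass.coe_inv, Perm.mul_apply, ← hw] at hzc
          rw [e, show k⁻¹ a = i by rw [← hka]; simp, hkb] at hzc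
          exact hzc.symm
        have h1 : z = 1 := Subtype.ext (Subtype.ext (Equiv.ext fun b => by
          by_cases hb : O b
          · exact hwi b hb
          · exact z.1.2.2 b hb))
        rw [h1, orderOf_one] at hz
        exact absurd hz (by norm_num)
      have hOw : ∀ a, O a → O (w a) := fun a ⟨r, hr, e⟩ => ⟨w * r, Qs.mul_mem hwQ hr, by rw [Perm.mul_apply, e]⟩
      let e := Fintype.equivFin α
      let h : α → Bool := fun a => decide (O a ∧ e a < e (w a))
      obtain ⟨l, hl⟩ := hmulti i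
      have hwl : w l = l := z.1.2.2 l hl
      set lam : Bool := decide (ε h = -1) with hlam
      set f : α → Bool := fun a => xor (h a) (lam && dl l a) with hfdef
      have hf : ε f = 1 := by
        rw [hfdef, ε_xor]
        rcases Int.units_eq_one_or (ε h) with e | e
        · simp [hlam, e, ε_false]
        · simp only [hlam, e, decide_true, Bool.true_and]
          rw [ε_dl, Int.units_mul_self]
      have := hsq _ (mem_even.2 ⟨w, hwQ, f, hf, rfl⟩ : mk w f ∈ P)
      rw [mk_mul] at this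
      convert this using 2
      · exact (Equiv.ext fun a => hw2 a).symm
      funext a
      have hl' : dl l (w a) = dl l a := by
        simp only [dl, decide_eq_decide]
        exact ⟨fun h => w.injective (h.trans hwl.symm), fun h => by rw [h, hwl]⟩
      simp only [hfdef, hl', h, hw2]
      by_cases ha : O a
      · have hne : e a ≠ e (w a) := fun h => hfree a ha (e.injective h).symm
        rcases lt_or_gt_of_ne hne with hlt | hlt
        · have hO' := hOw a ha
          simp only [O] at ha hO'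
          simp [O, ha, hO', hlt, not_lt_of_gt hlt]
          generalize lam = x
          generalize dl l a = y
          cases x <;> cases y <;> simp
        · have hO' := hOw a ha
          simp only [O] at ha hO'
          simp [O, ha, hO', hlt, not_lt_of_gt hlt]
          generalize lam = x
          generalize dl l a = y
          cases x <;> cases y <;> simp
      · have : ¬ O (w a) := fun h => ha (by simpa [hw2] using hOw _ h)
        simp only [O] at ha this
        simp [O, ha, this]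
    -- hence every invariant switch is in the first factor
    have hall : ∀ (n : ℕ) (f : α → Bool), (Finset.univ.filter fun a => f a = true).card = n →
        (∀ r ∈ Qs, ∀ a, f (r a) = f a) → mk (β := β) 1 f ∈ T₁ := by
      intro n
      induction n using Nat.strong_induction_on with
      | _ n ih =>
        intro f hn hf
        by_cases hex : ∃ i, f i = true
        · obtain ⟨i, hi⟩ := hex
          set g : α → Bool := fun a => decide (∃ r ∈ Qs, r i = a) with hg
          have hgf : ∀ a, g a = true → f a = true := fun a ha => by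
            obtain ⟨r, hr, rfl⟩ := of_decide_eq_true ha
            rw [hf r hr]; exact hi
          have hginv : ∀ r ∈ Qs, ∀ a, g (r a) = g a := fun r hr a => by
            simp only [hg, decide_eq_decide]
            exact ⟨fun ⟨s, hs, e⟩ => ⟨r⁻¹ * s, Qs.mul_mem (Qs.inv_mem hr) hs, by rw [Perm.mul_apply, e]; simp⟩,
              fun ⟨s, hs, e⟩ => ⟨r * s, Qs.mul_mem hr hs, by rw [Perm.mul_apply, e]⟩⟩
          have hgi : g i = true := decide_eq_true ⟨1, Qs.one_mem, rfl⟩
          have hrec := ih _ ?_ (fun a => xor (g a) (f a)) rfl (fun r hr a => by rw [hginv r hr, hf r hr])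
          · have := T₁.mul_mem (orb i) hrec
            rw [mk_mul, one_mul] at this
            convert this using 2
            funext a
            simp only [Perm.one_apply]
            change f a = xor (xor (g a) (f a)) (g a)
            cases g a <;> cases f a <;> rfl
          · rw [← hn]
            refine Finset.card_lt_card ⟨fun a ha => ?_, fun hsub => ?_⟩
            · rw [Finset.mem_filter] at ha ⊢
              refine ⟨ha.1, ?_⟩
              cases hga : g a
              · simpa [hga] using ha.2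
              · exact hgf a hga
            · have := hsub (Finset.mem_filter.2 ⟨Finset.mem_univ i, hi⟩)
              simp [hgi, hi] at this
        · push Not at hex
          have : f = fun _ => false := funext fun a => by simpa using hex a
          rw [this, mk_one]; exact T₁.one_mem
    apply hne
    rw [eq_bot_iff]
    intro s hs
    obtain ⟨q, hq, f, -, rfl⟩ := mem_even.1 (hT.2.1 hs)
    have : q = 1 := Equiv.ext fun i => htriv i q f hq hs
    subst this
    have : mk (β := β) 1 f ∈ T₁ ⊓ T₂ :=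
      ⟨hall _ f rfl fun r hr a => (Tinv hT (htriv a) r hr 1 f Qs.one_mem hs).2, hs⟩
    rwa [hT.2.2.2.1] at this
  rw [not_and_or, not_exists, not_exists] at hmix
  rcases hmix with h | h
  · exact last hd' hS₁ fun i => hT1 (by simpa using h i)
  · exact last hd hS₂ fun i => hT2 (by simpa using h i)

end Cfsg.Agent.SylTwoDecomp
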