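/-
Orbits of Sylow 2-subgroups of symmetric groups, and which even lifts decompose.
-/
import Cfsg.Agent.Lib.Perm.SylowTwoDecomp
import Cfsg.Agent.Lib.Blocks.SylowTwoClassical

set_option autoImplicit false
set_option linter.unusedSectionVars false

namespace Cfsg.Agent.SylTwoDecomp

open Cfsg.Agent.SylTwoNorm Equiv

theorem transitive_of_pow {γ : Type} [Fintype γ] [DecidableEq γ] {j : ℕ} (hc : Fintype.card γ = 2 ^ j)
    (Q : Sylow 2 (Perm γ)) (a b : γ) : ∃ q ∈ (Q : Subgroup (Perm γ)), q a = b := by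
  haveI : Fact (Nat.Prime 2) := ⟨Nat.prime_two⟩
  let e : γ ≃ Fin (2 ^ j) := Fintype.equivFinOfCardEq hc
  let T : Sylow 2 (Perm (Fin (2 ^ j))) := Q.mapSurjective (f := e.permCongrHom.toMonoidHom) e.permCongrHom.surjective
  obtain ⟨t, ht, htab⟩ := Cfsg.Agent.SylTwoClassical.transitive_sylow_perm T (e a) (e b)
  obtain ⟨q, hq, rfl⟩ := ht
  exact ⟨q, hq, e.injective (by simpa using htab)⟩

variable {α β : Type} [Fintype α] [DecidableEq α] [Fintype β] [DecidableEq β]

theorem fixed_unique (Q : Sylow 2 (Perm α)) {c d : α} (hc : ∀ q ∈ (Q : Subgroup (Perm α)), q c = c)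
    (hd : ∀ q ∈ (Q : Subgroup (Perm α)), q d = d) : c = d := by
  haveI : Fact (Nat.Prime 2) := ⟨Nat.prime_two⟩
  by_contra hne
  set Qs := (Q : Subgroup (Perm α))
  set Z := Subgroup.zpowers (Equiv.swap c d)
  have hZ : IsPGroup 2 Z := IsPGroup.of_card (n := 1) (by
    rw [Nat.card_zpowers, pow_one, orderOf_eq_prime (p := 2)]
    · ext x; simp [pow_two]
    · exact fun h => hne (by simpa using congrArg (fun g : Perm α => g d) h))
  have hle : Z ≤ Subgroup.normalizer (Qs : Set (Perm α)) := by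
    refine le_trans ?_ (Subgroup.centralizer_le_normalizer _)
    rw [Subgroup.zpowers_le, Subgroup.mem_centralizer_iff]
    intro q hq
    rw [Equiv.mul_swap_eq_swap_mul, hc q hq, hd q hq]
  have hmax := Q.is_maximal' (Q.isPGroup'.to_sup_of_normal_left' hZ hle) le_sup_left
  have : Equiv.swap c d ∈ Qs :=
    hmax.le (Subgroup.mem_sup_right (Subgroup.mem_zpowers _))
  exact hne (by simpa using (hc _ this).symm)

theorem exists_fixed (Q : Sylow 2 (Perm α)) (h : Odd (Fintype.card α)) :
    ∃ c, ∀ q ∈ (Q : Subgroup (Perm α)), q c = c := by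
  haveI : Fact (Nat.Prime 2) := ⟨Nat.prime_two⟩
  by_contra hcon
  push Not at hcon
  have h1 := Q.isPGroup'.card_modEq_card_fixedPoints α
  have h2 : Nat.card (MulAction.fixedPoints (Q : Subgroup (Perm α)) α) = 0 := by
    rw [Nat.card_eq_zero]
    left
    refine ⟨fun ⟨c, hc⟩ => ?_⟩
    obtain ⟨q, hq, hqc⟩ := hcon c
    exact hqc (hc ⟨q, hq⟩)
  rw [h2, Nat.card_eq_fintype_card] at h1
  exact Nat.not_even_iff_odd.2 h (Nat.even_iff.2 h1)

theorem transitive_off_fixed (Q : Sylow 2 (Perm α)) {c : α} (hc : ∀ q ∈ (Q : Subgroup (Perm α)), q c = c)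
    {j : ℕ} (hj : Fintype.card α = 2 ^ j + 1) (a b : α) (ha : a ≠ c) (hb : b ≠ c) :
    ∃ q ∈ (Q : Subgroup (Perm α)), q a = b := by
  haveI : Fact (Nat.Prime 2) := ⟨Nat.prime_two⟩
  set Qs := (Q : Subgroup (Perm α))
  let φ : Perm {x // x ≠ c} →* Perm α := Perm.ofSubtype
  have hφ : Function.Injective φ := Perm.ofSubtype_injective
  have hrange : Qs ≤ φ.range := fun q hq =>
    ⟨q.subtypePerm (fun x => ⟨fun h e => h (by rw [e]; exact hc q hq),
      fun h e => h (q.injective (e.trans (hc q hq).symm))⟩),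
      Perm.ofSubtype_subtypePerm _ fun x hx e => hx (by rw [e]; exact hc q hq)⟩
  let Q' : Sylow 2 (Perm {x // x ≠ c}) :=
    { toSubgroup := Qs.comap φ
      isPGroup' := Q.isPGroup'.comap_of_injective φ hφ
      is_maximal' := fun {T} hT hle => by
        have h1 : Qs ≤ T.map φ := (Subgroup.map_comap_eq_self hrange).symm.le.trans (Subgroup.map_mono hle)
        have h2 : T.map φ = Qs := Q.is_maximal' (hT.map φ) h1
        rw [← h2, Subgroup.comap_map_eq_self_of_injective hφ] }
  have hcard : Fintype.card {x // x ≠ c} = 2 ^ j := by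
    rw [Fintype.card_subtype_compl, Fintype.card_subtype_eq, hj, Nat.add_sub_cancel]
  obtain ⟨q, hq, hqab⟩ := transitive_of_pow hcard Q' ⟨a, ha⟩ ⟨b, hb⟩
  refine ⟨φ q, hq, ?_⟩
  show Perm.ofSubtype q a = b
  rw [Perm.ofSubtype_apply_of_mem q ha, hqab]

/-- An orbit away from the only fixed point has 2-power size. -/
theorem card_of_transitive_off_fixed (Q : Sylow 2 (Perm α)) {c a : α}
    (hc : ∀ q ∈ (Q : Subgroup (Perm α)), q c = c) (ha : a ≠ c)
    (h : ∀ b, b ≠ c → ∃ q ∈ (Q : Subgroup (Perm α)), q a = b) :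
    ∃ j, Fintype.card α = 2 ^ j + 1 := by
  haveI : Fact (Nat.Prime 2) := ⟨Nat.prime_two⟩
  set Qs := (Q : Subgroup (Perm α))
  obtain ⟨j, hj⟩ := Q.isPGroup'.card_orbit a
  refine ⟨j, ?_⟩
  have he : MulAction.orbit Qs a = {c}ᶜ := by
    ext b
    constructor
    · rintro ⟨q, rfl⟩ e
      exact ha (q.1.injective (e.trans (hc q.1 q.2).symm))
    · intro hb
      obtain ⟨q, hq, rfl⟩ := h b hb
      exact ⟨⟨q, hq⟩, rfl⟩
  rw [← hj, he, Nat.card_eq_fintype_card, Fintype.card_compl_set]
  have : 0 < Fintype.card α := Fintype.card_pos_iff.2 ⟨a⟩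
  simp
  omega

variable [Subsingleton β]

theorem decomp_even_iff (Q : Sylow 2 (Perm α)) (h3 : 3 ≤ Fintype.card α) :
    Decomp (evenLift (β := β) (Q : Subgroup (Perm α))) ↔
      Odd (Fintype.card α) ∧ ∀ j, Fintype.card α ≠ 2 ^ j + 1 := by
  classical
  haveI : Nonempty α := Fintype.card_pos_iff.1 (by omega)
  set Qs := (Q : Subgroup (Perm α))
  by_cases hodd : Odd (Fintype.card α)
  · obtain ⟨c, hc⟩ := exists_fixed Q hodd
    obtain ⟨a, ha⟩ : ∃ a, a ≠ c := Fintype.exists_ne_of_one_lt_card (by omega) c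
    by_cases hp : ∃ j, Fintype.card α = 2 ^ j + 1
    · obtain ⟨j, hj⟩ := hp
      refine iff_of_false (center_small _ Q.isPGroup' h3 a
        (Or.inr ⟨c, ha, hc, fun b hb => transitive_off_fixed Q hc hj a b ha hb⟩)) fun h => h.2 j hj
    · refine iff_of_true ?_ ⟨hodd, fun j hj => hp ⟨j, hj⟩⟩
      obtain ⟨b, hb, hab⟩ : ∃ b, b ≠ c ∧ ¬ ∃ q ∈ Qs, q a = b := by
        by_contra hcon
        push Not at hcon
        exact hp (card_of_transitive_off_fixed Q hc ha fun b hb => hcon b hb)
      exact decomp_of_fixed Q c a b hc ha hb hab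
  · refine iff_of_false ?_ fun h => hodd h.1
    by_cases htr : ∃ i₀, ∀ l, ∃ q ∈ Qs, q i₀ = l
    · obtain ⟨i₀, hi⟩ := htr
      exact center_small _ Q.isPGroup' h3 i₀ (Or.inl hi)
    push Not at htr
    refine not_decomp_multi Q (fun a => ?_) (fun i => ?_) inferInstance
    · by_contra hcon
      push Not at hcon
      haveI : Fact (Nat.Prime 2) := ⟨Nat.prime_two⟩
      have h1 := Q.isPGroup'.card_modEq_card_fixedPoints α
      have h2 : MulAction.fixedPoints Qs α = {a} := by
        ext d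
        exact ⟨fun hd => fixed_unique Q (fun q hq => hd ⟨q, hq⟩) hcon, fun hd q => by
          rw [Set.mem_singleton_iff.1 hd]; exact hcon q.1 q.2⟩
      rw [h2, Nat.card_eq_fintype_card (α := α), Nat.card_eq_fintype_card] at h1
      simp at h1
      exact hodd (Nat.odd_iff.2 h1)
    · obtain ⟨l, hl⟩ := htr i
      exact ⟨l, fun ⟨q, hq, e⟩ => hl q hq e⟩

/-- Two pairs: a four-group. -/
theorem decomp_even_two (Q : Sylow 2 (Perm α)) (h2 : Fintype.card α = 2) :
    Decomp (evenLift (β := β) (Q : Subgroup (Perm α))) := by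
  classical
  obtain ⟨x, y, hxy, huniv⟩ := Finset.card_eq_two.1 (show (Finset.univ : Finset α).card = 2 from h2)
  have hall : ∀ a, a = x ∨ a = y := fun a => by simpa [huniv] using Finset.mem_univ a
  obtain ⟨s, hs, hsxy⟩ := transitive_of_pow (j := 1) (by rw [h2, pow_one]) Q x y
  have hsy : s y = x := by
    rcases hall (s y) with h | h
    · exact h
    · exact absurd (s.injective (hsxy.trans h.symm)) hxy
  have hperm : ∀ q : Perm α, q = 1 ∨ q = s := by
    intro q
    rcases hall (q x) with h | h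
    · left
      refine Equiv.ext fun a => ?_
      rcases hall a with rfl | rfl
      · exact h
      · rcases hall (q a) with h' | h'
        · exact absurd (q.injective (h.trans h'.symm)) hxy
        · exact h'
    · right
      refine Equiv.ext fun a => ?_
      rcases hall a with rfl | rfl
      · rw [h, hsxy]
      · rcases hall (q a) with h' | h'
        · rw [h', hsy]
        · exact absurd (q.injective (h.trans h'.symm)) hxy
  have hf : ∀ f : α → Bool, ε f = 1 → f = (fun _ => false) ∨ f = fun _ => true := by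
    intro f hf
    have hp : ε f = (if f x then -1 else 1) * (if f y then -1 else 1) := by
      rw [ε, huniv, Finset.prod_pair hxy]
    cases hx : f x <;> cases hy : f y <;> simp [hx, hy, hf] at hp
    · left; funext a; rcases hall a with rfl | rfl <;> assumption
    · right; funext a; rcases hall a with rfl | rfl <;> assumption
  have hT : ε (fun _ : α => true) = 1 := by rw [ε, huniv, Finset.prod_pair hxy]; simp
  set u := mk (β := β) 1 (fun _ : α => true) with hu
  set v := mk (β := β) s (fun _ : α => false) with hv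
  have hss : s * s = 1 := Equiv.ext fun a => by
    rcases hall a with rfl | rfl <;> simp [Perm.mul_apply, hsxy, hsy]
  have huu : u * u = 1 := by rw [hu, mk_mul, ← mk_one]; simp
  have hvv : v * v = 1 := by rw [hv, mk_mul, hss, ← mk_one]; simp
  have hcomm : u * v = v * u := by rw [hu, hv, mk_mul, mk_mul]; simp
  have hz : ∀ w : Perm (Pts α β), w * w = 1 → ∀ g ∈ Subgroup.zpowers w, g = 1 ∨ g = w := by
    intro w hw g hg
    obtain ⟨k, rfl⟩ := Subgroup.mem_zpowers_iff.1 hg
    have : w ^ (2 : ℤ) = 1 := by rw [zpow_two, hw]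
    rcases Int.even_or_odd' k with ⟨l, rfl | rfl⟩
    · left; rw [zpow_mul, this, one_zpow]
    · right; rw [zpow_add, zpow_mul, this, one_zpow, one_mul, zpow_one]
  have hmu : u ∈ evenLift (β := β) (Q : Subgroup (Perm α)) := mem_even.2 ⟨1, Subgroup.one_mem _, _, hT, rfl⟩
  have hmv : v ∈ evenLift (β := β) (Q : Subgroup (Perm α)) := mem_even.2 ⟨s, hs, _, ε_false, rfl⟩
  have hu1 : u ≠ 1 := by
    rw [hu, ← mk_one]
    intro h
    exact Bool.noConfusion (congrFun (mk_inj h).2 x)
  have hv1 : v ≠ 1 := by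
    rw [hv, ← mk_one]
    intro h
    have := congrArg (fun q : Perm α => q x) (mk_inj h).1
    exact hxy (by simpa [hsxy] using this.symm)
  have huv : u ≠ v := fun h => Bool.noConfusion (congrFun (mk_inj h).2 x)
  refine ⟨Subgroup.zpowers u, Subgroup.zpowers v, by rwa [Ne, Subgroup.zpowers_eq_bot],
    by rwa [Ne, Subgroup.zpowers_eq_bot], Subgroup.zpowers_le.2 hmu, Subgroup.zpowers_le.2 hmv,
    fun g hg g' hg' => ?_, ?_, le_antisymm (sup_le (Subgroup.zpowers_le.2 hmu) (Subgroup.zpowers_le.2 hmv)) fun g hg => ?_⟩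
  · rcases hz u huu g hg with rfl | rfl <;> rcases hz v hvv g' hg' with rfl | rfl <;>
      simp only [one_mul, mul_one, hcomm]
  · rw [eq_bot_iff]
    rintro g ⟨hg, hg'⟩
    rcases hz u huu g hg with rfl | rfl
    · exact Subgroup.one_mem _
    · rcases hz v hvv _ hg' with e | e
      · exact absurd e hu1
      · exact absurd e huv
  · obtain ⟨q, -, f, hfe, rfl⟩ := mem_even.1 hg
    have m1 : u ∈ Subgroup.zpowers u ⊔ Subgroup.zpowers v := Subgroup.mem_sup_left (Subgroup.mem_zpowers u)
    have m2 : v ∈ Subgroup.zpowers u ⊔ Subgroup.zpowers v := Subgroup.mem_sup_right (Subgroup.mem_zpowers v)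
    rcases hperm q with rfl | rfl <;> rcases hf f hfe with rfl | rfl
    · rw [mk_one]; exact Subgroup.one_mem _
    · exact m1
    · exact m2
    · convert Subgroup.mul_mem _ m2 m1 using 1
      rw [hu, hv, mk_mul]; simp

end Cfsg.Agent.SylTwoDecomp
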