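import Cfsg.Agent.Lib.Perm.SylowTwoNormalizer
import Mathlib.GroupTheory.SpecificGroups.Alternating.MaximalSubgroups
import Mathlib.GroupTheory.Perm.MaximalSubgroups
import Mathlib.GroupTheory.SpecificGroups.Alternating.Simple
import Mathlib.GroupTheory.GroupAction.Jordan
import Cfsg.Agent.Lib.FGStruct.AltPair

/-! Maximal subgroups of `S_n` and `A_n` over a Sylow 2-subgroup. -/

set_option autoImplicit false

namespace Cfsg.Agent.SylTwoMax

open SylTwoNorm MulAction Equiv
open scoped Pointwise

variable {Ω : Type} [Fintype Ω] [DecidableEq Ω]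

/-- `A` is the symmetric or the alternating group. -/
def IsBig (A : Subgroup (Perm Ω)) : Prop := A = ⊤ ∨ A = alternatingGroup Ω

theorem IsBig.alt_le {A : Subgroup (Perm Ω)} (hA : IsBig A) : alternatingGroup Ω ≤ A := by
  rcases hA with rfl | rfl
  · exact le_top
  · exact le_rfl

/-- Maximal among the subgroups of `A`. -/
def IsMax {G : Type*} [Group G] (A M : Subgroup G) : Prop := M < A ∧ ∀ K, M < K → K ≤ A → K = A

/-- Exactly one maximal subgroup of `A` contains `S`. -/
def UniqueMax {G : Type*} [Group G] (A S : Subgroup G) : Prop := ∃! M, IsMax A M ∧ S ≤ M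

theorem existsUnique_coatom_iff {G : Type*} [Group G] (A : Subgroup G) (R : Subgroup A) :
    (∃! M : Subgroup A, IsCoatom M ∧ R ≤ M) ↔ UniqueMax A (R.map A.subtype) := by
  let e := Subgroup.MapSubtype.orderIso A
  have hinj := Subgroup.map_injective A.subtype_injective
  have key : ∀ M : Subgroup A, IsCoatom M ↔ IsMax A (M.map A.subtype) := by
    intro M
    have htop : (⊤ : Subgroup A).map A.subtype = A := by rw [← MonoidHom.range_eq_map, Subgroup.range_subtype]
    constructor
    · rintro ⟨h1, h2⟩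
      refine ⟨lt_of_le_of_ne (Subgroup.map_subtype_le M) fun e => h1 (hinj (e.trans htop.symm)), fun K hK hKA => ?_⟩
      have hKK : (K.subgroupOf A).map A.subtype = K := by
        rw [Subgroup.subgroupOf_map_subtype, inf_eq_left.mpr hKA]
      rw [← hKK] at hK ⊢
      rw [h2 _ (lt_of_le_of_ne (Subgroup.map_subtype_le_map_subtype.mp hK.le) fun e => hK.ne (by rw [e])), htop]
    · rintro ⟨h1, h2⟩
      refine ⟨fun e => h1.ne (by rw [e, htop]), fun K hK => hinj ?_⟩
      rw [htop]
      exact h2 _ (lt_of_le_of_ne (Subgroup.map_mono hK.le) fun e => hK.ne (hinj e)) (Subgroup.map_subtype_le K)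
  constructor
  · rintro ⟨M, ⟨hM, hR⟩, huniq⟩
    refine ⟨M.map A.subtype, ⟨(key M).mp hM, Subgroup.map_mono hR⟩, ?_⟩
    rintro N ⟨hN, hRN⟩
    have hNN : (N.subgroupOf A).map A.subtype = N := by
      rw [Subgroup.subgroupOf_map_subtype, inf_eq_left.mpr hN.1.le]
    rw [← hNN] at hN hRN ⊢
    rw [huniq _ ⟨(key _).mpr hN, Subgroup.map_subtype_le_map_subtype.mp hRN⟩]
  · rintro ⟨N, ⟨hN, hRN⟩, huniq⟩
    have hNN : (N.subgroupOf A).map A.subtype = N := by
      rw [Subgroup.subgroupOf_map_subtype, inf_eq_left.mpr hN.1.le]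
    rw [← hNN] at hN hRN
    refine ⟨_, ⟨(key _).mpr hN, Subgroup.map_subtype_le_map_subtype.mp hRN⟩, fun M hM => hinj ?_⟩
    rw [hNN]
    exact huniq _ ⟨(key M).mp hM.1, Subgroup.map_mono hM.2⟩

theorem exists_isMax_ge {G : Type*} [Group G] [Finite G] {A X : Subgroup G} (hX : X < A) :
    ∃ M, IsMax A M ∧ X ≤ M := by
  obtain ⟨M, ⟨hM, hXM⟩, hmax⟩ := Set.Finite.exists_maximal (Set.toFinite {M : Subgroup G | M < A ∧ X ≤ M})
    ⟨X, hX, le_rfl⟩
  refine ⟨M, ⟨hM, fun K hK hKA => ?_⟩, hXM⟩
  by_contra hne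
  exact absurd (hmax ⟨lt_of_le_of_ne hKA hne, hXM.trans hK.le⟩ hK.le) hK.not_ge

theorem not_uniqueMax {G : Type*} [Group G] [Finite G] {A S X Y : Subgroup G} (hX : X < A) (hY : Y < A)
    (hSX : S ≤ X) (hSY : S ≤ Y) (hXY : ∀ M, X ≤ M → Y ≤ M → A ≤ M) : ¬ UniqueMax A S := by
  rintro ⟨M, -, huniq⟩
  obtain ⟨M1, hM1, hXM⟩ := exists_isMax_ge hX
  obtain ⟨M2, hM2, hYM⟩ := exists_isMax_ge hY
  have e1 := huniq M1 ⟨hM1, hSX.trans hXM⟩
  have e2 := huniq M2 ⟨hM2, hSY.trans hYM⟩
  rw [e1] at hXM hM1
  rw [e2] at hYM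
  exact absurd (hXY M hXM hYM) hM1.1.not_ge

theorem uniqueMax_of_le {G : Type*} [Group G] [Finite G] {A S P : Subgroup G} (hP : P < A) (hSP : S ≤ P)
    (h : ∀ K, K < A → S ≤ K → K ≤ P) : UniqueMax A S := by
  refine ⟨P, ⟨⟨hP, fun K hK hKA => ?_⟩, hSP⟩, fun M hM => ?_⟩
  · by_contra hne
    exact hK.not_ge (h K (lt_of_le_of_ne hKA hne) (hSP.trans hK.le))
  · have hle := h M hM.1.1 hM.2
    rcases hle.eq_or_lt with e | e
    · exact e
    · exact absurd (hM.1.2 P e hP.le) hP.ne

/-- Two permutations whose supports meet in one point have a 3-cycle as commutator. -/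
theorem commutator_threeCycle {x y : Perm Ω} {p : Ω} (hx : x p ≠ p) (hy : y p ≠ p)
    (hmeet : ∀ q, x q ≠ q → y q ≠ q → q = p) : (x * y * x⁻¹ * y⁻¹).IsThreeCycle := by
  set c := x * y * x⁻¹ * y⁻¹ with hc
  have hxinv : ∀ q, x (x⁻¹ q) = q := fun q => by simp
  have hyinv : ∀ q, y (y⁻¹ q) = q := fun q => by simp
  have hsub : c.support ⊆ ({p, x p, y p} : Finset Ω) := by
    intro q hq
    by_contra hq'
    simp only [Finset.mem_insert, Finset.mem_singleton, not_or] at hq'
    obtain ⟨h1, h2, h3⟩ := hq'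
    rw [Perm.mem_support] at hq
    apply hq
    simp only [hc, Perm.mul_apply]
    by_cases hqy : y q = q
    · have e1 : y⁻¹ q = q := by rw [Perm.inv_eq_iff_eq, hqy]
      rw [e1]
      by_cases hqx : x q = q
      · have e2 : x⁻¹ q = q := by rw [Perm.inv_eq_iff_eq, hqx]
        rw [e2, hqy, hqx]
      · have hne : x (x⁻¹ q) ≠ x⁻¹ q := fun e => hqx (by
          have e' : q = x⁻¹ q := (hxinv q).symm.trans e
          conv_lhs => rw [e']
          exact hxinv q)
        have : y (x⁻¹ q) = x⁻¹ q := by
          by_contra hny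
          exact h2 (by rw [← hmeet _ hne hny, hxinv])
        rw [this, hxinv]
    · have hqx : x q = q := by
        by_contra hnx
        exact h1 (hmeet q hnx hqy)
      have hne : y (y⁻¹ q) ≠ y⁻¹ q := fun e => hqy (by
        have e' : q = y⁻¹ q := (hyinv q).symm.trans e
        conv_lhs => rw [e']
        exact hyinv q)
      have hxy : x (y⁻¹ q) = y⁻¹ q := by
        by_contra hnx
        exact h3 (by rw [← hmeet _ hnx hne, hyinv])
      have e2 : x⁻¹ (y⁻¹ q) = y⁻¹ q := by rw [Perm.inv_eq_iff_eq, hxy]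
      rw [e2, hyinv, hqx]
  have hne1 : c ≠ 1 := fun e => by
    have e' : c (y p) = y p := by rw [e]; rfl
    simp only [hc, Perm.mul_apply, Perm.inv_def, symm_apply_apply] at e'
    have h1 : y (x.symm p) = x.symm p := by
      by_contra hny
      have h2 : x (x.symm p) ≠ x.symm p := fun e'' => hx (by
        rw [apply_symm_apply] at e''
        conv_lhs => rw [e'', apply_symm_apply])
      have h3 := hmeet _ h2 hny
      apply h2
      rw [apply_symm_apply]; exact h3.symm
    rw [h1, apply_symm_apply] at e'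
    exact hy e'.symm
  have hle : c.support.card ≤ 3 := (Finset.card_le_card hsub).trans Finset.card_le_three
  have h2 : c.support.card ≠ 2 := fun e => by
    obtain ⟨a, b, hab, hc'⟩ := Perm.card_support_eq_two.mp e
    have : Perm.sign c = 1 := by
      rw [hc]; simp [mul_comm, mul_left_comm]
    rw [hc', Perm.sign_swap hab] at this
    exact absurd this (by decide)
  have h1 : ¬ c.support.card ≤ 1 := fun e => hne1 (Perm.card_support_le_one.mp e)
  exact card_support_eq_three_iff.mp (by omega)

/-! ### The recursion: an invariant set of size `2^log n` and its halves -/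

/-- A Sylow 2-subgroup stabilising the top block `s` transitively and respecting a halving `t` of it. -/
def HasShape (X : Type) [Fintype X] [DecidableEq X] : Prop :=
  ∀ W : Sylow 2 (Perm X), ∃ s t : Finset X, s.card = 2 ^ Nat.log 2 (Fintype.card X) ∧ t ⊆ s ∧
    (2 ≤ Fintype.card X → 2 * t.card = s.card) ∧
    (∀ w ∈ (W : Subgroup (Perm X)), ∀ x ∈ s, w x ∈ s) ∧
    (∀ x ∈ s, ∀ y ∈ s, ∃ w ∈ (W : Subgroup (Perm X)), w x = y) ∧
    ∀ w ∈ (W : Subgroup (Perm X)), (∀ x ∈ t, w x ∈ t) ∨ ∀ x ∈ t, w x ∉ t

theorem hasShape_of_equiv {X Y : Type} [Fintype X] [DecidableEq X] [Fintype Y] [DecidableEq Y] (e : X ≃ Y)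
    {W : Sylow 2 (Perm X)} {s t : Finset X} (hs : s.card = 2 ^ Nat.log 2 (Fintype.card X)) (hts : t ⊆ s)
    (ht : 2 ≤ Fintype.card X → 2 * t.card = s.card) (hinv : ∀ w ∈ (W : Subgroup (Perm X)), ∀ x ∈ s, w x ∈ s)
    (htr : ∀ x ∈ s, ∀ y ∈ s, ∃ w ∈ (W : Subgroup (Perm X)), w x = y)
    (hhalf : ∀ w ∈ (W : Subgroup (Perm X)), (∀ x ∈ t, w x ∈ t) ∨ ∀ x ∈ t, w x ∉ t) : HasShape Y := by
  have : Fact (Nat.Prime 2) := ⟨Nat.prime_two⟩
  intro W'
  let f : Perm X ≃* Perm Y := e.permCongrHom
  obtain ⟨c, hc⟩ := MulAction.exists_smul_eq (Perm Y) (W.mapSurjective (f := f.toMonoidHom) f.surjective) W'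
  have hmem : ∀ w, w ∈ (W' : Subgroup (Perm Y)) ↔
      ∃ v ∈ (W : Subgroup (Perm X)), w = c * f v * c⁻¹ := fun w => by
    rw [← hc]
    constructor
    · rintro ⟨_, ⟨v, hv, rfl⟩, rfl⟩
      exact ⟨v, hv, rfl⟩
    · rintro ⟨v, hv, rfl⟩
      exact ⟨_, ⟨v, hv, rfl⟩, rfl⟩
  let φ : X ↪ Y := ⟨fun x => c (e x), c.injective.comp e.injective⟩
  have happ : ∀ v x, (c * f v * c⁻¹) (φ x) = φ (v x) := fun v x => by simp [φ, f]
  refine ⟨s.map φ, t.map φ, by rw [Finset.card_map, hs, Fintype.card_congr e], Finset.map_subset_map.mpr hts,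
    fun h2 => by rw [Finset.card_map, Finset.card_map]; exact ht (by rwa [Fintype.card_congr e]), ?_, ?_, ?_⟩
  · intro w hw y hy
    obtain ⟨v, hv, rfl⟩ := (hmem w).mp hw
    obtain ⟨x, hx, rfl⟩ := Finset.mem_map.mp hy
    rw [happ]
    exact Finset.mem_map_of_mem φ (hinv v hv x hx)
  · intro y hy z hz
    obtain ⟨x, hx, rfl⟩ := Finset.mem_map.mp hy
    obtain ⟨x', hx', rfl⟩ := Finset.mem_map.mp hz
    obtain ⟨v, hv, hvx⟩ := htr x hx x' hx'
    exact ⟨_, (hmem _).mpr ⟨v, hv, rfl⟩, by rw [happ, hvx]⟩
  · intro w hw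
    obtain ⟨v, hv, rfl⟩ := (hmem w).mp hw
    rcases hhalf v hv with e' | e'
    · left
      intro y hy
      obtain ⟨x, hx, rfl⟩ := Finset.mem_map.mp hy
      rw [happ]; exact Finset.mem_map_of_mem φ (e' x hx)
    · right
      intro y hy
      obtain ⟨x, hx, rfl⟩ := Finset.mem_map.mp hy
      rw [happ, Finset.mem_map']; exact e' x hx

variable {α β : Type} [Fintype α] [DecidableEq α] [Fintype β] [DecidableEq β] [Subsingleton β]

/-- Points over a set of pairs. -/
def overPairs (s : Finset α) : Finset (Pts α β) := (s ×ˢ (Finset.univ : Finset Bool)).map Function.Embedding.inl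

omit [Fintype α] [Fintype β] [DecidableEq β] [Subsingleton β] in
theorem mem_overPairs {s : Finset α} {x : Pts α β} : x ∈ overPairs s ↔ ∃ a ∈ s, ∃ b, x = Sum.inl (a, b) := by
  rw [overPairs, Finset.mem_map]
  constructor
  · rintro ⟨⟨a, b⟩, hab, rfl⟩
    exact ⟨a, (Finset.mem_product.mp hab).1, b, rfl⟩
  · rintro ⟨a, ha, b, rfl⟩
    exact ⟨(a, b), Finset.mem_product.mpr ⟨ha, Finset.mem_univ b⟩, rfl⟩

omit [Fintype α] [DecidableEq α] [Fintype β] [DecidableEq β] [Subsingleton β] in
theorem card_overPairs (s : Finset α) : (overPairs (β := β) s).card = 2 * s.card := by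
  rw [overPairs, Finset.card_map, Finset.card_product]; simp [mul_comm]

theorem lifted_apply {Q : Subgroup (Perm α)} {w : Perm (Pts α β)} (hw : w ∈ lifted Q) :
    ∃ q ∈ Q, ∀ a b, ∃ b', w (Sum.inl (a, b)) = Sum.inl (q a, b') := by
  obtain ⟨x, hx, rfl⟩ := hw
  refine ⟨toPairs x, hx, fun a b => ?_⟩
  obtain ⟨c, hc⟩ := pairMap_spec x.2 a
  exact ⟨_, hc b⟩

theorem liftPerm_mem_lifted {Q : Subgroup (Perm α)} {q : Perm α} (hq : q ∈ Q) :
    (liftPerm q : Perm (Pts α β)) ∈ lifted Q := by
  refine ⟨⟨liftPerm q, liftPerm_mem q⟩, ?_, rfl⟩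
  show toPairs _ ∈ Q
  convert hq using 1
  exact Equiv.ext fun a => by simp [toPairs, pairMap, liftPerm]

theorem hasShape_fin : ∀ n, 1 ≤ n → HasShape (Fin n) := by
  intro n
  induction n using Nat.strong_induction_on with
  | _ n ih =>
    intro hn1
    rcases Nat.lt_or_ge n 2 with hn | hn
    · intro W
      have hsub : Subsingleton (Fin n) := Fintype.card_le_one_iff_subsingleton.mp (by simp; omega)
      have h2 : ¬ 2 ≤ Fintype.card (Fin n) := by simp; omega
      interval_cases n
      exact ⟨Finset.univ, ∅, by simp, Finset.empty_subset _, fun h => absurd h h2, fun _ _ _ _ => Finset.mem_univ _,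
          fun x _ y _ => ⟨1, Subgroup.one_mem _, Subsingleton.elim _ _⟩, fun _ _ => Or.inl (by simp)⟩
    · have : Subsingleton (Fin (n % 2)) := Fintype.card_le_one_iff_subsingleton.mp (by simp; omega)
      let e : Pts (Fin (n / 2)) (Fin (n % 2)) ≃ Fin n := Fintype.equivFinOfCardEq (by simp; omega)
      obtain ⟨Q⟩ : Nonempty (Sylow 2 (Perm (Fin (n / 2)))) := inferInstance
      obtain ⟨s, t, hs, hts, ht, hinv, htr, hhalf⟩ := ih (n / 2) (by omega) (by omega) Q
      obtain ⟨W, hW⟩ := exists_sylow_lifted (β := Fin (n % 2)) Q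
      have hlog : Nat.log 2 (Fintype.card (Pts (Fin (n / 2)) (Fin (n % 2)))) = Nat.log 2 (n / 2) + 1 := by
        rw [Fintype.card_congr e, Fintype.card_fin, Nat.log_of_one_lt_of_le one_lt_two hn]
      have hflip : ∀ c, (flip1 c : Perm (Pts (Fin (n / 2)) (Fin (n % 2)))) ∈ (W : Subgroup (Perm (Pts (Fin (n / 2)) (Fin (n % 2))))) := fun c => by
        rw [hW]; exact switch_mem_lifted _ _
      have hinv' : ∀ w ∈ (W : Subgroup (Perm (Pts (Fin (n / 2)) (Fin (n % 2))))), ∀ x ∈ overPairs (β := Fin (n % 2)) s, w x ∈ overPairs (β := Fin (n % 2)) s := by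
        intro w hw x hx
        obtain ⟨a, ha, b, rfl⟩ := mem_overPairs.mp hx
        obtain ⟨q, hq, hqa⟩ := lifted_apply (hW ▸ hw)
        obtain ⟨b', hb'⟩ := hqa a b
        exact mem_overPairs.mpr ⟨q a, hinv q hq a ha, b', hb'⟩
      have htr' : ∀ x ∈ overPairs (β := Fin (n % 2)) s, ∀ y ∈ overPairs (β := Fin (n % 2)) s,
          ∃ w ∈ (W : Subgroup (Perm (Pts (Fin (n / 2)) (Fin (n % 2))))), w x = y := by
        intro x hx y hy
        obtain ⟨a, ha, b, rfl⟩ := mem_overPairs.mp hx
        obtain ⟨a', ha', b', rfl⟩ := mem_overPairs.mp hy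
        obtain ⟨q, hq, hqa⟩ := htr a ha a' ha'
        by_cases hb : b = b'
        · refine ⟨liftPerm q, hW ▸ liftPerm_mem_lifted hq, ?_⟩
          simp [liftPerm, hqa, hb]
        · refine ⟨flip1 a' * liftPerm q, Subgroup.mul_mem _ (hflip a') (hW ▸ liftPerm_mem_lifted hq), ?_⟩
          rw [Perm.mul_apply, show liftPerm q (Sum.inl (a, b)) = (Sum.inl (a', b) : Pts (Fin (n / 2)) (Fin (n % 2))) by
            simp [liftPerm, hqa], flip1_apply, if_pos rfl]
          cases b <;> cases b' <;> simp_all
      by_cases hn4 : n / 2 = 1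
      · -- a single pair
        have hs1 : s.card = 1 := by rw [hs]; simp [hn4]
        obtain ⟨a0, rfl⟩ := Finset.card_eq_one.mp hs1
        refine hasShape_of_equiv e (W := W) (s := overPairs {a0}) (t := {Sum.inl (a0, false)})
          (by rw [card_overPairs, hlog, Finset.card_singleton]; simp [hn4]) (by simp [mem_overPairs]) (fun _ => by rw [card_overPairs]; simp) hinv' htr'
          (fun w _ => ?_)
        by_cases hw : w (Sum.inl (a0, false)) = Sum.inl (a0, false)
        · exact Or.inl (by simp [hw])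
        · exact Or.inr (by simp [hw])
      · refine hasShape_of_equiv e (W := W) (s := overPairs s) (t := overPairs t)
          (by rw [card_overPairs, hs, hlog, Fintype.card_fin, pow_succ, mul_comm]) ?_ (fun _ => ?_) hinv' htr'
          (fun w hw => ?_)
        · intro x hx
          obtain ⟨a, ha, b, rfl⟩ := mem_overPairs.mp hx
          exact mem_overPairs.mpr ⟨a, hts ha, b, rfl⟩
        · rw [card_overPairs, card_overPairs, ht (by simp; omega)]
        · obtain ⟨q, hq, hqa⟩ := lifted_apply (hW ▸ hw)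
          rcases hhalf q hq with e' | e'
          · left
            intro x hx
            obtain ⟨a, ha, b, rfl⟩ := mem_overPairs.mp hx
            obtain ⟨b', hb'⟩ := hqa a b
            exact mem_overPairs.mpr ⟨q a, e' a ha, b', hb'⟩
          · right
            intro x hx hcon
            obtain ⟨a, ha, b, rfl⟩ := mem_overPairs.mp hx
            obtain ⟨b', hb'⟩ := hqa a b
            obtain ⟨a'', ha'', b'', e''⟩ := mem_overPairs.mp hcon
            rw [hb'] at e''
            simp only [Sum.inl.injEq, Prod.mk.injEq] at e''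
            exact e' a ha (e''.1 ▸ ha'')

/-! ### The model -/

theorem exists_four {X : Type} [Fintype X] [DecidableEq X] (h5 : 5 ≤ Fintype.card X) (x y : X) :
    ∃ z w, z ≠ x ∧ z ≠ y ∧ w ≠ x ∧ w ≠ y ∧ z ≠ w := by
  have h3 : 3 ≤ (Finset.univ \ ({x, y} : Finset X)).card := by
    rw [Finset.card_sdiff]
    have : (({x, y} : Finset X) ∩ Finset.univ).card ≤ 2 := by
      rw [Finset.inter_univ]; exact Finset.card_le_two
    rw [Finset.card_univ]; omega
  obtain ⟨z, hz, w, hw, hzw⟩ := Finset.one_lt_card.mp (show 1 < (Finset.univ \ ({x, y} : Finset X)).card by omega)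
  simp only [Finset.mem_sdiff, Finset.mem_univ, true_and, Finset.mem_insert, Finset.mem_singleton, not_or] at hz hw
  exact ⟨z, w, hz.1, hz.2, hw.1, hw.2, hzw⟩

omit [Subsingleton β] in
theorem mate_move (a : α) : mate (Sum.inl (a, false) : Pts α β) ≠ Sum.inl (a, false) := by simp

theorem cen_inf_ne {A : Subgroup (Perm (Pts α β))} (hA : IsBig A) (h5 : 5 ≤ Fintype.card (Pts α β)) :
    cen ⊓ A < A := by
  refine lt_of_le_of_ne inf_le_right fun e => ?_
  obtain ⟨a0⟩ : Nonempty α := by
    by_contra h0
    rw [not_nonempty_iff] at h0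
    have := Fintype.card_le_one_iff_subsingleton.mpr (inferInstance : Subsingleton β)
    simp only [Fintype.card_sum, Fintype.card_prod, Fintype.card_eq_zero, zero_mul, zero_add] at h5
    omega
  obtain ⟨z, w, hz1, hz2, hw1, hw2, hzw⟩ := exists_four h5 (Sum.inl (a0, false)) (Sum.inl (a0, true))
  have hmem : swap (Sum.inl (a0, false)) z * swap (Sum.inl (a0, false)) w ∈ alternatingGroup (Pts α β) := by
    rw [Perm.mem_alternatingGroup, map_mul, Perm.sign_swap hz1.symm, Perm.sign_swap hw1.symm]; rfl
  have hcen := ((le_inf_iff.mp (e.ge : A ≤ cen ⊓ A)).1 (hA.alt_le hmem))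
  have h1 := mem_cen.mp hcen (Sum.inl (a0, false))
  simp only [mate_inl, Bool.not_false, Perm.mul_apply, swap_apply_left] at h1
  rw [swap_apply_of_ne_of_ne (by simp) hw2.symm, swap_apply_of_ne_of_ne (by simp) hz2.symm,
    swap_apply_of_ne_of_ne hw1 hzw.symm] at h1
  -- `h1 : inl (a0, true) = mate w`
  have := congrArg mate h1
  rcases w with ⟨a, b⟩ | e'
  · simp at this
    exact hw1 (by simp [this])
  · simp at this

theorem sign_liftPerm (q : Perm α) : Perm.sign (liftPerm q : Perm (Pts α β)) = 1 := by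
  rw [liftPerm, Perm.sign_sumCongr, Perm.sign_refl, mul_one,
    show Equiv.prodCongr q (Equiv.refl Bool) = Equiv.prodCongrLeft (fun _ : Bool => q) from rfl,
    Perm.sign_prodCongrLeft]
  simp [Int.units_mul_self]

theorem sylow_two_model {A : Subgroup (Perm (Pts α β))} (hA : IsBig A) (h5 : 5 ≤ Fintype.card (Pts α β))
    (W : Sylow 2 (Perm (Pts α β))) (Q : Subgroup (Perm α))
    (hW : (W : Subgroup (Perm (Pts α β))) = lifted Q) (s t : Finset α)
    (hs : s.card = 2 ^ Nat.log 2 (Fintype.card α)) (hts : t ⊆ s) (ht : 2 * t.card = s.card)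
    (hinv : ∀ w ∈ Q, ∀ x ∈ s, w x ∈ s) (htr : ∀ x ∈ s, ∀ y ∈ s, ∃ w ∈ Q, w x = y)
    (hhalf : ∀ w ∈ Q, (∀ x ∈ t, w x ∈ t) ∨ ∀ x ∈ t, w x ∉ t) :
    UniqueMax A ((W : Subgroup (Perm (Pts α β))) ⊓ A) ↔ Fintype.card α = s.card ∧ Fintype.card β = 1 := by
  classical
  set S := (W : Subgroup (Perm (Pts α β))) ⊓ A with hSdef
  have hβ : Fintype.card β ≤ 1 := Fintype.card_le_one_iff_subsingleton.mpr inferInstance
  have hcard : Fintype.card (Pts α β) = 2 * Fintype.card α + Fintype.card β := by
    rw [Fintype.card_sum, Fintype.card_prod, Fintype.card_bool, mul_comm]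
  have hm2 : 2 ≤ Fintype.card α := by omega
  have hs_lt : Fintype.card α < 2 * s.card := by
    rw [hs, ← pow_succ']; exact Nat.lt_pow_succ_log_self one_lt_two _
  have hs_le : s.card ≤ Fintype.card α := Finset.card_le_univ s
  have halt : alternatingGroup (Pts α β) ≤ A := hA.alt_le
  have hWc : (W : Subgroup (Perm (Pts α β))) ≤ cen := hW ▸ Subgroup.map_subtype_le _
  have hflip2 : ∀ c r, (flip1 c * flip1 r : Perm (Pts α β)) ∈ S := fun c r =>
    ⟨hW ▸ Subgroup.mul_mem _ (switch_mem_lifted Q _) (switch_mem_lifted Q _), halt (by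
      rw [Perm.mem_alternatingGroup, map_mul, sign_flip1, sign_flip1]; rfl)⟩
  have hlift : ∀ q ∈ Q, (liftPerm q : Perm (Pts α β)) ∈ S := fun q hq =>
    ⟨hW ▸ liftPerm_mem_lifted hq, halt (Perm.mem_alternatingGroup.mpr (sign_liftPerm q))⟩
  have hne2 : ∀ a : α, ∃ c, c ≠ a := fun a => by
    obtain ⟨c, hc⟩ := Fintype.exists_ne_of_one_lt_card (by omega : 1 < Fintype.card α) a
    exact ⟨c, hc⟩
  -- transitivity of `S` over `s`
  have hStr : ∀ a ∈ s, ∀ a' ∈ s, ∀ b b', ∃ g ∈ S, g (Sum.inl (a, b)) = Sum.inl (a', b') := by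
    intro a ha a' ha' b b'
    obtain ⟨q, hq, hqa⟩ := htr a ha a' ha'
    by_cases hb : b = b'
    · exact ⟨_, hlift q hq, by simp [liftPerm, hqa, hb]⟩
    · obtain ⟨c, hc⟩ := hne2 a'
      refine ⟨_, Subgroup.mul_mem _ (hflip2 a' c) (hlift q hq), ?_⟩
      rw [Perm.mul_apply, show liftPerm q (Sum.inl (a, b)) = (Sum.inl (a', b) : Pts α β) by simp [liftPerm, hqa],
        Perm.mul_apply, flip1_apply, if_neg (Ne.symm hc), flip1_apply, if_pos rfl]
      cases b <;> cases b' <;> simp_all
  by_cases hms : Fintype.card α = s.card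
  · have hsu : s = Finset.univ := Finset.eq_univ_of_card s hms.symm
    have hms2 : ∀ a : α, a ∈ s := fun a => hsu ▸ Finset.mem_univ a
    by_cases hb1 : Fintype.card β = 1
    · -- the unique maximal subgroup fixes the last point
      simp only [hms, hb1, and_self, iff_true]
      obtain ⟨e⟩ : Nonempty β := Fintype.card_pos_iff.mp (by omega)
      set x0 : Pts α β := Sum.inr e
      have hinr : ∀ y : Pts α β, y ≠ x0 → ∃ a b, y = Sum.inl (a, b) := by
        rintro (⟨a, b⟩ | e') hy
        · exact ⟨a, b, rfl⟩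
        · exact absurd (congrArg Sum.inr (Subsingleton.elim e' e)) hy
      refine uniqueMax_of_le (P := stabilizer (Perm (Pts α β)) x0 ⊓ A) ?_ ?_ ?_
      · refine lt_of_le_of_ne inf_le_right fun e' => ?_
        obtain ⟨z, w, hz, -, hw, -, hzw⟩ := exists_four h5 x0 x0
        have hg : swap x0 z * swap x0 w ∈ alternatingGroup (Pts α β) := by
          rw [Perm.mem_alternatingGroup, map_mul, Perm.sign_swap hz.symm, Perm.sign_swap hw.symm]; rfl
        have h1 : (swap x0 z * swap x0 w) x0 = x0 := (le_inf_iff.mp e'.ge).1 (halt hg)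
        rw [Perm.mul_apply, swap_apply_left, swap_apply_of_ne_of_ne hw hzw.symm] at h1
        exact hw h1
      · exact le_inf (fun g hg => cen_inr (hWc hg.1) e) inf_le_right
      · intro K hKA hSK
        refine le_inf (fun g hg => ?_) hKA.le
        rw [mem_stabilizer_iff, Perm.smul_def]
        by_contra hge
        have hstr : ∀ y y' : Pts α β, y ≠ x0 → y' ≠ x0 → ∃ k ∈ K, k x0 = x0 ∧ k y = y' := by
          intro y y' hy hy'
          obtain ⟨a, b, rfl⟩ := hinr y hy
          obtain ⟨a', b', rfl⟩ := hinr y' hy'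
          obtain ⟨k, hk, hka⟩ := hStr a (hms2 a) a' (hms2 a') b b'
          exact ⟨k, hSK hk, cen_inr (hWc hk.1) e, hka⟩
        have hto : ∀ y, ∃ k ∈ K, k x0 = y := by
          intro y
          by_cases hy : y = x0
          · exact ⟨1, Subgroup.one_mem _, hy.symm⟩
          · obtain ⟨k, hk, -, hky⟩ := hstr (g x0) y hge hy
            exact ⟨k * g, Subgroup.mul_mem _ hk hg, hky⟩
        have h2t : IsMultiplyPretransitive K (Pts α β) 2 := by
          rw [is_two_pretransitive_iff]
          intro a b c d hab hcd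
          obtain ⟨k1, hk1, hk1a⟩ := hto a
          obtain ⟨k2, hk2, hk2c⟩ := hto c
          obtain ⟨k3, hk3, hk3x, hk3y⟩ := hstr (k1⁻¹ b) (k2⁻¹ d)
            (fun e' => hab (by rw [← hk1a, ← e']; simp)) (fun e' => hcd (by rw [← hk2c, ← e']; simp))
          refine ⟨⟨k2 * k3 * k1⁻¹, Subgroup.mul_mem _ (Subgroup.mul_mem _ hk2 hk3) (Subgroup.inv_mem _ hk1)⟩, ?_, ?_⟩
          · show (k2 * k3 * k1⁻¹) a = c
            simp [← hk1a, hk3x, hk2c]
          · show (k2 * k3 * k1⁻¹) b = d
            simp only [Perm.mul_apply]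
            rw [hk3y]; simp
        have hprim : IsPreprimitive K (Pts α β) := isPreprimitive_of_is_two_pretransitive h2t
        apply hKA.not_ge
        rcases hA with rfl | rfl
        · obtain ⟨a⟩ : Nonempty α := Fintype.card_pos_iff.mp (by omega)
          have hf : (flip1 a : Perm (Pts α β)) ∈ K := hSK ⟨hW ▸ switch_mem_lifted Q _, Subgroup.mem_top _⟩
          rw [Perm.subgroup_eq_top_of_isPreprimitive_of_isSwap_mem hprim (flip1 a)
            (Perm.card_support_eq_two.mp (by rw [flip1_eq_swap, Perm.card_support_swap (by simp)])) hf]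
        · obtain ⟨p1⟩ : Nonempty α := Fintype.card_pos_iff.mp (by omega)
          obtain ⟨p2, hp21⟩ := hne2 p1
          by_cases hm4 : 4 ≤ Fintype.card α
          · obtain ⟨k, hk, hkx⟩ := hto (Sum.inl (p1, false))
            set g0 := k⁻¹ with hg0def
            have hg0x : g0 (Sum.inl (p1, false)) = x0 := by rw [hg0def, ← hkx]; simp
            have hne : ∀ y : Pts α β, y ≠ Sum.inl (p1, false) → g0 y ≠ x0 := fun y hy e' => hy (g0.injective (e'.trans hg0x.symm))
            obtain ⟨a1, b1, h1⟩ := hinr _ (hne (Sum.inl (p1, true)) (by simp))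
            obtain ⟨a2, b2, h2⟩ := hinr _ (hne (Sum.inl (p2, false)) (by simp [hp21]))
            obtain ⟨a3, b3, h3⟩ := hinr _ (hne (Sum.inl (p2, true)) (by simp [hp21]))
            have d12 : ¬ (a1 = a2 ∧ b1 = b2) := fun e' => by
              have := g0.injective (h1.trans ((show (Sum.inl (a1, b1) : Pts α β) = Sum.inl (a2, b2) by rw [e'.1, e'.2]).trans h2.symm))
              simp [Ne.symm hp21] at this
            have d13 : ¬ (a1 = a3 ∧ b1 = b3) := fun e' => by
              have := g0.injective (h1.trans ((show (Sum.inl (a1, b1) : Pts α β) = Sum.inl (a3, b3) by rw [e'.1, e'.2]).trans h3.symm))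
              simp [Ne.symm hp21] at this
            have d23 : ¬ (a2 = a3 ∧ b2 = b3) := fun e' => by
              have := g0.injective (h2.trans ((show (Sum.inl (a2, b2) : Pts α β) = Sum.inl (a3, b3) by rw [e'.1, e'.2]).trans h3.symm))
              simp at this
            -- a pair meeting the three images once
            obtain ⟨P, hP⟩ : ∃ P, (P = a1 ∧ P ≠ a2 ∧ P ≠ a3) ∨ (P = a2 ∧ P ≠ a1 ∧ P ≠ a3) ∨ (P = a3 ∧ P ≠ a1 ∧ P ≠ a2) := by
              by_cases e12 : a1 = a2
              · have key : ∀ u v w : Bool, u ≠ v → u ≠ w → v ≠ w → False := by decide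
                refine ⟨a3, Or.inr (Or.inr ⟨rfl, fun e13 => ?_, fun e23 => ?_⟩)⟩
                · exact key b1 b2 b3 (fun h => d12 ⟨e12, h⟩) (fun h => d13 ⟨e13.symm, h⟩)
                    (fun h => d23 ⟨e12.symm.trans e13.symm, h⟩)
                · exact key b1 b2 b3 (fun h => d12 ⟨e12, h⟩) (fun h => d13 ⟨e12.trans e23.symm, h⟩)
                    (fun h => d23 ⟨e23.symm, h⟩)
              · by_cases e13 : a1 = a3
                · exact ⟨a2, Or.inr (Or.inl ⟨rfl, Ne.symm e12, fun e23 => e12 (e13.trans e23.symm)⟩)⟩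
                · exact ⟨a1, Or.inl ⟨rfl, e12, e13⟩⟩
            obtain ⟨P', hP'⟩ : ∃ P', P' ∉ ({a1, a2, a3} : Finset α) := by
              by_contra hcon
              push Not at hcon
              have hle : (Finset.univ : Finset α) ⊆ {a1, a2, a3} := fun x _ => hcon x
              have := (Finset.card_le_card hle).trans Finset.card_le_three
              rw [Finset.card_univ] at this
              omega
            simp only [Finset.mem_insert, Finset.mem_singleton, not_or] at hP'
            have hd : ∀ (c r : α), c ≠ r → ∀ y : Pts α β, (flip1 c * flip1 r : Perm (Pts α β)) y ≠ y ↔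
                ∃ b, y = Sum.inl (c, b) ∨ y = Sum.inl (r, b) := by
              intro c r hcr y
              rcases y with ⟨a, b⟩ | e'
              · rw [Perm.mul_apply, flip1_apply, flip1_apply]
                by_cases hac : a = c
                · subst hac; simp [hcr]
                · by_cases har : a = r
                  · subst har; simp [hac]
                  · simp [hac, har]
              · simp [flip1, switch]
            set x := g0 * (flip1 p1 * flip1 p2) * g0⁻¹
            have hxK : x ∈ K := Subgroup.mul_mem _ (Subgroup.mul_mem _ (Subgroup.inv_mem _ hk) (hSK (hflip2 p1 p2)))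
              (Subgroup.inv_mem _ (Subgroup.inv_mem _ hk))
            have hxm : ∀ y, x (g0 y) ≠ g0 y ↔ ∃ b, y = Sum.inl (p1, b) ∨ y = Sum.inl (p2, b) := fun y => by
              rw [← hd p1 p2 (Ne.symm hp21) y]
              simp [x]
            have hyP : P ≠ P' := fun e' => by
              rcases hP with ⟨e'', -, -⟩ | ⟨e'', -, -⟩ | ⟨e'', -, -⟩
              · exact hP'.1 (e'.symm.trans e'')
              · exact hP'.2.1 (e'.symm.trans e'')
              · exact hP'.2.2 (e'.symm.trans e'')
            set y := (flip1 P * flip1 P' : Perm (Pts α β))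
            -- the common point
            obtain ⟨q, hqx, hqy, hmeet⟩ : ∃ q, x q ≠ q ∧ y q ≠ q ∧ ∀ r, x r ≠ r → y r ≠ r → r = q := by
              have hin : ∀ r, x r ≠ r → y r ≠ r →
                  (a1 = P ∧ r = Sum.inl (a1, b1)) ∨ (a2 = P ∧ r = Sum.inl (a2, b2)) ∨ (a3 = P ∧ r = Sum.inl (a3, b3)) := by
                intro r hxr hyr
                obtain ⟨r', rfl⟩ := g0.surjective r
                obtain ⟨c, hc⟩ := (hd P P' hyP _).mp hyr
                have hyx0 : g0 r' ≠ x0 := fun e' => by rcases hc with hc | hc <;> rw [e'] at hc <;> simp [x0] at hc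
                obtain ⟨b, hb⟩ := (hxm r').mp hxr
                rcases hb with rfl | rfl <;> cases b
                · exact absurd hg0x hyx0
                · rw [h1] at hc ⊢
                  rcases hc with hc | hc <;> simp only [Sum.inl.injEq, Prod.mk.injEq] at hc
                  · exact Or.inl ⟨hc.1, rfl⟩
                  · exact absurd hc.1.symm hP'.1
                · rw [h2] at hc ⊢
                  rcases hc with hc | hc <;> simp only [Sum.inl.injEq, Prod.mk.injEq] at hc
                  · exact Or.inr (Or.inl ⟨hc.1, rfl⟩)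
                  · exact absurd hc.1.symm hP'.2.1
                · rw [h3] at hc ⊢
                  rcases hc with hc | hc <;> simp only [Sum.inl.injEq, Prod.mk.injEq] at hc
                  · exact Or.inr (Or.inr ⟨hc.1, rfl⟩)
                  · exact absurd hc.1.symm hP'.2.2
              rcases hP with ⟨e', n1, n2⟩ | ⟨e', n1, n2⟩ | ⟨e', n1, n2⟩
              · refine ⟨Sum.inl (a1, b1), by rw [← h1, hxm]; simp, (hd P P' hyP _).mpr ⟨b1, Or.inl (by rw [e'])⟩, fun r hr hr' => ?_⟩
                rcases hin r hr hr' with h' | h' | h'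
                · exact h'.2
                · exact absurd h'.1.symm n1
                · exact absurd h'.1.symm n2
              · refine ⟨Sum.inl (a2, b2), by rw [← h2, hxm]; simp, (hd P P' hyP _).mpr ⟨b2, Or.inl (by rw [e'])⟩, fun r hr hr' => ?_⟩
                rcases hin r hr hr' with h' | h' | h'
                · exact absurd h'.1.symm n1
                · exact h'.2
                · exact absurd h'.1.symm n2
              · refine ⟨Sum.inl (a3, b3), by rw [← h3, hxm]; simp, (hd P P' hyP _).mpr ⟨b3, Or.inl (by rw [e'])⟩, fun r hr hr' => ?_⟩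
                rcases hin r hr hr' with h' | h' | h'
                · exact absurd h'.1.symm n1
                · exact absurd h'.1.symm n2
                · exact h'.2
            have hyK : y ∈ K := hSK (hflip2 P P')
            exact Perm.alternatingGroup_le_of_isPreprimitive_of_isThreeCycle_mem hprim (commutator_threeCycle hqx hqy hmeet)
              (Subgroup.mul_mem _ (Subgroup.mul_mem _ (Subgroup.mul_mem _ hxK hyK) (Subgroup.inv_mem _ hxK))
                (Subgroup.inv_mem _ hyK))
          · -- degree five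
            have hm : Fintype.card α = 2 := by
              have h' : ∃ j, Fintype.card α = 2 ^ j := ⟨_, hms.trans hs⟩
              obtain ⟨j, hj⟩ := h'
              rcases j with _ | _ | j
              · simp at hj; omega
              · simpa using hj
              · have h4 : 2 ^ (j + 1 + 1) = 4 * 2 ^ j := by ring
                have := Nat.one_le_two_pow (n := j)
                omega
            have hc5 : Fintype.card (Pts α β) = 5 := by omega
            have : Nontrivial (Pts α β) := Fintype.one_lt_card_iff_nontrivial.mp (by omega)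
            have := alternatingGroup.isSimpleGroup (α := Pts α β) (by rw [Nat.card_eq_fintype_card]; omega)
            set K' := K.subgroupOf (alternatingGroup (Pts α β))
            have hK'card : Nat.card K' = Nat.card K := Nat.card_congr (Subgroup.subgroupOfEquivOfLe hKA.le).toEquiv
            have h5dvd : 5 ∣ Nat.card K := by
              have := hprim.toIsPretransitive
              have h' := (stabilizer K x0).index_dvd_card
              rw [index_stabilizer_of_transitive, Nat.card_eq_fintype_card, hc5] at h'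
              exact h'
            have h4dvd : 4 ∣ Nat.card K := by
              obtain ⟨p2', hp2'⟩ := hne2 p1
              let V : Subgroup (Perm (Pts α β)) := S
              refine dvd_trans ?_ (Subgroup.card_dvd_of_le hSK)
              have : Fact (Nat.Prime 2) := ⟨Nat.prime_two⟩
              have hw : 8 ∣ Nat.card (W : Subgroup (Perm (Pts α β))) := by
                refine W.pow_dvd_card_of_pow_dvd_card (n := 3) ?_
                rw [Nat.card_eq_fintype_card, Fintype.card_perm, hc5]; decide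
              have h2 := Subgroup.relIndex_dvd_index_of_normal (alternatingGroup (Pts α β)) (W : Subgroup (Perm (Pts α β)))
              rw [alternatingGroup.index_eq_two, ← Subgroup.inf_relIndex_right, inf_comm] at h2
              have hmul := Subgroup.relIndex_mul_index (inf_le_left : (W : Subgroup (Perm (Pts α β))) ⊓ alternatingGroup (Pts α β) ≤ W)
              have h3 := ((W : Subgroup (Perm (Pts α β))) ⊓ alternatingGroup (Pts α β)).card_mul_index
              rw [← hmul] at h3
              have h4 := (W : Subgroup (Perm (Pts α β))).card_mul_index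
              rw [← h4, ← mul_assoc] at h3
              have h5' := Nat.eq_of_mul_eq_mul_right (Nat.pos_of_ne_zero Subgroup.index_ne_zero_of_finite) h3
              rw [hSdef]
              rcases (Nat.dvd_prime Nat.prime_two).mp h2 with e' | e' <;> rw [e'] at h5' <;> omega
            have h20 : 20 ≤ Nat.card K' := by
              rw [hK'card]
              exact Nat.le_of_dvd Nat.card_pos (Nat.Coprime.mul_dvd_of_dvd_of_dvd (by decide : Nat.Coprime 4 5) h4dvd h5dvd)
            have h60 : Nat.card (alternatingGroup (Pts α β)) = 60 := by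
              rw [nat_card_alternatingGroup, Nat.card_eq_fintype_card, hc5]; rfl
            have hKtop : K' = ⊤ := by
              by_contra hne
              have h1 := AltPair.card_dvd_index_factorial K' hne
              rw [h60] at h1
              have h2 := K'.card_mul_index
              rw [h60] at h2
              have h3 : K'.index ≤ 3 := by nlinarith
              have h4 : 0 < K'.index := Nat.pos_of_ne_zero Subgroup.index_ne_zero_of_finite
              interval_cases K'.index <;> norm_num [Nat.factorial] at h1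
            intro z hz
            have : (⟨z, hz⟩ : alternatingGroup (Pts α β)) ∈ K' := hKtop ▸ Subgroup.mem_top _
            exact this
    · -- halves and pairs
      simp only [hb1, and_false, iff_false]
      have hb0 : Fintype.card β = 0 := by omega
      have hsc : s.card = Fintype.card α := hms.symm
      have hpow : ∃ j, Fintype.card α = 2 ^ j := ⟨_, hms.trans hs⟩
      have hm4 : 4 ≤ Fintype.card α := by
        obtain ⟨j, hj⟩ := hpow
        rcases j with _ | _ | j
        · simp at hj; omega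
        · simp at hj; omega
        · rw [pow_add, pow_add] at hj; nlinarith [Nat.one_le_two_pow (n := j)]
      have htc : 2 ≤ t.card := by omega
      set T : Finset (Pts α β) := overPairs t
      set Tc : Finset (Pts α β) := Tᶜ
      have hTin : ∀ a b, (Sum.inl (a, b) : Pts α β) ∈ T ↔ a ∈ t := fun a b => by
        rw [mem_overPairs]
        exact ⟨fun ⟨a', ha', b', e'⟩ => by simp at e'; exact e'.1 ▸ ha', fun ha => ⟨a, ha, b, rfl⟩⟩
      have hTcard : 2 * T.card = Fintype.card (Pts α β) := by rw [card_overPairs, ht, hcard, hb0, hsc]; rfl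
      have hinl : ∀ y : Pts α β, ∃ a b, y = Sum.inl (a, b) := by
        rintro (⟨a, b⟩ | e')
        · exact ⟨a, b, rfl⟩
        · exact absurd (Fintype.card_pos_iff.mpr ⟨e'⟩) (by omega)
      let H : Subgroup (Perm (Pts α β)) :=
        stabilizer (Perm (Pts α β)) ({(T : Set (Pts α β)), (T : Set (Pts α β))ᶜ} : Set (Set (Pts α β))) ⊓ A
      have hmemH : ∀ g ∈ A, ((∀ y ∈ T, g y ∈ T) ∨ ∀ y ∈ T, g y ∉ T) → g ∈ H := by
        intro g hgA hg
        refine Subgroup.mem_inf.mpr ⟨mem_stabilizer_iff.mpr ?_, hgA⟩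
        have hTc : (T : Set (Pts α β))ᶜ.ncard = (T : Set (Pts α β)).ncard := by
          rw [Set.ncard_compl, Set.ncard_coe_finset, Nat.card_eq_fintype_card]; omega
        rcases hg with hg | hg
        · have e1 : g • (T : Set (Pts α β)) = T := by
            refine Set.eq_of_subset_of_ncard_le ?_ (by rw [Set.ncard_smul_set])
            rintro _ ⟨y, hy, rfl⟩; exact hg y hy
          have e2 : g • (T : Set (Pts α β))ᶜ = (T : Set (Pts α β))ᶜ := by rw [Set.smul_set_compl, e1]
          rw [Set.smul_set_insert, Set.smul_set_singleton, e1, e2]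
        · have e1 : g • (T : Set (Pts α β)) = (T : Set (Pts α β))ᶜ := by
            refine Set.eq_of_subset_of_ncard_le ?_ (by rw [Set.ncard_smul_set, hTc])
            rintro _ ⟨y, hy, rfl⟩; exact hg y hy
          have e2 : g • (T : Set (Pts α β))ᶜ = (T : Set (Pts α β)) := by rw [Set.smul_set_compl, e1, compl_compl]
          rw [Set.smul_set_insert, Set.smul_set_singleton, e1, e2, Set.pair_comm]
      obtain ⟨a0, ha0, a1, ha1, ha01⟩ := Finset.one_lt_card.mp (by omega : 1 < t.card)
      obtain ⟨c0, hc0⟩ : ∃ c, c ∉ t := by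
        by_contra hcon; push Not at hcon
        have := Finset.card_le_card (show Finset.univ ⊆ t from fun x _ => hcon x)
        rw [Finset.card_univ] at this; omega
      obtain ⟨d0, hd0, hdc⟩ : ∃ d, d ∉ t ∧ d ≠ c0 := by
        by_contra hcon; push Not at hcon
        have := Finset.card_le_card (show Finset.univ ⊆ insert c0 t from fun x _ => by
          rw [Finset.mem_insert]; by_cases hx : x ∈ t
          · exact Or.inr hx
          · exact Or.inl (hcon x hx))
        rw [Finset.card_univ, Finset.card_insert_of_notMem hc0] at this; omega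
      refine not_uniqueMax (X := H) (Y := cen ⊓ A) ?_ (cen_inf_ne hA h5) ?_ (le_inf (inf_le_left.trans hWc) inf_le_right) ?_
      · refine lt_of_le_of_ne inf_le_right fun e' => ?_
        set g : Perm (Pts α β) := swap (Sum.inl (a0, false)) (Sum.inl (c0, false)) * swap (Sum.inl (d0, false)) (Sum.inl (d0, true))
        have hg : g ∈ alternatingGroup (Pts α β) := by
          rw [Perm.mem_alternatingGroup, map_mul, Perm.sign_swap (by simp [show a0 ≠ c0 from fun e'' => hc0 (e'' ▸ ha0)]),
            Perm.sign_swap (by simp)]; rfl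
        have hac : a0 ≠ c0 := fun e'' => hc0 (e'' ▸ ha0)
        have had : a0 ≠ d0 := fun e'' => hd0 (e'' ▸ ha0)
        have h1d : a1 ≠ d0 := fun e'' => hd0 (e'' ▸ ha1)
        have h1c : a1 ≠ c0 := fun e'' => hc0 (e'' ▸ ha1)
        have hgH := ((le_inf_iff.mp e'.ge).1 (halt hg))
        rw [mem_stabilizer_iff, Set.smul_set_insert, Set.smul_set_singleton] at hgH
        have h1 : g • (T : Set (Pts α β)) ∈ ({(T : Set (Pts α β)), (T : Set (Pts α β))ᶜ} : Set (Set (Pts α β))) := by
          rw [← hgH]; exact Set.mem_insert _ _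
        have hga : g (Sum.inl (a0, false)) = Sum.inl (c0, false) := by
          simp [g, Perm.mul_apply, Equiv.swap_apply_def, had]
        have hgb : g (Sum.inl (a1, false)) = Sum.inl (a1, false) := by
          simp [g, Perm.mul_apply, Equiv.swap_apply_def, h1d, h1c, Ne.symm ha01]
        rcases h1 with h1 | h1
        · have : g (Sum.inl (a0, false)) ∈ (T : Set (Pts α β)) := h1 ▸ Set.smul_mem_smul_set ((hTin _ _).mpr ha0)
          rw [hga] at this
          exact hc0 ((hTin _ _).mp this)
        · have : g (Sum.inl (a1, false)) ∈ (T : Set (Pts α β))ᶜ := h1 ▸ Set.smul_mem_smul_set ((hTin _ _).mpr ha1)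
          rw [hgb] at this
          exact this ((hTin _ _).mpr ha1)
      · intro g hg
        obtain ⟨q, hq, hqa⟩ := lifted_apply (hW ▸ hg.1)
        refine hmemH g hg.2 ?_
        rcases hhalf q hq with h' | h'
        · left
          intro y hy
          obtain ⟨a, ha, b, rfl⟩ := mem_overPairs.mp hy
          obtain ⟨b', hb'⟩ := hqa a b
          rw [hb']; exact (hTin _ _).mpr (h' a ha)
        · right
          intro y hy
          obtain ⟨a, ha, b, rfl⟩ := mem_overPairs.mp hy
          obtain ⟨b', hb'⟩ := hqa a b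
          rw [hb', hTin]; exact h' a ha
      · intro M hHM hCM
        have hSM : ∀ g ∈ S, g ∈ M := fun g hg => hCM ⟨hWc hg.1, hg.2⟩
        have hto : ∀ x y : Pts α β, ∃ g ∈ M, g x = y := fun x y => by
          obtain ⟨a, b, rfl⟩ := hinl x
          obtain ⟨a', b', rfl⟩ := hinl y
          obtain ⟨g, hg, e'⟩ := hStr a (hms2 a) a' (hms2 a') b b'
          exact ⟨g, hSM g hg, e'⟩
        set x0 : Pts α β := Sum.inl (a0, false)
        set y0 : Pts α β := Sum.inl (a1, false)
        have hin3 : ∀ x y : Pts α β, x ∈ T → y ∈ T → x ≠ x0 → y ≠ x0 → x ≠ y → ∃ g ∈ M, g x0 = x0 ∧ g x = y := by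
          intro x y hx hy hx0 hy0 hxy
          obtain ⟨z, hz, hzn⟩ : ∃ z ∈ T, z ∉ ({x0, x, y} : Finset (Pts α β)) := by
            apply Finset.exists_mem_notMem_of_card_lt_card
            have := Finset.card_le_three (a := x0) (b := x) (c := y)
            rw [card_overPairs] ; omega
          simp only [Finset.mem_insert, Finset.mem_singleton, not_or] at hzn
          refine ⟨swap x z * swap x y, hHM (hmemH _ (halt ?_) (Or.inl fun w hw => ?_)), ?_, ?_⟩
          · rw [Perm.mem_alternatingGroup, map_mul, Perm.sign_swap hxy, Perm.sign_swap (Ne.symm hzn.2.1)]; rfl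
          · simp only [Perm.mul_apply, Equiv.swap_apply_def]
            split_ifs <;> assumption
          · simp [Perm.mul_apply, Equiv.swap_apply_of_ne_of_ne, Ne.symm hx0, Ne.symm hy0, Ne.symm hzn.1]
          · rw [Perm.mul_apply, swap_apply_left, swap_apply_of_ne_of_ne (Ne.symm hxy) (Ne.symm hzn.2.2)]
        have hy0 : y0 ∈ T := (hTin _ _).mpr ha1
        have hy0x : y0 ≠ x0 := by simp [x0, y0, Ne.symm ha01]
        have hone : ∀ x : Pts α β, x ≠ x0 → ∃ g ∈ M, g x0 = x0 ∧ g x = y0 := by
          intro x hx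
          have hT1 : ∀ x : Pts α β, x ∈ T → x ≠ x0 → ∃ g ∈ M, g x0 = x0 ∧ g x = y0 := fun x hxT hx => by
            by_cases e' : x = y0
            · exact ⟨1, M.one_mem, rfl, e'⟩
            · exact hin3 x y0 hxT hy0 hx hy0x e'
          by_cases hxT : x ∈ T
          · exact hT1 x hxT hx
          obtain ⟨c, b, rfl⟩ := hinl x
          have hct : c ∉ t := fun h' => hxT ((hTin _ _).mpr h')
          set l : Perm (Pts α β) := liftPerm (swap c a1)
          have hlC : l ∈ M := hCM ⟨liftPerm_mem _, halt (Perm.mem_alternatingGroup.mpr (sign_liftPerm _))⟩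
          have hl0 : l x0 = x0 := by
            simp [l, x0, liftPerm, Equiv.swap_apply_of_ne_of_ne (show a0 ≠ c from fun e' => hct (e' ▸ ha0)) ha01]
          have hlx : l (Sum.inl (c, b)) = Sum.inl (a1, b) := by simp [l, liftPerm]
          obtain ⟨g, hg, hg0, hgy⟩ := hT1 (Sum.inl (a1, b)) ((hTin _ _).mpr ha1) (by simp [x0, Ne.symm ha01])
          exact ⟨g * l, Subgroup.mul_mem _ hg hlC, by rw [Perm.mul_apply, hl0, hg0], by rw [Perm.mul_apply, hlx, hgy]⟩
        have h2t : IsMultiplyPretransitive M (Pts α β) 2 := by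
          rw [is_two_pretransitive_iff]
          intro a b c d hab hcd
          obtain ⟨k1, hk1, hk1a⟩ := hto a x0
          obtain ⟨k2, hk2, hk2c⟩ := hto c x0
          obtain ⟨g1, hg1, hg10, hg1b⟩ := hone (k1 b) (fun e' => hab (k1.injective (hk1a.trans e'.symm)))
          obtain ⟨g2, hg2, hg20, hg2d⟩ := hone (k2 d) (fun e' => hcd (k2.injective (hk2c.trans e'.symm)))
          refine ⟨⟨k2⁻¹ * g2⁻¹ * (g1 * k1), Subgroup.mul_mem _ (Subgroup.mul_mem _ (Subgroup.inv_mem _ hk2)
            (Subgroup.inv_mem _ hg2)) (Subgroup.mul_mem _ hg1 hk1)⟩, ?_, ?_⟩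
          · show (k2⁻¹ * g2⁻¹ * (g1 * k1)) a = c
            simp only [Perm.mul_apply, hk1a, hg10, Perm.inv_eq_iff_eq]
            rw [hk2c, hg20]
          · show (k2⁻¹ * g2⁻¹ * (g1 * k1)) b = d
            simp only [Perm.mul_apply, hg1b, Perm.inv_eq_iff_eq]
            rw [hg2d]
        have hprim : IsPreprimitive M (Pts α β) := isPreprimitive_of_is_two_pretransitive h2t
        rcases hA with rfl | rfl
        · have hf : (flip1 a0 : Perm (Pts α β)) ∈ M := hCM ⟨switch_mem _, Subgroup.mem_top _⟩
          rw [Perm.subgroup_eq_top_of_isPreprimitive_of_isSwap_mem hprim (flip1 a0)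
            (Perm.card_support_eq_two.mp (by rw [flip1_eq_swap, Perm.card_support_swap (by simp)])) hf]
        · set p : Pts α β := Sum.inl (a1, true)
          have hp : p ∈ T := (hTin _ _).mpr ha1
          have hx0T : x0 ∈ T := (hTin _ _).mpr ha0
          refine Perm.alternatingGroup_le_of_isPreprimitive_of_isThreeCycle_mem hprim
            (Perm.isThreeCycle_swap_mul_swap_same (a := x0) (b := y0) (c := p) hy0x.symm
              (by simp [x0, p, ha01]) (by simp [y0, p])) (hHM (hmemH _ ?_ (Or.inl fun w hw => ?_)))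
          · rw [Perm.mem_alternatingGroup, map_mul, Perm.sign_swap hy0x.symm, Perm.sign_swap (by simp [x0, p, ha01])]; rfl
          · simp only [Perm.mul_apply, Equiv.swap_apply_def]
            split_ifs <;> assumption
  · -- intransitive subgroup and pairs
    simp only [hms, false_and, iff_false]
    set T : Set (Pts α β) := ((overPairs s : Finset (Pts α β)) : Set (Pts α β))
    have hTin : ∀ a b, (Sum.inl (a, b) : Pts α β) ∈ T ↔ a ∈ s := fun a b => by
      rw [Finset.mem_coe, mem_overPairs]
      exact ⟨fun ⟨a', ha', b', e'⟩ => by simp at e'; exact e'.1 ▸ ha', fun ha => ⟨a, ha, b, rfl⟩⟩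
    obtain ⟨a0, ha0⟩ : s.Nonempty := Finset.card_pos.mp (by omega)
    obtain ⟨c0, hc0⟩ : ∃ c, c ∉ s := by
      by_contra hcon; push Not at hcon
      exact hms (by rw [← Finset.card_univ]; exact le_antisymm (Finset.card_le_card fun x _ => hcon x) hs_le)
    have hne : T.Nonempty := ⟨_, (hTin a0 false).mpr ha0⟩
    have hnc : Tᶜ.Nonempty := ⟨Sum.inl (c0, false), fun h' => hc0 ((hTin _ _).mp h')⟩
    have hcT : Nat.card (Pts α β) ≠ 2 * T.ncard := by
      rw [Set.ncard_coe_finset, card_overPairs, Nat.card_eq_fintype_card]; omega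
    set X := stabilizer (Perm (Pts α β)) T ⊓ A
    have hXmax : IsMax A X := by
      rcases hA with rfl | rfl
      · have hc := Perm.isCoatom_stabilizer hne hnc hcT
        have hX : X = stabilizer (Perm (Pts α β)) T := inf_top_eq _
        rw [hX]
        exact ⟨lt_top_iff_ne_top.mpr hc.1, fun K hK _ => hc.2 K hK⟩
      · have hc := alternatingGroup.isCoatom_stabilizer hne hnc hcT
        have hX : X = (stabilizer (alternatingGroup (Pts α β)) T).map (alternatingGroup (Pts α β)).subtype := by
          ext g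
          constructor
          · rintro ⟨h1, h2⟩; exact ⟨⟨g, h2⟩, h1, rfl⟩
          · rintro ⟨g', h1, rfl⟩; exact ⟨h1, g'.2⟩
        rw [hX]
        have htop : (⊤ : Subgroup (alternatingGroup (Pts α β))).map (alternatingGroup (Pts α β)).subtype = alternatingGroup (Pts α β) := by
          rw [← MonoidHom.range_eq_map, Subgroup.range_subtype]
        refine ⟨lt_of_le_of_ne (Subgroup.map_subtype_le _) fun e' =>
          hc.1 (Subgroup.map_injective (Subgroup.subtype_injective _) (e'.trans htop.symm)), fun K hK hKA => ?_⟩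
        have hKK : (K.subgroupOf (alternatingGroup (Pts α β))).map (alternatingGroup (Pts α β)).subtype = K := by
          rw [Subgroup.subgroupOf_map_subtype, inf_eq_left.mpr hKA]
        rw [← hKK] at hK
        rw [← hKK, hc.2 _ (lt_of_le_of_ne (Subgroup.map_subtype_le_map_subtype.mp hK.le) fun e' => hK.ne (by rw [e'])), htop]
    refine not_uniqueMax (X := X) (Y := cen ⊓ A) hXmax.1 (cen_inf_ne hA h5) (le_inf ?_ inf_le_right)
      (le_inf (inf_le_left.trans hWc) inf_le_right) ?_
    · intro g hg
      rw [mem_stabilizer_iff]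
      refine Set.eq_of_subset_of_ncard_le ?_ (by rw [Set.ncard_smul_set])
      rintro _ ⟨y, hy, rfl⟩
      obtain ⟨a, ha, b, rfl⟩ := mem_overPairs.mp hy
      obtain ⟨q, hq, hqa⟩ := lifted_apply (hW ▸ hg.1)
      obtain ⟨b', hb'⟩ := hqa a b
      show g (Sum.inl (a, b)) ∈ T
      rw [hb']; exact (hTin _ _).mpr (hinv q hq a ha)
    · intro M hXM hCM
      by_contra hAM
      have hX' : X ≤ M ⊓ A := le_inf hXM inf_le_right
      have heq : X = M ⊓ A := hX'.eq_or_lt.resolve_right fun hlt =>
        hAM ((hXmax.2 _ hlt inf_le_right).symm.le.trans inf_le_left)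
      have hl : (liftPerm (swap a0 c0) : Perm (Pts α β)) ∈ X := by
        rw [heq]
        have h' : (liftPerm (swap a0 c0) : Perm (Pts α β)) ∈ A := halt (Perm.mem_alternatingGroup.mpr (sign_liftPerm _))
        exact ⟨hCM ⟨liftPerm_mem _, h'⟩, h'⟩
      have hst : (liftPerm (swap a0 c0) : Perm (Pts α β)) • T = T := hl.1
      have : (liftPerm (swap a0 c0) : Perm (Pts α β)) (Sum.inl (a0, false)) ∈ T :=
        hst ▸ Set.smul_mem_smul_set ((hTin _ _).mpr ha0)
      rw [show (liftPerm (swap a0 c0) : Perm (Pts α β)) (Sum.inl (a0, false)) = Sum.inl (c0, false) by simp [liftPerm]] at this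
      exact hc0 ((hTin _ _).mp this)

/-- The criterion for a big subgroup of `Perm (Fin n)`. -/
theorem uniqueMax_iff {n : ℕ} (hn : 5 ≤ n) {A : Subgroup (Perm (Fin n))} (hA : IsBig A)
    (W : Sylow 2 (Perm (Fin n))) :
    UniqueMax A ((W : Subgroup (Perm (Fin n))) ⊓ A) ↔ ∃ k : ℕ, 2 ≤ k ∧ n = 2 ^ k + 1 := by
  have : Fact (Nat.Prime 2) := ⟨Nat.prime_two⟩
  have : Subsingleton (Fin (n % 2)) := Fintype.card_le_one_iff_subsingleton.mp (by simp; omega)
  let e : Pts (Fin (n / 2)) (Fin (n % 2)) ≃ Fin n := Fintype.equivFinOfCardEq (by simp; omega)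
  obtain ⟨Q⟩ : Nonempty (Sylow 2 (Perm (Fin (n / 2)))) := inferInstance
  obtain ⟨s, t, hs, hts, ht, hinv, htr, hhalf⟩ := hasShape_fin (n / 2) (by omega) Q
  obtain ⟨W0, hW0⟩ := exists_sylow_lifted (β := Fin (n % 2)) Q
  let f := e.permCongrHom
  obtain ⟨c, hc⟩ := MulAction.exists_smul_eq (Perm (Fin n)) (W0.mapSurjective (f := f.toMonoidHom) f.surjective) W
  let φ : Perm (Pts (Fin (n / 2)) (Fin (n % 2))) ≃* Perm (Fin n) := f.trans (MulAut.conj c)
  let A0 := A.comap φ.toMonoidHom
  have hA0 : IsBig A0 := by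
    rcases hA with rfl | rfl
    · exact Or.inl (Subgroup.comap_top _)
    · right
      ext g
      show c * e.permCongr g * c⁻¹ ∈ alternatingGroup (Fin n) ↔ _
      rw [Perm.mem_alternatingGroup, Perm.mem_alternatingGroup]
      simp [mul_comm, Perm.sign_permCongr]
      rw [← mul_assoc, Int.units_mul_self, one_mul]
  have hWφ : (W : Subgroup (Perm (Fin n))).comap φ.toMonoidHom = W0 := by
    rw [← hc]
    ext g
    show c * f g * c⁻¹ ∈ ((W0 : Subgroup _).map f.toMonoidHom).map (MulAut.conj c).toMonoidHom ↔ _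
    rw [Subgroup.mem_map_equiv, MulAut.conj_symm_apply, show c⁻¹ * (c * f g * c⁻¹) * c = f g by group,
      Subgroup.mem_map_equiv, MulEquiv.symm_apply_apply]
  have hinvariant : ∀ X : Subgroup (Perm (Fin n)),
      UniqueMax A X ↔ UniqueMax A0 (X.comap φ.toMonoidHom) := fun X => by
    let o := φ.symm.mapSubgroup
    have ho : ∀ Y : Subgroup (Perm (Fin n)), o Y = Y.comap φ.toMonoidHom := fun Y =>
      Subgroup.map_equiv_eq_comap_symm φ.symm Y
    have hmax : ∀ M, IsMax A M ↔ IsMax A0 (o M) := fun M => by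
      simp only [IsMax, A0, ← ho, o.lt_iff_lt]
      refine and_congr Iff.rfl ⟨fun h K hK hKA => ?_, fun h K hK hKA => ?_⟩
      · obtain ⟨K', rfl⟩ := o.surjective K
        rw [h K' (o.lt_iff_lt.mp hK) (o.le_iff_le.mp hKA)]
      · exact o.injective (h (o K) (o.lt_iff_lt.mpr hK) (o.le_iff_le.mpr hKA))
    constructor
    · rintro ⟨M, ⟨h1, h2⟩, hu⟩
      refine ⟨o M, ⟨(hmax M).mp h1, by rw [← ho]; exact o.le_iff_le.mpr h2⟩, fun N hN => ?_⟩
      obtain ⟨N', rfl⟩ := o.surjective N
      rw [← ho] at hN
      rw [hu N' ⟨(hmax N').mpr hN.1, o.le_iff_le.mp hN.2⟩]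
    · rintro ⟨N, hN, hu⟩
      obtain ⟨M, rfl⟩ := o.surjective N
      rw [← ho] at hN
      refine ⟨M, ⟨(hmax M).mpr hN.1, o.le_iff_le.mp hN.2⟩, fun M' hM' => o.injective ?_⟩
      exact hu _ ⟨(hmax M').mp hM'.1, by rw [← ho]; exact o.le_iff_le.mpr hM'.2⟩
  rw [hinvariant, Subgroup.comap_inf, hWφ,
    sylow_two_model hA0 (by rw [Fintype.card_congr e, Fintype.card_fin]; exact hn) W0 Q hW0 s t
      (by rw [hs]) hts (ht (by simp; omega)) hinv htr hhalf]
  simp only [Fintype.card_fin, hs]
  constructor
  · rintro ⟨h1, h2⟩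
    refine ⟨Nat.log 2 (n / 2) + 1, ?_, ?_⟩
    · have : 1 ≤ Nat.log 2 (n / 2) := Nat.log_pos one_lt_two (by omega)
      omega
    · rw [pow_succ, ← h1]; omega
  · rintro ⟨k, hk, rfl⟩
    obtain ⟨j, rfl⟩ : ∃ j, k = j + 1 := ⟨k - 1, by omega⟩
    rw [show (2 ^ (j + 1) + 1) / 2 = 2 ^ j by rw [pow_succ]; omega, Nat.log_pow one_lt_two]
    exact ⟨rfl, by rw [pow_succ]; omega⟩

end Cfsg.Agent.SylTwoMax
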